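import Cfsg.Agent.Lib.FgsC.OrbitStab.Defs

/-!
# S4070, piece G2a: blocks

A soluble permutation group has a set whose stabiliser has derived length at most three: five
inequivalent sets in a smallest block of at least four points, glued by five colours on the blocks.
-/

set_option autoImplicit false
set_option linter.unusedSectionVars false
set_option linter.style.haveILetI false

universe u v

namespace CfsgLib.OrbitStab.Blocks

open CfsgLib.OrbitStab MulAction

variable {A : Type u} [Group A]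

theorem dser_zero (H : Subgroup A) : dser H 0 = H := by
  rw [dser, derivedSeries_zero, ← MonoidHom.range_eq_map, Subgroup.range_subtype]

theorem dser_succ (H : Subgroup A) (k : ℕ) : dser H (k + 1) = ⁅dser H k, dser H k⁆ := by
  rw [dser, derivedSeries_succ, Subgroup.map_commutator]

theorem dser_mono {H K : Subgroup A} (h : H ≤ K) : ∀ k, dser H k ≤ dser K k
  | 0 => by rw [dser_zero, dser_zero]; exact h
  | k + 1 => by
    rw [dser_succ, dser_succ]
    exact Subgroup.commutator_mono (dser_mono h k) (dser_mono h k)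

theorem dser_add (H : Subgroup A) (i : ℕ) : ∀ j, dser H (i + j) = dser (dser H i) j
  | 0 => by rw [Nat.add_zero, dser_zero (dser H i)]
  | j + 1 => by rw [← Nat.add_assoc, dser_succ, dser_succ (dser H i), dser_add H i j]

theorem dser_map {B : Type v} [Group B] (f : A →* B) (H : Subgroup A) :
    ∀ k, (dser H k).map f = dser (H.map f) k
  | 0 => by rw [dser_zero, dser_zero]
  | k + 1 => by rw [dser_succ, dser_succ, Subgroup.map_commutator, dser_map f H k]

section TrivOn

variable {X : Type v} [MulAction A X]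

/-- The `k`th derived subgroup of `H` fixes every point of `Y`. -/
def TrivOn (H : Subgroup A) (k : ℕ) (Y : Set X) : Prop :=
  ∀ g ∈ dser H k, ∀ x ∈ Y, g • x = x

theorem TrivOn.mono {H K : Subgroup A} {k : ℕ} {Y : Set X} (h : TrivOn K k Y) (hle : H ≤ K) :
    TrivOn H k Y := fun g hg => h g (dser_mono hle k hg)

theorem TrivOn.add {H L : Subgroup A} {i j : ℕ} {Y : Set X} (hi : dser H i ≤ L)
    (hj : TrivOn L j Y) : TrivOn H (i + j) Y := fun g hg =>
  hj g (dser_mono hi j (dser_add H i j ▸ hg))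

/-- the derived length of a permutation group of bounded degree -/
theorem trivOn_of_perm {H : Subgroup A} {m k : ℕ} {Y : Set X} [Finite X]
    (hinv : ∀ g ∈ H, ∀ x, g • x ∈ Y ↔ x ∈ Y) (hY : Y.ncard ≤ m)
    (hk : derivedSeries (Equiv.Perm (Fin m)) k = ⊥) : TrivOn H k Y := by
  classical
  haveI := Fintype.ofFinite Y
  obtain ⟨e⟩ : Nonempty (Y ↪ Fin m) := Function.Embedding.nonempty_of_card_le (by
    rw [← Nat.card_eq_fintype_card, Nat.card_coe_set_eq, Fintype.card_fin]; exact hY)
  let φ : H →* Equiv.Perm Y :=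
    { toFun := fun g => (MulAction.toPerm (g : A) : Equiv.Perm X).subtypePerm fun x => hinv g g.2 x
      map_one' := Equiv.ext fun x => Subtype.ext (one_smul A (x : X))
      map_mul' := fun g h => Equiv.ext fun x => Subtype.ext (mul_smul (g : A) (h : A) (x : X)) }
  rintro g ⟨g', hg', rfl⟩ x hx
  have h1 : Equiv.Perm.viaEmbeddingHom e (φ g') ∈ derivedSeries (Equiv.Perm (Fin m)) k :=
    map_derivedSeries_le_derivedSeries ((Equiv.Perm.viaEmbeddingHom e).comp φ) k ⟨g', hg', rfl⟩
  rw [hk, Subgroup.mem_bot] at h1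
  have h2 : φ g' = 1 :=
    Equiv.Perm.viaEmbeddingHom_injective e (h1.trans (map_one _).symm)
  exact congrArg (fun t : Equiv.Perm Y => ((t ⟨x, hx⟩ : Y) : X)) h2

end TrivOn

theorem derived_two : derivedSeries (Equiv.Perm (Fin 2)) 1 = ⊥ := by
  rw [derivedSeries_succ, derivedSeries_zero, eq_bot_iff, Subgroup.commutator_le]
  intro a _ b _
  rw [Subgroup.mem_bot]
  exact commutatorElement_eq_one_iff_mul_comm.2
    ((show ∀ a b : Equiv.Perm (Fin 2), a * b = b * a by decide +kernel) a b)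

theorem derived_three : derivedSeries (Equiv.Perm (Fin 3)) 2 = ⊥ := by
  have h1 : derivedSeries (Equiv.Perm (Fin 3)) 1 ≤ (Equiv.Perm.sign (α := Fin 3)).ker := by
    rw [derivedSeries_succ, derivedSeries_zero, Subgroup.commutator_le]
    intro a _ b _
    rw [MonoidHom.mem_ker, map_commutatorElement]
    exact commutatorElement_eq_one_iff_mul_comm.2 (mul_comm _ _)
  rw [derivedSeries_succ, eq_bot_iff, Subgroup.commutator_le]
  intro a ha b hb
  rw [Subgroup.mem_bot]
  have key : ∀ a b : Equiv.Perm (Fin 3), Equiv.Perm.sign a = 1 → Equiv.Perm.sign b = 1 →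
      a * b = b * a := by decide +kernel
  exact commutatorElement_eq_one_iff_mul_comm.2
    (key a b (MonoidHom.mem_ker.1 (h1 ha)) (MonoidHom.mem_ker.1 (h1 hb)))

/-- the double transpositions and the identity -/
def four : Subgroup (Equiv.Perm (Fin 4)) where
  carrier := {g | g * g = 1 ∧ Equiv.Perm.sign g = 1}
  one_mem' := ⟨one_mul 1, map_one _⟩
  mul_mem' {a b} ha hb := (show ∀ a b : Equiv.Perm (Fin 4),
    a * a = 1 ∧ Equiv.Perm.sign a = 1 → b * b = 1 ∧ Equiv.Perm.sign b = 1 →
      a * b * (a * b) = 1 ∧ Equiv.Perm.sign (a * b) = 1 by decide +kernel) a b ha hb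
  inv_mem' {a} ha := ⟨by rw [← mul_inv_rev, ha.1, inv_one], by rw [map_inv, ha.2, inv_one]⟩

theorem derived_four : derivedSeries (Equiv.Perm (Fin 4)) 3 = ⊥ := by
  have h1 : derivedSeries (Equiv.Perm (Fin 4)) 1 ≤ (Equiv.Perm.sign (α := Fin 4)).ker := by
    rw [derivedSeries_succ, derivedSeries_zero, Subgroup.commutator_le]
    intro a _ b _
    rw [MonoidHom.mem_ker, map_commutatorElement]
    exact commutatorElement_eq_one_iff_mul_comm.2 (mul_comm _ _)
  have h2 : derivedSeries (Equiv.Perm (Fin 4)) 2 ≤ four := by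
    rw [derivedSeries_succ, Subgroup.commutator_le]
    intro a ha b hb
    rw [commutatorElement_def]
    exact (show ∀ a b : Equiv.Perm (Fin 4), Equiv.Perm.sign a = 1 → Equiv.Perm.sign b = 1 →
      a * b * a⁻¹ * b⁻¹ * (a * b * a⁻¹ * b⁻¹) = 1 ∧
        Equiv.Perm.sign (a * b * a⁻¹ * b⁻¹) = 1 by decide +kernel) a b
      (MonoidHom.mem_ker.1 (h1 ha)) (MonoidHom.mem_ker.1 (h1 hb))
  rw [derivedSeries_succ, eq_bot_iff, Subgroup.commutator_le]
  intro a ha b hb
  rw [Subgroup.mem_bot]
  exact commutatorElement_eq_one_iff_mul_comm.2 ((show ∀ a b : Equiv.Perm (Fin 4),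
    a * a = 1 ∧ Equiv.Perm.sign a = 1 → b * b = 1 ∧ Equiv.Perm.sign b = 1 → a * b = b * a by
      decide +kernel) a b (h2 ha) (h2 hb))

/-- weights on few blocks: no value three times, no two alike up to a permutation -/
def pat : (m : ℕ) → Fin 5 → Fin m → ℕ
  | 2 => ![![0, 0], ![0, 1], ![0, 2], ![1, 1], ![1, 2]]
  | 3 => ![![0, 0, 1], ![0, 0, 2], ![0, 1, 2], ![0, 1, 1], ![1, 1, 2]]
  | 4 => ![![0, 0, 1, 1], ![0, 0, 2, 2], ![1, 1, 2, 2], ![0, 0, 1, 2], ![0, 1, 1, 2]]
  | _ => fun _ _ => 0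

theorem pat_le {m : ℕ} (hm : m ∈ [2, 3, 4]) : ∀ i x, pat m i x ≤ 2 := by
  fin_cases hm <;> decide +kernel

theorem pat_two {m : ℕ} (hm : m ∈ [2, 3, 4]) :
    ∀ i v, v ≤ 2 → (Finset.univ.filter fun x => pat m i x = v).card ≤ 2 := by
  intro i v hv
  fin_cases hm <;> interval_cases v <;> revert i <;> decide +kernel

theorem pat_inj {m : ℕ} (hm : m ∈ [2, 3, 4]) :
    ∀ i j, (∑ x, 5 ^ pat m i x) = (∑ x, 5 ^ pat m j x) → i = j := by
  fin_cases hm <;> decide +kernel

variable {K : Type u} [Group K]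

theorem card_le_four {B : Type u} [Finite B] [MulAction K B] (h4 : Nat.card B ≤ 4)
    (H : Subgroup K) : Triv H 3 B := fun g hg x =>
  trivOn_of_perm (Y := Set.univ) (fun _ _ _ => by simp) (by rwa [Set.ncard_univ]) derived_four
    g hg x (Set.mem_univ x)

/-- five sets in a block -/
theorem five_block (hP : StmtPrimSubsets.{u}) [Finite K] (hs : Group.IsSolvable K) {B : Type u}
    [Finite B] [MulAction K B] [IsPretransitive K B] (a : B) (h4 : 4 ≤ Nat.card B)
    (hmin : ∀ M : Subgroup K, stabilizer K a ≤ M → M ≠ ⊤ →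
      Nat.card M ≤ 3 * Nat.card (stabilizer K a)) :
    ∃ T : Fin 5 → Set B, (∀ (i j : Fin 5) (k : K), (∀ x, k • x ∈ T j ↔ x ∈ T i) → i = j) ∧
      ∀ i, Triv (setStab K (T i)) 3 B := by
  classical
  rcases h4.eq_or_lt with h4' | h5
  · -- four points
    have hT : ∀ i : Fin 5, ∃ t : Set B, t.ncard = (i : ℕ) := fun i => by
      obtain ⟨t, -, ht⟩ := Set.exists_subset_card_eq (s := (Set.univ : Set B)) (n := (i : ℕ))
        (by rw [Set.ncard_univ]; omega)
      exact ⟨t, ht⟩
    choose T hT using hT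
    refine ⟨T, fun i j k hk => ?_, fun i => card_le_four h4'.ge _⟩
    have h1 : T i = (fun x => k • x) ⁻¹' T j := Set.ext fun x => (hk x).symm
    have h2 : (fun x => k • x) '' T i = T j := by
      rw [h1]; exact Set.image_preimage_eq _ (MulAction.surjective k)
    have h3 := hT j
    rw [← h2, Set.ncard_image_of_injective _ (MulAction.injective k), hT i] at h3
    exact Fin.ext h3
  obtain ⟨M, hM, haM⟩ : ∃ M : Subgroup K, IsCoatom M ∧ stabilizer K a ≤ M := by
    refine (eq_top_or_exists_le_coatom (stabilizer K a)).resolve_left fun h => ?_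
    have h1 := index_stabilizer_of_transitive K a
    rw [h, Subgroup.index_top] at h1
    omega
  choose co hco using fun x : B => exists_smul_eq K a x
  let π : B → K ⧸ M := fun x => (co x : K ⧸ M)
  have hπ : ∀ (g : K) x, π (g • x) = g • π x := fun g x => by
    show _ = ((g * co x : K) : K ⧸ M)
    refine QuotientGroup.eq.2 (haM ?_)
    rw [mem_stabilizer_iff, mul_smul, mul_smul, hco, inv_smul_eq_iff, hco]
  have hπa : ∀ g : K, π (g • a) = (g : K ⧸ M) := fun g => QuotientGroup.eq.2 (haM (by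
    rw [mem_stabilizer_iff, mul_smul, inv_smul_eq_iff, hco]))
  set d := ({x | π x = π a} : Set B).ncard with hd
  have hfib : ∀ δ : K ⧸ M, ({x | π x = δ} : Set B).ncard = d := fun δ => by
    obtain ⟨g, rfl⟩ := exists_smul_eq K (π a) δ
    rw [hd]
    rw [show ({x | π x = g • π a} : Set B) = (fun x => g • x) '' {x | π x = π a} from ?_,
      Set.ncard_image_of_injective _ (MulAction.injective g)]
    ext x
    refine ⟨fun hx => ⟨g⁻¹ • x, ?_, smul_inv_smul g x⟩, ?_⟩
    · show π (g⁻¹ • x) = π a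
      rw [hπ, show π x = g • π a from hx, inv_smul_smul]
    · rintro ⟨y, hy, rfl⟩
      show π (g • y) = g • π a
      rw [hπ, show π y = π a from hy]
  have hcardB : Nat.card B = Nat.card (K ⧸ M) * d := by
    haveI := Fintype.ofFinite (K ⧸ M)
    rw [← Nat.card_congr (Equiv.sigmaFiberEquiv π), Nat.card_sigma]
    rw [Finset.sum_congr rfl (g := fun _ => d) (fun δ _ => ?_), Finset.sum_const, smul_eq_mul,
      Finset.card_univ, Nat.card_eq_fintype_card]
    rw [← hfib δ, ← Nat.card_coe_set_eq]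
    rfl
  have hd3 : d ≤ 3 := by
    have h1 := hmin M haM hM.1
    have h2 : Nat.card B * Nat.card (stabilizer K a) = Nat.card K := by
      rw [← index_stabilizer_of_transitive K a, mul_comm, Subgroup.card_mul_index]
    have h3 : Nat.card (K ⧸ M) * Nat.card M = Nat.card K := by
      rw [← Subgroup.index_eq_card, mul_comm, Subgroup.card_mul_index]
    have h4 : Nat.card (K ⧸ M) * (d * Nat.card (stabilizer K a)) ≤
        Nat.card (K ⧸ M) * (3 * Nat.card (stabilizer K a)) := by
      rw [← mul_assoc, ← hcardB, h2, ← h3]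
      exact Nat.mul_le_mul_left _ h1
    exact Nat.le_of_mul_le_mul_right (Nat.le_of_mul_le_mul_left h4 Nat.card_pos) Nat.card_pos
  have hd1 : 1 ≤ d := (Set.ncard_pos (Set.toFinite _)).2 ⟨a, rfl⟩
  -- sets with given weights
  have hset : ∀ w : K ⧸ M → ℕ, (∀ δ, w δ ≤ d) →
      ∃ S : Set B, ∀ δ, (S ∩ {x | π x = δ}).ncard = w δ := fun w hw => by
    choose t ht1 ht2 using fun δ =>
      Set.exists_subset_card_eq (s := ({x | π x = δ} : Set B)) (n := w δ) (by rw [hfib]; exact hw δ)
    refine ⟨{x | x ∈ t (π x)}, fun δ => ?_⟩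
    rw [← ht2 δ]
    congr 1
    ext x
    exact ⟨fun ⟨h1, h2⟩ => h2 ▸ h1, fun h => ⟨by
      show x ∈ t (π x)
      rw [show π x = δ from ht1 δ h]
      exact h, ht1 δ h⟩⟩
  have hwt : ∀ (w w' : K ⧸ M → ℕ) (S S' : Set B),
      (∀ δ, (S ∩ {x | π x = δ}).ncard = w δ) → (∀ δ, (S' ∩ {x | π x = δ}).ncard = w' δ) →
      ∀ g : K, (∀ x, g • x ∈ S' ↔ x ∈ S) → ∀ δ, w' (g • δ) = w δ := by
    intro w w' S S' hS hS' g hg δ
    rw [← hS, ← hS']
    rw [show S' ∩ {x | π x = g • δ} = (fun x => g • x) '' (S ∩ {x | π x = δ}) from ?_,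
      Set.ncard_image_of_injective _ (MulAction.injective g)]
    ext x
    refine ⟨fun ⟨h1, h2⟩ => ⟨g⁻¹ • x, ⟨(hg _).1 (by rwa [smul_inv_smul]), ?_⟩, smul_inv_smul g x⟩,
      ?_⟩
    · show π (g⁻¹ • x) = δ
      rw [hπ, show π x = g • δ from h2, inv_smul_smul]
    · rintro ⟨y, ⟨h1, h2⟩, rfl⟩
      exact ⟨(hg y).2 h1, show π (g • y) = g • δ by rw [hπ, show π y = δ from h2]⟩
  -- the elements fixing all inner blocks
  have hker : ∀ (S : Set B) (j : ℕ),
      (∀ δ, TrivOn (setStab K S ⊓ (MulAction.toPermHom K (K ⧸ M)).ker) j {x | π x = δ}) →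
      ∀ i, TrivOn (setStab K S) i (Set.univ : Set (K ⧸ M)) → Triv (setStab K S) (i + j) B := by
    intro S j hj i hi g hg x
    refine TrivOn.add (Y := {y | π y = π x}) ?_ (hj (π x)) g hg x rfl
    intro k hk
    refine ⟨?_, Equiv.ext fun δ => hi k hk δ (Set.mem_univ δ)⟩
    obtain ⟨k', -, rfl⟩ := hk
    exact k'.2
  have hpiece : ∀ (S : Set B) (δ : K ⧸ M) (g : K),
      g ∈ setStab K S ⊓ (MulAction.toPermHom K (K ⧸ M)).ker → ∀ x,
        (g • x ∈ S ↔ x ∈ S) ∧ (π (g • x) = δ ↔ π x = δ) := fun S δ g hg x => by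
    refine ⟨hg.1 x, ?_⟩
    have h1 : g • π x = π x := Equiv.congr_fun (MonoidHom.mem_ker.1 hg.2) (π x)
    rw [hπ, h1]
  by_cases hm : 5 ≤ Nat.card (K ⧸ M)
  · -- five sets of a primitive group
    obtain ⟨T, hT, hTdl⟩ := hP K (K ⧸ M) hs hm (fun δ => by
      obtain ⟨g, rfl⟩ := QuotientGroup.mk_surjective δ
      have e : stabilizer K ((g : K) : K ⧸ M) = M.map (MulAut.conj g).toMonoidHom := by
        rw [show ((g : K) : K ⧸ M) = g • ((1 : K) : K ⧸ M) by
          rw [Quotient.smul_coe, smul_eq_mul, mul_one], stabilizer_smul_eq_stabilizer_map_conj,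
          stabilizer_quotient]
      rw [e]
      exact (MulEquiv.mapSubgroup (MulAut.conj g)).isCoatom_iff M |>.2 hM)
    choose S hS using fun i => hset (fun δ => d - 2 + if δ ∈ T i then 1 else 0)
      (fun δ => by split_ifs <;> omega)
    refine ⟨S, fun i j g hg => hT i j g fun δ => ?_, fun i => ?_⟩
    · have h1 := hwt _ _ _ _ (hS i) (hS j) g hg δ
      by_cases hj : g • δ ∈ T j <;> by_cases hi : δ ∈ T i
      · exact iff_of_true hj hi
      · rw [if_pos hj, if_neg hi] at h1; omega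
      · rw [if_neg hj, if_pos hi] at h1; omega
      · exact iff_of_false hj hi
    · refine hker (S i) 1 (fun δ => ?_) 2 fun g hg δ _ =>
        hTdl i g (dser_mono (fun k hk δ' => ?_) 2 hg) δ
      · have hcard : ({x | π x = δ} : Set B) = S i ∩ {x | π x = δ} ∪ {x | π x = δ} \ S i := by
          rw [Set.inter_comm, Set.inter_union_sdiff]
        intro g hg x hx
        rw [hcard] at hx
        have hw := hS i δ
        have hle : d - 2 + (if δ ∈ T i then 1 else 0) ≤ 2 ∧
            d ≤ d - 2 + (if δ ∈ T i then 1 else 0) + 2 := by split_ifs <;> omega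
        rcases hx with hx | hx
        · exact trivOn_of_perm (m := 2) (k := 1) (Y := S i ∩ {x | π x = δ})
            (fun k hk y => and_congr (hpiece _ δ k hk y).1 (hpiece _ δ k hk y).2)
            (by rw [hw]; exact hle.1) derived_two g hg x hx
        · refine trivOn_of_perm (m := 2) (k := 1) (Y := {x | π x = δ} \ S i)
            (fun k hk y => and_congr (hpiece _ δ k hk y).2 (not_congr (hpiece _ δ k hk y).1))
            ?_ derived_two g hg x hx
          have h3 := Set.ncard_union_eq (s := ({x | π x = δ} : Set B) \ S i)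
            (t := ({x | π x = δ} : Set B) ∩ S i)
            (Set.disjoint_left.2 fun y hy hy' => hy.2 hy'.2)
          rw [Set.sdiff_union_inter, Set.inter_comm, hw, hfib] at h3
          omega
      · have h1 := hwt _ _ _ _ (hS i) (hS i) k hk δ'
        by_cases hj : k • δ' ∈ T i <;> by_cases hi : δ' ∈ T i
        · exact iff_of_true hj hi
        · rw [if_pos hj, if_neg hi] at h1; omega
        · rw [if_neg hj, if_pos hi] at h1; omega
        · exact iff_of_false hj hi
  -- few inner blocks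
  have hd2 : 2 ≤ d := by
    by_contra h1
    rw [show d = 1 by omega, mul_one] at hcardB
    omega
  have hm' : Nat.card (K ⧸ M) ∈ [2, 3, 4] := by
    have h1 : Nat.card (K ⧸ M) ≠ 1 := fun h => hM.1 (Subgroup.index_eq_one.1 h)
    have h2 := Nat.card_pos (α := K ⧸ M)
    simp only [List.mem_cons, List.not_mem_nil, or_false]
    omega
  haveI := Fintype.ofFinite (K ⧸ M)
  let e : K ⧸ M ≃ Fin (Nat.card (K ⧸ M)) := Finite.equivFin _
  choose S hS using fun i => hset (fun δ => pat _ i (e δ)) (fun δ => (pat_le hm' i _).trans hd2)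
  refine ⟨S, fun i j g hg => pat_inj hm' i j ?_, fun i => ?_⟩
  · have h1 := hwt _ _ _ _ (hS i) (hS j) g hg
    rw [← Equiv.sum_comp e, ← Equiv.sum_comp e (fun x => 5 ^ pat _ j x),
      ← Equiv.sum_comp (MulAction.toPerm g) (fun δ => 5 ^ pat _ j (e δ))]
    exact Finset.sum_congr rfl fun δ _ => congrArg (5 ^ ·) (h1 δ).symm
  · refine hker (S i) 2 (fun δ g hg x hx => ?_) 1 fun g hg δ _ => ?_
    · exact trivOn_of_perm (m := 3) (k := 2) (Y := {x | π x = δ})
        (fun k hk y => (hpiece _ δ k hk y).2) (by rw [hfib]; exact hd3) derived_three g hg x hx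
    · refine trivOn_of_perm (m := 2) (k := 1)
        (Y := {δ' | pat _ i (e δ') = pat _ i (e δ)}) (fun k hk y => ?_) ?_ derived_two g hg δ rfl
      · show pat _ i (e (k • y)) = _ ↔ pat _ i (e y) = _
        rw [hwt _ _ _ _ (hS i) (hS i) k hk y]
      · refine le_of_eq_of_le ?_ (pat_two hm' i _ (pat_le hm' i (e δ)))
        rw [← Set.ncard_coe_finset, ← Set.ncard_image_of_injective _ e.injective]
        congr 1
        ext x
        simp only [Set.mem_image, Set.mem_ofPred_eq, Finset.coe_filter, Finset.mem_univ, true_and]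
        exact ⟨fun ⟨y, hy, hyx⟩ => hyx ▸ hy, fun hx => ⟨e.symm x, by rwa [e.apply_symm_apply],
          e.apply_symm_apply x⟩⟩

/-- a transitive group -/
theorem transitive (hP : StmtPrimSubsets.{u}) [Finite K] (hs : Group.IsSolvable K) {X : Type u}
    [Finite X] [MulAction K X] [IsPretransitive K X] (a : X) :
    ∃ S : Set X, Triv (setStab K S) 3 X := by
  classical
  rcases le_or_gt (Nat.card X) 4 with h | h
  · exact ⟨∅, card_le_four h _⟩
  have hX : Nat.card X * Nat.card (stabilizer K a) = Nat.card K := by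
    rw [← index_stabilizer_of_transitive K a, mul_comm, Subgroup.card_mul_index]
  -- the smallest block with at least four points
  have hex : ∃ n, ∃ L : Subgroup K, stabilizer K a ≤ L ∧
      4 * Nat.card (stabilizer K a) ≤ Nat.card L ∧ Nat.card L = n := by
    refine ⟨_, ⊤, le_top, ?_, rfl⟩
    rw [Subgroup.card_top, ← hX]
    exact Nat.mul_le_mul_right _ h.le
  obtain ⟨L, haL, h4L, hLn⟩ := Nat.find_spec hex
  let B := orbit L a
  haveI : Finite B := inferInstance
  let a' : B := ⟨a, mem_orbit_self a⟩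
  have hstab : stabilizer L a' = (stabilizer K a).subgroupOf L := by
    ext g
    rw [mem_stabilizer_iff, Subgroup.mem_subgroupOf, mem_stabilizer_iff, Subtype.ext_iff]
    rfl
  have hcard : Nat.card (stabilizer L a') = Nat.card (stabilizer K a) := by
    rw [hstab, Nat.card_congr (Subgroup.subgroupOfEquivOfLe haL).toEquiv]
  have hB : Nat.card B * Nat.card (stabilizer L a') = Nat.card L := by
    rw [← index_stabilizer_of_transitive L a', mul_comm, Subgroup.card_mul_index]
  obtain ⟨T, hT, hTdl⟩ := five_block hP (K := L)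
    (by haveI := hs; infer_instance) a'
    (Nat.le_of_mul_le_mul_right (by rw [hB, hcard]; exact h4L) Nat.card_pos)
    (fun M hM hMne => by
      by_contra hlt
      push Not at hlt
      have h1 : Nat.card (M.map L.subtype) = Nat.card M :=
        Subgroup.card_map_of_injective L.subtype_injective
      have h2 : stabilizer K a ≤ M.map L.subtype := fun g hg =>
        ⟨⟨g, haL hg⟩, hM (hstab ▸ Subgroup.mem_subgroupOf.2 hg), rfl⟩
      have h3 : 4 * Nat.card (stabilizer K a) ≤ Nat.card (M.map L.subtype) := by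
        rw [h1]
        obtain ⟨r, hr⟩ := Subgroup.card_dvd_of_le h2
        rw [h1] at hr
        rw [hr] at hlt ⊢
        rw [hcard] at hlt
        have : 3 < r := Nat.lt_of_mul_lt_mul_left (by linarith : Nat.card (stabilizer K a) * 3 <
          Nat.card (stabilizer K a) * r)
        nlinarith
      have h4 := Nat.find_min' hex ⟨_, h2, h3, rfl⟩
      rw [← hLn, h1] at h4
      exact hMne (Subgroup.eq_top_of_le_card _ h4))
  -- colours on the blocks
  obtain ⟨c, hc⟩ := CfsgLib.BaseThree.exists_col hs (K ⧸ L)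
  choose co hco using fun x : X => exists_smul_eq K a x
  let π : X → K ⧸ L := fun x => (co x : K ⧸ L)
  have hπ : ∀ (g : K) x, π (g • x) = g • π x := fun g x => by
    show _ = ((g * co x : K) : K ⧸ L)
    refine QuotientGroup.eq.2 (haL ?_)
    rw [mem_stabilizer_iff, mul_smul, mul_smul, hco, inv_smul_eq_iff, hco]
  have hmem : ∀ x, (π x).out⁻¹ • x ∈ orbit L a := fun x => by
    refine ⟨⟨(π x).out⁻¹ * co x, QuotientGroup.eq.1 (QuotientGroup.out_eq' (π x))⟩, ?_⟩
    show ((π x).out⁻¹ * co x) • a = _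
    rw [mul_smul, hco]
  let S : Set X := {x | (⟨_, hmem x⟩ : B) ∈ T (c (π x))}
  -- carrying a block to the fixed one
  have hk : ∀ (g : K) (σ : K ⧸ L), (g • σ).out⁻¹ * g * σ.out ∈ L := fun g σ => by
    rw [mul_assoc]
    refine QuotientGroup.eq.1 ?_
    rw [QuotientGroup.out_eq', ← smul_eq_mul g, ← Quotient.smul_coe, QuotientGroup.out_eq']
  have hback : ∀ (σ : K ⧸ L) (y : B), π (σ.out • (y : X)) = σ := fun σ y => by
    obtain ⟨l, hl⟩ := y.2
    rw [← hl, hπ]
    have hla : π ((l : K) • a) = ((1 : K) : K ⧸ L) := QuotientGroup.eq.2 (by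
      rw [mul_one]
      refine L.inv_mem ?_
      have h2 : (l : K)⁻¹ * co ((l : K) • a) ∈ stabilizer K a := by
        rw [mem_stabilizer_iff, mul_smul, hco, inv_smul_smul]
      have := L.mul_mem l.2 (haL h2)
      rwa [mul_inv_cancel_left] at this)
    show σ.out • π ((l : K) • a) = σ
    rw [hla, Quotient.smul_coe, smul_eq_mul, mul_one, QuotientGroup.out_eq']
  have hS : ∀ (σ : K ⧸ L) (y : B), σ.out • (y : X) ∈ S ↔ y ∈ T (c σ) := fun σ y => by
    have e : (⟨_, hmem (σ.out • (y : X))⟩ : B) = y := Subtype.ext (by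
      show (π (σ.out • (y : X))).out⁻¹ • σ.out • (y : X) = y
      rw [hback, inv_smul_smul])
    show _ ∈ T (c (π (σ.out • (y : X)))) ↔ _
    rw [e, hback]
  have hmove : ∀ g ∈ setStab K S, ∀ (σ : K ⧸ L) (y : B),
      (⟨_, hk g σ⟩ : L) • y ∈ T (c (g • σ)) ↔ y ∈ T (c σ) := by
    intro g hg σ y
    rw [← hS, ← hS σ y]
    have e : (g • σ).out • (((⟨_, hk g σ⟩ : L) • y : B) : X) = g • σ.out • (y : X) := by
      show (g • σ).out • ((g • σ).out⁻¹ * g * σ.out) • (y : X) = _
      rw [mul_smul, mul_smul, smul_inv_smul]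
    rw [e]
    exact hg _
  have hfix : ∀ g ∈ setStab K S, ∀ σ : K ⧸ L, g • σ = σ := fun g hg =>
    hc g fun σ => (hT _ _ _ (hmove g hg σ)).symm
  refine ⟨S, fun g hg x => ?_⟩
  set σ := π x with hσ
  set H' := (setStab K S).map (MulAut.conj σ.out⁻¹).toMonoidHom with hH'
  have hle : H' ≤ (setStab L (T (c σ))).map L.subtype := by
    rintro _ ⟨h, hh, rfl⟩
    refine ⟨⟨σ.out⁻¹ * h * σ.out, by have := hk h σ; rwa [hfix h hh σ] at this⟩,
      fun y => ?_, ?_⟩
    · have h1 := hmove h hh σ y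
      have e : (⟨_, hk h σ⟩ : L) = ⟨σ.out⁻¹ * h * σ.out,
          by have := hk h σ; rwa [hfix h hh σ] at this⟩ :=
        Subtype.ext (show (h • σ).out⁻¹ * h * σ.out = σ.out⁻¹ * h * σ.out by rw [hfix h hh σ])
      have e2 : c (h • σ) = c σ := congrArg c (hfix h hh σ)
      rw [e, e2] at h1
      exact h1
    · show σ.out⁻¹ * h * σ.out = σ.out⁻¹ * h * σ.out⁻¹⁻¹
      rw [inv_inv]
  have h1 : σ.out⁻¹ * g * σ.out ∈ dser ((setStab L (T (c σ))).map L.subtype) 3 := by
    refine dser_mono hle 3 ?_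
    rw [hH', ← dser_map]
    exact ⟨g, hg, by show σ.out⁻¹ * g * σ.out⁻¹⁻¹ = _; rw [inv_inv]⟩
  rw [← dser_map] at h1
  obtain ⟨l, hl, hlg⟩ := h1
  have h2 := congrArg Subtype.val (hTdl _ l hl ⟨_, hmem x⟩)
  change (l : K) • σ.out⁻¹ • x = σ.out⁻¹ • x at h2
  rw [show (l : K) = σ.out⁻¹ * g * σ.out from hlg, mul_smul, mul_smul, smul_inv_smul,
    smul_left_cancel_iff] at h2
  exact h2

/-- invariant sets -/
theorem invariant (hP : StmtPrimSubsets.{u}) [Finite K] (hs : Group.IsSolvable K) {X : Type u}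
    [Finite X] [MulAction K X] : ∀ n, ∀ Y : Set X, Y.ncard ≤ n →
      (∀ (g : K) x, g • x ∈ Y ↔ x ∈ Y) →
      ∃ S : Set X, S ⊆ Y ∧ TrivOn (setStab K S) 3 Y := by
  intro n
  induction n with
  | zero =>
    intro Y hY _
    rw [Nat.le_zero, Set.ncard_eq_zero] at hY
    exact ⟨∅, Set.empty_subset Y, fun g _ x hx => absurd (hY ▸ hx) (Set.notMem_empty x)⟩
  | succ n ih =>
    intro Y hY hinv
    rcases Y.eq_empty_or_nonempty with rfl | ⟨a, ha⟩
    · exact ⟨∅, Set.empty_subset _, fun g _ x hx => absurd hx (Set.notMem_empty x)⟩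
    have horb : orbit K a ⊆ Y := by
      rintro _ ⟨g, rfl⟩
      exact (hinv g a).2 ha
    have hO : ∀ (g : K) x, g • x ∈ orbit K a ↔ x ∈ orbit K a := fun g x => by
      rw [← orbit_eq_iff, orbit_smul, orbit_eq_iff]
    obtain ⟨S0, hS0⟩ := transitive hP hs (X := orbit K a) ⟨a, mem_orbit_self a⟩
    have hlt : (Y \ orbit K a).ncard < Y.ncard :=
      Set.ncard_lt_ncard (Set.ssubset_iff_of_subset Set.sdiff_subset |>.2
        ⟨a, ha, fun h => h.2 (mem_orbit_self a)⟩)
    obtain ⟨S1, hS1, hS1'⟩ := ih (Y \ orbit K a) (by omega)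
      (fun g x => and_congr (hinv g x) (not_congr (hO g x)))
    set S : Set X := Subtype.val '' S0 ∪ S1 with hS
    refine ⟨S, Set.union_subset ?_ (hS1.trans Set.sdiff_subset), ?_⟩
    · rintro _ ⟨y, -, rfl⟩
      exact horb y.2
    have hs1 : ∀ x, x ∈ S1 ↔ x ∈ S ∧ x ∉ orbit K a := fun x => by
      refine ⟨fun h => ⟨Or.inr h, (hS1 h).2⟩, ?_⟩
      rintro ⟨⟨y, -, rfl⟩ | h, hn⟩
      exacts [absurd y.2 hn, h]
    have hs0 : ∀ y : orbit K a, y ∈ S0 ↔ (y : X) ∈ S := fun y => by
      refine ⟨fun h => Or.inl ⟨y, h, rfl⟩, ?_⟩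
      rintro (⟨w, hw, e⟩ | h)
      exacts [Subtype.ext e ▸ hw, absurd y.2 (hS1 h).2]
    intro g hg x hx
    by_cases hxo : x ∈ orbit K a
    · have hg' : g ∈ dser (setStab K S0) 3 := dser_mono (fun k hk y => by
        rw [hs0, hs0, orbit.coe_smul]
        exact hk y) 3 hg
      exact congrArg Subtype.val (hS0 g hg' ⟨x, hxo⟩)
    · exact hS1' g (dser_mono (fun k hk y => by
        rw [hs1, hs1]
        exact and_congr (hk y) (not_congr (hO k y))) 3 hg) x ⟨hx, hxo⟩

/-- Piece G2a: the set with stabiliser of derived length at most three. -/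
theorem stmtBlocks : StmtBlocks.{u} := fun hP G _ _ X _ _ hs => by
  obtain ⟨S, -, hS⟩ := invariant hP hs (Nat.card X) (Set.univ : Set X)
    (le_of_eq (Set.ncard_univ X)) (fun g x => by simp)
  exact ⟨S, fun g hg x => hS g hg x (Set.mem_univ x)⟩

end CfsgLib.OrbitStab.Blocks
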