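import Cfsg.Agent.Lib.FgsC.OrbitStab.Defs

/-!
# The data of a maximal abelian normal subgroup of a primitive soluble linear group
-/

set_option autoImplicit false

universe u

namespace CfsgLib.OrbitStab

open CfsgLib.BaseTwo MulAction
open scoped commutatorElement

section General

variable {A : Type u} [Group A]

private theorem dser_succ (H : Subgroup A) (i : ℕ) : dser H (i + 1) = ⁅dser H i, dser H i⁆ := by
  rw [dser, derivedSeries_succ, Subgroup.map_commutator]

private theorem dser_le (H : Subgroup A) (i : ℕ) : dser H i ≤ H := Subgroup.map_subtype_le _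

theorem dser_le_of_commutator {H : Subgroup A} {B : Subgroup A} (hB : ∀ g h : A, g * h * g⁻¹ * h⁻¹ ∈ B)
    {i : ℕ} (hi : 1 ≤ i) : dser H i ≤ B := by
  obtain ⟨j, rfl⟩ := Nat.exists_eq_add_of_le hi
  rw [add_comm, dser_succ, Subgroup.commutator_le]
  intro g _ h _
  exact hB g h

end General

variable {A : Type u} [Group A] [Finite A] {V : Type u} [AddCommGroup V] [Finite V] [DistribMulAction A V]
  [FaithfulSMul A V]

theorem card_sect_triple (hs : Group.IsSolvable A) (S : Sect A) (hker : S.C ⊓ S.K = S.N)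
    (hss : Semisimple A (Additive S.Q)) : S.N.relIndex S.C ≤ Nat.card (Additive S.Q) ^ 3 := by
  classical
  obtain ⟨t, ht⟩ := CfsgLib.BaseThree.exists_tri hs hss
  rw [Subgroup.relIndex, Subgroup.index_eq_card,
    show Nat.card (Additive S.Q) ^ 3 = Nat.card (Fin 3 → Additive S.Q) by simp [Nat.card_fun]]
  let F : S.C ⧸ S.N.subgroupOf S.C → (Fin 3 → Additive S.Q) := fun c i => (c.out : A) • t i
  refine Nat.card_le_card_of_injective F fun c d h => ?_
  rw [← QuotientGroup.out_eq' c, ← QuotientGroup.out_eq' d, QuotientGroup.eq, Subgroup.mem_subgroupOf]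
  have hfix : ∀ i, ((c.out : A)⁻¹ * (d.out : A)) • t i = t i := fun i => by
    rw [mul_smul, inv_smul_eq_iff]
    exact (congrFun h i).symm
  exact hker.le (Subgroup.mem_inf.2 ⟨(c.out⁻¹ * d.out).2, S.fixed_iff.1 (ht _ hfix)⟩)

theorem exists_data [Nontrivial V] (hs : Group.IsSolvable A) (hp : Prim A V) : Nonempty (Data A V) := by
  classical
  obtain ⟨S⟩ := exists_sect A hs
  haveI : Finite (AddMonoid.End V) :=
    Finite.of_injective (fun f : AddMonoid.End V => (f : V → V)) DFunLike.coe_injective
  have hfld := hp.fld (ring (V := V) S) (fun x hx y hy => ring_comm S hx hy)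
    (fun a x hx => ring_normalized S a hx)
  have hfield := isField_ring S hfld
  letI : Field (ring (V := V) S) := hfield.toField
  haveI : Module.Finite (ring (V := V) S) V := Module.Finite.of_finite
  let χ : S.A →* (ring (V := V) S) :=
    { toFun := fun a => ⟨rho (a : A), rho_mem S a.2⟩
      map_one' := Subtype.ext (map_one (rho : A →* AddMonoid.End V))
      map_mul' := fun a b => Subtype.ext (map_mul (rho : A →* AddMonoid.End V) (a : A) b) }
  have hχ : Function.Injective χ := fun a b h => Subtype.ext (rho_injective (congrArg Subtype.val h))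
  obtain ⟨W, hAW, hWN, -, -, hsq⟩ := S.exists_sqrt χ hχ
  set e := S.A.relIndex W with he
  have hepos : 0 < e := Sect.relIndex_pos _ _
  have hen : e ≤ Module.finrank (ring (V := V) S) V := by
    have := card_sect_le S hfld
    rw [hsq] at this
    exact (Nat.pow_le_pow_iff_left two_ne_zero).1 this
  have hfpf : ∀ a ∈ S.A, a ≠ 1 → ∀ v : V, a • v = v → v = 0 := fun a ha ha1 v hv => fix_A S hfld ha ha1 hv
  have hcardA : Nat.card S.A ∣ Nat.card (ring (V := V) S) - 1 := by
    have hχu : Function.Injective χ.toHomUnits := fun x y h => hχ (congrArg Units.val h)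
    rw [← Nat.card_units (ring (V := V) S)]
    exact Subgroup.card_dvd_of_injective χ.toHomUnits hχu
  -- primes dividing `e`
  let lin : S.C → (V →ₗ[ring (V := V) S] V) := fun c =>
    { toFun := fun v => (c : A) • v
      map_add' := smul_add _
      map_smul' := fun s v => DFunLike.congr_fun (commute_ring S c.2 s.2) v }
  have hprime : ∀ r : ℕ, r.Prime → r ∣ e → r ∣ Nat.card S.A ∧ r ∣ Module.finrank (ring (V := V) S) V := by
    intro r hr hre
    haveI : Fact r.Prime := ⟨hr⟩
    obtain ⟨c, hc⟩ := exists_prime_orderOf_dvd_card' (G := W ⧸ S.A.subgroupOf W) r hre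
    obtain ⟨x, rfl⟩ := QuotientGroup.mk_surjective c
    have hxA : (x : A) ∉ S.A := fun h => by
      rw [(QuotientGroup.eq_one_iff x).2 (Subgroup.mem_subgroupOf.2 h), orderOf_one] at hc
      exact hr.one_lt.ne hc
    have hxp : (x : A) ^ r ∈ S.A := by
      have := pow_orderOf_eq_one (x : W ⧸ S.A.subgroupOf W)
      rw [hc, ← QuotientGroup.mk_pow, QuotientGroup.eq_one_iff, Subgroup.mem_subgroupOf, Subgroup.coe_pow] at this
      exact this
    obtain ⟨y, hy, hne⟩ := S.exists_comm_ne (S.hNC (hWN x.2)) hxA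
    set X : S.N := ⟨x, hWN x.2⟩
    set Y : S.N := ⟨y, hy⟩
    have hpow : ∀ i : ℕ, S.comA (X ^ i) Y = S.comA X Y ^ i := fun i => by
      induction i with
      | zero => rw [pow_zero, pow_zero]; exact Subtype.ext (commutatorElement_one_left y)
      | succ i ih => rw [pow_succ, S.comA_mul_left, ih, pow_succ]
    have h1 : orderOf (S.comA X Y) = r := by
      refine orderOf_eq_prime ?_ fun h => hne (congrArg Subtype.val h)
      rw [← hpow, S.comA_swap, S.comA_of_mem_A Y (by rw [Subgroup.coe_pow]; exact hxp), inv_one]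
    refine ⟨h1 ▸ orderOf_dvd_natCard _, ?_⟩
    set lx := lin ⟨x, S.hNC (hWN x.2)⟩
    set ly := lin ⟨y, S.hNC hy⟩
    set ζ : ring (V := V) S := χ (S.comA X Y)
    have hrel : lx * ly = ζ • (ly * lx) := LinearMap.ext fun v => by
      show (x : A) • y • v = ⁅(x : A), y⁆ • y • (x : A) • v
      simp only [smul_smul]
      congr 1
      simp only [commutatorElement_def]
      group
    have hunit : ∀ c : S.C, LinearMap.det (lin c) ≠ 0 := fun c => by
      have h : lin c * lin c⁻¹ = 1 := LinearMap.ext fun v => smul_inv_smul (c : A) v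
      have h2 := congrArg LinearMap.det h
      rw [map_mul, map_one] at h2
      exact left_ne_zero_of_mul_eq_one h2
    have hdet := congrArg LinearMap.det hrel
    rw [map_mul, LinearMap.det_smul, map_mul, mul_comm (LinearMap.det ly) (LinearMap.det lx)] at hdet
    have hζ : ζ ^ Module.finrank (ring (V := V) S) V = 1 :=
      ((mul_eq_right₀ (mul_ne_zero (hunit _) (hunit _))).1 hdet.symm)
    rw [← h1, orderOf_dvd_iff_pow_eq_one]
    exact hχ (by rw [map_pow, map_one, hζ])
  -- the Galois action
  obtain ⟨p, hchar⟩ := CharP.exists (ring (V := V) S)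
  haveI := hchar
  haveI : Fact p.Prime := ⟨CharP.char_is_prime (ring (V := V) S) p⟩
  letI : Algebra (ZMod p) (ring (V := V) S) := ZMod.algebra (ring (V := V) S) p
  let σ : A → (ring (V := V) S ≃+* ring (V := V) S) := fun g =>
    { toFun := fun x => ⟨cjEnd g x, ring_normalized S g x.2⟩
      invFun := fun x => ⟨cjEnd g⁻¹ x, ring_normalized S g⁻¹ x.2⟩
      left_inv := fun x => Subtype.ext (by show cjEnd g⁻¹ (cjEnd g _) = _; rw [cjEnd_cjEnd, inv_mul_cancel, cjEnd_one])
      right_inv := fun x => Subtype.ext (by show cjEnd g (cjEnd g⁻¹ _) = _; rw [cjEnd_cjEnd, mul_inv_cancel, cjEnd_one])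
      map_mul' := fun x y => Subtype.ext (cjEnd_mul g x.1 y.1)
      map_add' := fun x y => Subtype.ext (map_add (cjHom g) x.1 y.1) }
  let τ : A →* (ring (V := V) S ≃ₐ[ZMod p] ring (V := V) S) :=
    { toFun := fun g => AlgEquiv.ofRingEquiv (f := σ g) fun x =>
        RingHom.congr_fun (Subsingleton.elim
          ((σ g).toRingHom.comp (algebraMap (ZMod p) (ring (V := V) S))) (algebraMap (ZMod p) (ring (V := V) S))) x
      map_one' := AlgEquiv.ext fun x => Subtype.ext (cjEnd_one x.1)
      map_mul' := fun g h => AlgEquiv.ext fun x => Subtype.ext (cjEnd_cjEnd g h x.1).symm }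
  have hτker : ∀ g, τ g = 1 → g ∈ S.C := fun g hg => Subgroup.mem_centralizer_iff.2 fun a ha => by
    have h1 : cjEnd g (rho a : AddMonoid.End V) = rho a :=
      congrArg Subtype.val (AlgEquiv.congr_fun hg ⟨rho a, rho_mem S ha⟩)
    exact (mul_inv_eq_iff_eq_mul.1 (rho_injective (V := V) ((cjHom_rho g a).symm.trans h1))).symm
  haveI : Module.Finite (ZMod p) (ring (V := V) S) := Module.Finite.of_finite
  haveI : Finite (ring (V := V) S ≃ₐ[ZMod p] ring (V := V) S) :=
    Finite.of_injective (fun f => (f : ring (V := V) S → ring (V := V) S)) DFunLike.coe_injective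
  have hgal : ∀ g h : A, g * h * g⁻¹ * h⁻¹ ∈ S.C := fun g h => hτker _ (by
    haveI : IsCyclic (ring (V := V) S ≃ₐ[ZMod p] ring (V := V) S) := inferInstance
    letI := IsCyclic.commGroup (α := ring (V := V) S ≃ₐ[ZMod p] ring (V := V) S)
    rw [map_mul, map_mul, map_mul, map_inv, map_inv, mul_right_comm (τ g) (τ h) (τ g)⁻¹, mul_inv_cancel, one_mul,
      mul_inv_cancel])
  have hindex : ∀ p' d : ℕ, p'.Prime → Nat.card (ring (V := V) S) = p' ^ d → S.C.index ≤ d := by
    intro p' d hp' hd
    have hcard := Module.natCard_eq_pow_finrank (K := ZMod p) (V := ring (V := V) S)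
    rw [Nat.card_zmod] at hcard
    set m := Module.finrank (ZMod p) (ring (V := V) S) with hm
    have hm0 : m ≠ 0 := fun h0 => by
      rw [h0, pow_zero] at hcard
      exact (Finite.one_lt_card (α := ring (V := V) S)).ne' hcard
    have hdm : d = m := by
      have hd0 : d ≠ 0 := fun h0 => by
        rw [h0, pow_zero] at hd
        exact (Finite.one_lt_card (α := ring (V := V) S)).ne' hd
      have hpow : p' ^ d = p ^ m := hd.symm.trans hcard
      have hpp : p' = p := (Nat.prime_dvd_prime_iff_eq hp' Fact.out).1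
        (hp'.dvd_of_dvd_pow (hpow ▸ dvd_pow_self p' hd0))
      rw [hpp] at hpow
      exact Nat.pow_right_injective (Fact.out : p.Prime).two_le hpow
    have h1 : S.C.index ≤ τ.ker.index :=
      Nat.le_of_dvd (Nat.pos_of_ne_zero Subgroup.index_ne_zero_of_finite)
        (Subgroup.index_dvd_of_le fun g hg => hτker g hg)
    rw [hdm, hm]
    refine h1.trans ?_
    rw [Subgroup.index_ker]
    refine (Nat.card_le_card_of_injective Subtype.val Subtype.val_injective).trans ?_
    rw [Nat.card_eq_fintype_card]
    exact AlgEquiv.card_le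
  have hker := S.C_inf_K χ hχ
  have hssQ := S.semisimpleQ χ hχ
  have hQ : Nat.card (Additive S.Q) = e ^ 2 := hsq
  have hpp : IsPrimePow (Nat.card (ring (V := V) S)) := by
    letI := Fintype.ofFinite (ring (V := V) S)
    rw [Nat.card_eq_fintype_card]
    exact FiniteField.isPrimePow_card (ring (V := V) S)
  refine ⟨{
    S := S
    q := Nat.card (ring (V := V) S)
    n := Module.finrank (ring (V := V) S) V
    e := e
    qpp := hpp
    cardV := Module.natCard_eq_pow_finrank
    hne := hen
    he := hepos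
    sq := hsq
    cardA := hcardA
    prime_dvd := hprime
    fpf := hfpf
    gal := hgal
    index := hindex
    kerQ := hker
    ssQ := hssQ
    cardQ := hQ
    cardH := ?_
    isotropic := ?_
    dl_all := ?_
    dl_stab := ?_ }⟩
  · -- the order
    have h1 := card_sect_triple hs S hker hssQ
    rw [hQ] at h1
    have hq : Nat.card S.A ≤ Nat.card (ring (V := V) S) - 1 :=
      Nat.le_of_dvd (Nat.sub_pos_of_lt Finite.one_lt_card) hcardA
    have hC : Nat.card S.C = Nat.card S.A * e ^ 2 * S.N.relIndex S.C := by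
      rw [← hsq, ← Subgroup.relIndex_bot_left S.A, Subgroup.relIndex_mul_relIndex _ _ _ bot_le S.hAN,
        Subgroup.relIndex_mul_relIndex _ _ _ bot_le S.hNC, Subgroup.relIndex_bot_left]
    calc Nat.card A = Nat.card S.A * e ^ 2 * S.N.relIndex S.C * S.C.index := by
          rw [← hC, S.C.card_mul_index]
      _ ≤ (Nat.card (ring (V := V) S) - 1) * e ^ 2 * (e ^ 2) ^ 3 * S.C.index := by gcongr
      _ = _ := by ring
  · -- isotropic
    intro v hv
    set X := stabilizer A v ⊓ S.N with hX
    have hcomm : ∀ x ∈ X, ∀ y ∈ X, x * y = y * x := by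
      intro x hx y hy
      by_contra hne
      refine hv (hfpf ⁅x, y⁆ (S.hNN x hx.2 y hy.2) (fun h => hne (commutatorElement_eq_one_iff_mul_comm.1 h)) v ?_)
      exact (commutatorElement_def x y ▸
        (stabilizer A v).mul_mem ((stabilizer A v).mul_mem ((stabilizer A v).mul_mem hx.1 hy.1)
          ((stabilizer A v).inv_mem hx.1)) ((stabilizer A v).inv_mem hy.1) : ⁅x, y⁆ ∈ stabilizer A v)
    refine ⟨hcomm, ?_⟩
    set U := S.A ⊔ X with hU
    have hUN : U ≤ S.N := sup_le S.hAN inf_le_right
    have hAU : S.A ≤ U := le_sup_left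
    have hUc : U ≤ Subgroup.centralizer (U : Set A) := by
      have hAX : S.A ≤ Subgroup.centralizer (X : Set A) := fun a ha => Subgroup.mem_centralizer_iff.2 fun x hx =>
        (S.comm_A ha (S.hNC (Subgroup.mem_inf.1 hx).2)).symm
      have hAA : S.A ≤ Subgroup.centralizer (S.A : Set A) := S.A_le_C
      have hXX : X ≤ Subgroup.centralizer (X : Set A) := fun a ha => Subgroup.mem_centralizer_iff.2 fun x hx =>
        hcomm x hx a ha
      refine sup_le ?_ ?_ <;> rw [Subgroup.le_centralizer_iff] <;> refine sup_le ?_ ?_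
      · exact hAA
      · exact Subgroup.le_centralizer_iff.1 hAX
      · exact hAX
      · exact hXX
    have h1 := S.relIndex_eq χ hχ U hAU hUN
    have h2 := Subgroup.relIndex_mul_relIndex S.A U S.N hAU hUN
    have h3 : (S.N ⊓ Subgroup.centralizer (U : Set A)).relIndex S.N ≤ U.relIndex S.N :=
      Subgroup.relIndex_le_of_le_left (le_inf hUN hUc) (Nat.ne_of_gt (Sect.relIndex_pos _ _))
    have h4 : S.A.relIndex U ≤ e := by
      by_contra hlt
      push Not at hlt
      have : e * e < S.A.relIndex U * U.relIndex S.N :=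
        Nat.mul_lt_mul'' hlt (lt_of_lt_of_le hlt (h1.trans_le h3))
      rw [h2, hsq, pow_two] at this
      exact lt_irrefl _ this
    refine le_trans ?_ h4
    rw [Subgroup.relIndex, Subgroup.index_eq_card]
    let F : X → U ⧸ S.A.subgroupOf U := fun x => QuotientGroup.mk ⟨x, Subgroup.mem_sup_right x.2⟩
    refine Nat.card_le_card_of_injective F fun x y h => ?_
    have hmem : (x : A)⁻¹ * y ∈ S.A := (QuotientGroup.eq (s := S.A.subgroupOf U)).1 h
    refine Subtype.ext (inv_mul_eq_one.1 ?_)
    by_contra hne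
    exact hv (hfpf _ hmem hne v ((stabilizer A v).mul_mem ((stabilizer A v).inv_mem x.2.1) y.2.1))
  · -- derived length of the whole group
    intro i hi htriv g hg x
    have hC : dser (⊤ : Subgroup A) i ≤ S.C := dser_le_of_commutator hgal hi
    have hK : dser (⊤ : Subgroup A) i ≤ S.K := fun k hk => S.fixed_iff.1 (htriv k hk)
    have hN : dser (⊤ : Subgroup A) i ≤ S.N := hker ▸ le_inf hC hK
    have h1 : dser (⊤ : Subgroup A) (i + 1) ≤ S.A := by
      rw [dser_succ, Subgroup.commutator_le]
      exact fun a ha b hb => S.hNN a (hN ha) b (hN hb)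
    have h2 : dser (⊤ : Subgroup A) (i + 2) ≤ ⊥ := by
      rw [dser_succ, Subgroup.commutator_le]
      exact fun a ha b hb => Subgroup.mem_bot.2
        (commutatorElement_eq_one_iff_mul_comm.2 (S.comm_A (h1 ha) (S.A_le_C (h1 hb))))
    rw [Subgroup.mem_bot.1 (h2 hg), one_smul]
  · -- derived length of a stabiliser
    intro v hv i hi htriv g hg x
    have hC : dser (stabilizer A v) i ≤ S.C := dser_le_of_commutator hgal hi
    have hK : dser (stabilizer A v) i ≤ S.K := fun k hk => S.fixed_iff.1 (htriv k hk)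
    have hN : dser (stabilizer A v) i ≤ S.N := hker ▸ le_inf hC hK
    have h2 : dser (stabilizer A v) (i + 1) ≤ ⊥ := by
      rw [dser_succ, Subgroup.commutator_le]
      intro a ha b hb
      refine Subgroup.mem_bot.2 (by_contra fun hne => hv (hfpf ⁅a, b⁆ (S.hNN a (hN ha) b (hN hb)) hne v ?_))
      exact (Subgroup.commutator_le_self (stabilizer A v) (Subgroup.commutator_mem_commutator
        (dser_le _ _ ha) (dser_le _ _ hb)) : ⁅a, b⁆ ∈ stabilizer A v)
    rw [Subgroup.mem_bot.1 (h2 hg), one_smul]

/-- piece G4 -/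
theorem stmtData : StmtData.{u} := fun _ _ _ _ _ _ _ _ _ hs hp => exists_data hs hp

end CfsgLib.OrbitStab
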