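import Cfsg.Agent.Lib.FgsC.BaseTwo.Main
import Cfsg.Agent.Lib.FgsC.BaseThree.Main

/-!
# S4070: an orbit with small derived length stabiliser (interfaces)

The paper proof is `tools/S4070_plan.md`.  Each `Stmt*` is one piece.
-/

set_option autoImplicit false

universe u

namespace CfsgLib.OrbitStab

open CfsgLib.BaseTwo MulAction

/-- The `k`th derived subgroup of a subgroup, inside the group. -/
abbrev dser {A : Type u} [Group A] (H : Subgroup A) (k : ℕ) : Subgroup A :=
  (derivedSeries H k).map H.subtype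

/-- The `k`th derived subgroup of `H` acts trivially. -/
def Triv {A : Type u} [Group A] (H : Subgroup A) (k : ℕ) (X : Type u) [MulAction A X] : Prop :=
  ∀ g ∈ dser H k, ∀ x : X, g • x = x

/-- The setwise stabiliser. -/
def setStab (G : Type u) [Group G] {X : Type u} [MulAction G X] (S : Set X) : Subgroup G where
  carrier := {g | ∀ x, g • x ∈ S ↔ x ∈ S}
  one_mem' x := by rw [one_smul]
  mul_mem' {a b} ha hb x := by rw [mul_smul, ha, hb]
  inv_mem' {a} ha x := by rw [← ha (a⁻¹ • x), smul_inv_smul]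

section Defs

variable (A : Type u) [Group A] (V : Type u) [AddCommGroup V] [DistribMulAction A V]

/-- Irreducible, and every normalised commutative ring of endomorphisms is a field. -/
structure Prim : Prop where
  irred : Irred A V
  fld : ∀ R : Subring (AddMonoid.End V), (∀ x ∈ R, ∀ y ∈ R, x * y = y * x) →
    (∀ a : A, ∀ x ∈ R, cjEnd a x ∈ R) → ∀ x ∈ R, x ≠ 0 → ∃ y ∈ R, x * y = 1

/-- Two inequivalent vectors whose stabilisers have derived length at most six. -/
def Two : Prop :=
  ∃ v w : V, (∀ a : A, a • v ≠ w) ∧ Triv (stabilizer A v) 6 V ∧ Triv (stabilizer A w) 6 V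

/-- Five inequivalent vectors whose stabilisers have derived length at most nine. -/
def Five : Prop :=
  ∃ f : Fin 5 → V, (∀ (i j : Fin 5) (a : A), a • f i = f j → i = j) ∧
    ∀ i, Triv (stabilizer A (f i)) 9 V

/-- The data of a maximal abelian normal subgroup of a primitive group. -/
structure Data where
  /-- the section -/
  S : Sect A
  /-- the order of the field -/
  q : ℕ
  /-- the dimension over the field -/
  n : ℕ
  /-- the square root of `|N / A|` -/
  e : ℕ
  qpp : IsPrimePow q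
  cardV : Nat.card V = q ^ n
  hne : e ≤ n
  he : 0 < e
  sq : S.A.relIndex S.N = e ^ 2
  cardA : Nat.card S.A ∣ q - 1
  prime_dvd : ∀ r : ℕ, r.Prime → r ∣ e → r ∣ Nat.card S.A ∧ r ∣ n
  fpf : ∀ a ∈ S.A, a ≠ 1 → ∀ v : V, a • v = v → v = 0
  gal : ∀ g h : A, g * h * g⁻¹ * h⁻¹ ∈ S.C
  index : ∀ p d : ℕ, p.Prime → q = p ^ d → S.C.index ≤ d
  kerQ : S.C ⊓ S.K = S.N
  ssQ : Semisimple A (Additive S.Q)
  cardQ : Nat.card (Additive S.Q) = e ^ 2
  /-- the image on `Q` is small: there are regular triples -/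
  cardH : Nat.card A ≤ (q - 1) * S.C.index * e ^ 2 * (e ^ 2) ^ 3
  /-- elements of `N` fixing a vector form a small commutative section -/
  isotropic : ∀ v : V, v ≠ 0 → (∀ x ∈ stabilizer A v ⊓ S.N, ∀ y ∈ stabilizer A v ⊓ S.N,
    x * y = y * x) ∧ Nat.card (stabilizer A v ⊓ S.N : Subgroup A) ≤ e
  /-- the derived length is that on `Q`, plus two -/
  dl_all : ∀ i, 1 ≤ i → Triv (⊤ : Subgroup A) i (Additive S.Q) → Triv (⊤ : Subgroup A) (i + 2) V
  /-- the derived length of a stabiliser is that on `Q`, plus one -/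
  dl_stab : ∀ v : V, v ≠ 0 → ∀ i, 1 ≤ i → Triv (stabilizer A v) i (Additive S.Q) →
    Triv (stabilizer A v) (i + 1) V

end Defs

/-- A bound on the derived length of soluble completely reducible groups on `l ^ n` points. -/
def Bd (l n k : ℕ) : Prop :=
  ∀ (X : Type u) [Group X] [Finite X] (M : Type u) [AddCommGroup M] [Finite M]
    [DistribMulAction X M], Group.IsSolvable X → Nat.card M = l ^ n → Semisimple X M →
    Triv (⊤ : Subgroup X) k M

/-- The tables. -/
structure Tables : Prop where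
  one : ∀ l : ℕ, l.Prime → Bd.{u} l 1 1
  dim2 : ∀ l : ℕ, l.Prime → Bd.{u} l 2 4
  dim4 : ∀ l : ℕ, l.Prime → Bd.{u} l 4 6
  two2 : Bd.{u} 2 2 2
  two4 : Bd.{u} 2 4 3
  two8 : ∀ n ≤ 8, Bd.{u} 2 n 6
  two14 : ∀ n ≤ 14, Bd.{u} 2 n 7
  three4 : ∀ n ≤ 4, Bd.{u} 3 n 5
  three6 : ∀ n ≤ 6, Bd.{u} 3 n 6
  /-- derived length six over two elements needs an irreducible six-dimensional part -/
  six : ∀ (X : Type u) [Group X] [Finite X] (M : Type u) [AddCommGroup M] [Finite M]
    [DistribMulAction X M] (n : ℕ), n ≤ 8 → Group.IsSolvable X → Nat.card M = 2 ^ n →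
    Semisimple X M → ∀ Y : Subgroup X, ¬ Triv Y 5 M →
    ∃ W W' : AddSubgroup M, (∀ x : X, ∀ m ∈ W, x • m ∈ W) ∧ (∀ x : X, ∀ m ∈ W', x • m ∈ W') ∧
      W ⊓ W' = ⊥ ∧ W ⊔ W' = ⊤ ∧ Nat.card W = 64 ∧
      (∀ U : AddSubgroup M, U ≤ W → (∀ y ∈ Y, ∀ m ∈ U, y • m ∈ U) → U = ⊥ ∨ U = W) ∧
      (∀ g ∈ dser Y 5, ∀ m ∈ W', g • m = m) ∧
      (∀ g ∈ dser Y 5, ∀ h ∈ dser Y 5, ∀ m : M, g • h • m = h • g • m) ∧
      ∀ g ∈ dser Y 5, ∃ k : ℕ, Odd k ∧ ∀ m : M, g ^ k • m = m

/-- the small cases that the counting of orbits does not cover -/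
def SmallE (e q n f : ℕ) : Prop :=
  (∀ r : ℕ, r.Prime → r * r ∣ e → r = 2 ∧ ¬ 8 ∣ e) ∨
    q ^ n ≤ 4 * ((q - 1) * f * e ^ 2 * (e ^ 2) ^ 3) + 1 ∧ e ∈ [8, 9, 16]

/-- G2b: five inequivalent sets for a primitive soluble permutation group. -/
def StmtPrimSubsets : Prop :=
  ∀ (G : Type u) [Group G] [Finite G] (X : Type u) [Finite X] [MulAction G X]
    [IsPretransitive G X], Group.IsSolvable G → 5 ≤ Nat.card X →
    (∀ a : X, IsCoatom (stabilizer G a)) →
    ∃ T : Fin 5 → Set X, (∀ (i j : Fin 5) (g : G), (∀ x, g • x ∈ T j ↔ x ∈ T i) → i = j) ∧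
      ∀ i, Triv (setStab G (T i)) 2 X

/-- G2: a set whose stabiliser has derived length at most three. -/
def StmtSubset : Prop :=
  ∀ (G : Type u) [Group G] [Finite G] (X : Type u) [Finite X] [MulAction G X],
    Group.IsSolvable G → ∃ S : Set X, Triv (setStab G S) 3 X

/-- G2a: blocks. -/
def StmtBlocks : Prop := StmtPrimSubsets.{u} → StmtSubset.{u}

/-- G3: the primitive pieces. -/
def StmtPiece : Prop :=
  ∀ (A : Type u) [Group A] [Finite A] (V : Type u) [AddCommGroup V] [Finite V] [Nontrivial V]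
    [DistribMulAction A V] [FaithfulSMul A V], Group.IsSolvable A → Prim A V → Two A V ∨ Five A V

/-- The general half. -/
def StmtGeneral : Prop :=
  ∀ (A : Type u) [Group A] [Finite A] (V : Type u) [AddCommGroup V] [Finite V]
    [DistribMulAction A V], Group.IsSolvable A → Semisimple A V →
    ∃ v : V, Triv (stabilizer A v) 9 V

/-- G1: induced decomposition and colours. -/
def StmtGlue : Prop := StmtSubset.{u} → StmtPiece.{u} → StmtGeneral.{u}

/-- G4: the data. -/
def StmtData : Prop :=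
  ∀ (A : Type u) [Group A] [Finite A] (V : Type u) [AddCommGroup V] [Finite V] [Nontrivial V]
    [DistribMulAction A V] [FaithfulSMul A V], Group.IsSolvable A → Prim A V → Nonempty (Data A V)

/-- G5: the tables. -/
def StmtTables : Prop := Tables.{u}

/-- G6a: the small cases. -/
def StmtSmallE : Prop :=
  ∀ (A : Type u) [Group A] [Finite A] (V : Type u) [AddCommGroup V] [Finite V] [Nontrivial V]
    [DistribMulAction A V] [FaithfulSMul A V], Group.IsSolvable A → Tables.{u} → ∀ D : Data A V,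
    SmallE D.e D.q D.n D.S.C.index → Two A V ∨ Five A V

/-- G6b: five orbits by counting. -/
def StmtLargeE : Prop :=
  ∀ (A : Type u) [Group A] [Finite A] (V : Type u) [AddCommGroup V] [Finite V] [Nontrivial V]
    [DistribMulAction A V] [FaithfulSMul A V], Group.IsSolvable A → Tables.{u} → ∀ D : Data A V,
    ¬ SmallE D.e D.q D.n D.S.C.index → Five A V

/-- Two elements that commute on the module. -/
def CommOn {A : Type u} [Group A] (H : Subgroup A) (V : Type u) [AddCommGroup V]
    [DistribMulAction A V] : Prop :=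
  ∀ g ∈ H, ∀ h ∈ H, ∀ x : V, g • h • x = h • g • x

/-- O2: a primitive group of odd order has a vector with abelian stabiliser. -/
def StmtOddPrim : Prop :=
  ∀ (A : Type u) [Group A] [Finite A] (V : Type u) [AddCommGroup V] [Finite V] [Nontrivial V]
    [DistribMulAction A V] [FaithfulSMul A V], Odd (Nat.card A) → Odd (Nat.card V) → Prim A V →
    ∃ v : V, CommOn (stabilizer A v) V

/-- The odd half. -/
def StmtOdd : Prop :=
  ∀ (A : Type u) [Group A] [Finite A] (V : Type u) [AddCommGroup V] [Finite V]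
    [DistribMulAction A V], Odd (Nat.card A) → Odd (Nat.card V) → Semisimple A V →
    ∃ v : V, CommOn (stabilizer A v) V

/-- O1: the decomposition. -/
def StmtOddGlue : Prop := StmtOddPrim.{u} → StmtOdd.{u}

end CfsgLib.OrbitStab
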