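import Cfsg.Agent.Lib.FgsC.OrbitStab.TriLemmas
import Cfsg.Agent.Lib.FgsC.ClassBound.Decomp
import Cfsg.Agent.Lib.FgsC.BaseThree.Colour

/-!
# S4070, piece Q1: a vector with small derived length stabiliser from the primitive pieces

A reducible module is handled componentwise.  For an irreducible module a decomposition with the
largest number of summands has primitive summands; their vectors are distributed along a colouring
of the summands.
-/

set_option autoImplicit false
set_option linter.unusedSectionVars false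
set_option linter.style.haveILetI false

universe u

namespace CfsgLib.OrbitStab

open MulAction CfsgLib.BaseTwo

namespace Glue

variable {A : Type u} [Group A] [Finite A] {V : Type u} [AddCommGroup V] [Finite V]
  [DistribMulAction A V]

/-- An equivariant decomposition into non-zero summands. -/
structure Dec (A : Type u) [Group A] (V : Type u) [AddCommGroup V] [DistribMulAction A V]
    (Ω : Type u) [Fintype Ω] [MulAction A Ω] where
  /-- the projections -/
  e : Ω → V →+ V
  hid : ∀ i v, e i (e i v) = e i v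
  horth : ∀ i j, i ≠ j → ∀ v, e i (e j v) = 0
  hsum : ∀ v, v = ∑ i, e i v
  heq : ∀ (a : A) i v, a • e i v = e (a • i) (a • v)
  hne : ∀ i, ∃ v, e i v ≠ 0

section Cocycle

variable {Ω : Type u} [MulAction A Ω] (r : Ω) (t : Ω → A) (ht : ∀ i, t i • r = i)

include ht in
theorem cocycle_mem (a : A) (i : Ω) : (t (a • i))⁻¹ * a * t i ∈ stabilizer A r := by
  rw [mem_stabilizer_iff, mul_smul, mul_smul, ht, inv_smul_eq_iff, ht]

/-- The cocycle. -/
def coc (a : A) (i : Ω) : stabilizer A r := ⟨(t (a • i))⁻¹ * a * t i, cocycle_mem r t ht a i⟩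

end Cocycle

namespace Dec

variable {Ω : Type u} [Fintype Ω] [MulAction A Ω] (D : Dec A V Ω)

include D

/-- A summand. -/
abbrev piece (i : Ω) : AddSubgroup V := (D.e i).range

theorem eq_self {i : Ω} {v : V} (h : v ∈ D.piece i) : D.e i v = v := by
  obtain ⟨x, rfl⟩ := h
  exact D.hid i x

theorem smul_piece (a : A) {i : Ω} {v : V} (h : v ∈ D.piece i) : a • v ∈ D.piece (a • i) :=
  ⟨a • v, by rw [← D.heq, D.eq_self h]⟩

/-- The stabiliser of a summand acting on it. -/
@[reducible] def pieceAct (r : Ω) : DistribMulAction (stabilizer A r) (D.piece r) where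
  smul a x := ⟨(a : A) • (x : V), by
    have := D.smul_piece (a : A) x.2
    rwa [mem_stabilizer_iff.1 a.2] at this⟩
  one_smul x := Subtype.ext (one_smul A (x : V))
  mul_smul a b x := Subtype.ext (mul_smul (a : A) (b : A) (x : V))
  smul_zero a := Subtype.ext (smul_zero (a : A))
  smul_add a x y := Subtype.ext (smul_add (a : A) (x : V) (y : V))

theorem nontrivial_piece (r : Ω) : Nontrivial (D.piece r) := by
  obtain ⟨v, hv⟩ := D.hne r
  exact ⟨⟨D.e r v, v, rfl⟩, 0, fun h => hv (congrArg Subtype.val h)⟩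

theorem card_le : Nat.card Ω ≤ Nat.card V := by
  choose nz hnz using D.hne
  refine Nat.card_le_card_of_injective (fun i => D.e i (nz i)) fun i j h => ?_
  by_contra hij
  refine hnz i ?_
  rw [← D.hid i, show D.e i (nz i) = D.e j (nz j) from h, D.horth i j hij]

theorem nonempty [Nontrivial V] : Nonempty Ω := by
  by_contra h
  rw [not_nonempty_iff] at h
  obtain ⟨v, hv⟩ := exists_ne (0 : V)
  exact hv (by rw [D.hsum v, Finset.univ_eq_empty, Finset.sum_empty])

theorem transitive (hirr : Irred A V) (r i : Ω) : ∃ a : A, a • r = i := by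
  by_contra hi
  let U : AddSubgroup V :=
    { carrier := {v | ∀ j, (¬ ∃ a : A, a • r = j) → D.e j v = 0}
      zero_mem' := fun j _ => map_zero _
      add_mem' := fun {x y} hx hy j hj => by rw [map_add, hx j hj, hy j hj, add_zero]
      neg_mem' := fun {x} hx j hj => by rw [map_neg, hx j hj, neg_zero] }
  have hU : ∀ a : A, ∀ v ∈ U, a • v ∈ U := fun a v hv j hj => by
    have h1 : D.e (a⁻¹ • j) v = 0 := hv _ fun ⟨b, hb⟩ => hj ⟨a * b, by rw [mul_smul, hb, smul_inv_smul]⟩
    have h2 := D.heq a (a⁻¹ • j) v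
    rw [h1, smul_zero, smul_inv_smul] at h2
    exact h2.symm
  obtain ⟨v, hv⟩ := D.hne r
  rcases hirr U hU with h | h
  · refine hv ((AddSubgroup.eq_bot_iff_forall U).1 h _ fun j hj => D.horth j r ?_ v)
    rintro rfl
    exact hj ⟨1, one_smul A _⟩
  · obtain ⟨w, hw⟩ := D.hne i
    exact hw ((h ▸ AddSubgroup.mem_top w : w ∈ U) i hi)

theorem irred_piece (hirr : Irred A V) (r : Ω) :
    letI := D.pieceAct r
    Irred (stabilizer A r) (D.piece r) := by
  letI := D.pieceAct r
  intro U hU
  by_cases hU0 : U = ⊥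
  · exact Or.inl hU0
  refine Or.inr ((AddSubgroup.eq_top_iff' U).2 fun x => ?_)
  set Ub : AddSubgroup V :=
    AddSubgroup.closure {y | ∃ (a : A) (u : D.piece r), u ∈ U ∧ a • (u : V) = y} with hUb
  have hUbinv : ∀ a : A, ∀ v ∈ Ub, a • v ∈ Ub := by
    intro a v hv
    induction hv using AddSubgroup.closure_induction with
    | mem y hy =>
      obtain ⟨b, u, hu, rfl⟩ := hy
      exact AddSubgroup.subset_closure ⟨a * b, u, hu, mul_smul a b _⟩
    | zero => rw [smul_zero]; exact zero_mem _
    | add p q _ _ hp hq => rw [smul_add]; exact add_mem hp hq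
    | neg p _ hp => rw [smul_neg]; exact neg_mem hp
  have her : ∀ v ∈ Ub, ∃ u ∈ U, (u : V) = D.e r v := by
    intro v hv
    induction hv using AddSubgroup.closure_induction with
    | mem y hy =>
      obtain ⟨b, u, hu, rfl⟩ := hy
      by_cases hb : b • r = r
      · refine ⟨(⟨b, hb⟩ : stabilizer A r) • u, hU _ u hu, ?_⟩
        show b • (u : V) = D.e r (b • (u : V))
        have h5 := D.heq b r (u : V)
        rw [D.eq_self u.2, hb] at h5
        exact h5
      · refine ⟨0, zero_mem U, ?_⟩
        rw [← D.eq_self (D.smul_piece b u.2), D.horth r (b • r) (Ne.symm hb)]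
        rfl
    | zero => exact ⟨0, zero_mem _, by simp⟩
    | add p q _ _ hp hq =>
      obtain ⟨u, hu, hu'⟩ := hp
      obtain ⟨w, hw, hw'⟩ := hq
      exact ⟨u + w, add_mem hu hw, by simp [hu', hw']⟩
    | neg p _ hp =>
      obtain ⟨u, hu, hu'⟩ := hp
      exact ⟨-u, neg_mem hu, by simp [hu']⟩
  rcases hirr Ub hUbinv with h | h
  · refine absurd ((AddSubgroup.eq_bot_iff_forall U).2 fun u hu => Subtype.ext ?_) hU0
    exact (AddSubgroup.eq_bot_iff_forall Ub).1 h _ (AddSubgroup.subset_closure ⟨1, u, hu, one_smul A _⟩)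
  · obtain ⟨u, hu, hu'⟩ := her x (h ▸ AddSubgroup.mem_top (x : V))
    rw [D.eq_self x.2] at hu'
    rwa [← Subtype.ext hu']

section Frame

variable (r : Ω) (t : Ω → A) (ht : ∀ i, t i • r = i)

/-- From the module to the base summand. -/
def pr (i : Ω) : V →+ D.piece r :=
  AddMonoidHom.codRestrict
    ((DistribSMul.toAddMonoidHom V (t i)⁻¹).comp (D.e i)) (D.piece r) fun v => by
      have h1 := D.smul_piece (t i)⁻¹ (i := i) ⟨v, rfl⟩
      rwa [(inv_smul_eq_iff.2 (ht i).symm : (t i)⁻¹ • i = r)] at h1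

/-- From the base summand to the module. -/
def inj (i : Ω) : D.piece r →+ V := (DistribSMul.toAddMonoidHom V (t i)).comp (D.piece r).subtype

theorem inj_mem (i : Ω) (x : D.piece r) (ht : ∀ i, t i • r = i) : D.inj r t i x ∈ D.piece i := by
  have h := D.smul_piece (t i) x.2
  rwa [ht] at h

theorem pr_inj (i : Ω) (x : D.piece r) : D.pr r t ht i (D.inj r t i x) = x := by
  refine Subtype.ext ?_
  show (t i)⁻¹ • D.e i (D.inj r t i x) = x
  rw [D.eq_self (D.inj_mem r t i x ht)]
  exact inv_smul_smul _ _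

theorem pr_inj_ne {i j : Ω} (h : i ≠ j) (x : D.piece r) : D.pr r t ht i (D.inj r t j x) = 0 := by
  refine Subtype.ext ?_
  show (t i)⁻¹ • D.e i (D.inj r t j x) = 0
  rw [← D.eq_self (D.inj_mem r t j x ht), D.horth i j h, smul_zero]

theorem inj_pr (i : Ω) (v : V) : D.inj r t i (D.pr r t ht i v) = D.e i v :=
  smul_inv_smul _ _

/-- The number of summands grows. -/
theorem refine_dec {E : Type u} [Fintype E] [MulAction (stabilizer A r) E]
    (f : E → (D.piece r →+ D.piece r)) (hid : ∀ j w, f j (f j w) = f j w)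
    (horth : ∀ j k, j ≠ k → ∀ w, f j (f k w) = 0) (hsum : ∀ w, w = ∑ j, f j w)
    (heq : ∀ (h : stabilizer A r) j w,
      letI := D.pieceAct r
      h • f j w = f (h • j) (h • w))
    (hne : ∀ j, ∃ w, f j w ≠ 0) (ht : ∀ i, t i • r = i) :
    ∃ (Ω' : Type u) (_ : Fintype Ω') (_ : MulAction A Ω'),
      Nat.card Ω' = Nat.card Ω * Nat.card E ∧ Nonempty (Dec A V Ω') := by
  letI := D.pieceAct r
  letI : MulAction A (Ω × E) :=
    { smul := fun a x => (a • x.1, coc r t ht a x.1 • x.2)
      one_smul := fun x => by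
        show ((1 : A) • x.1, coc r t ht 1 x.1 • x.2) = x
        rw [show coc r t ht 1 x.1 = 1 from Subtype.ext (by simp [coc]), one_smul, one_smul]
      mul_smul := fun a b x => by
        show ((a * b) • x.1, coc r t ht (a * b) x.1 • x.2) =
          (a • b • x.1, coc r t ht a (b • x.1) • coc r t ht b x.1 • x.2)
        rw [← mul_smul (coc r t ht a (b • x.1)), show coc r t ht (a * b) x.1 =
          coc r t ht a (b • x.1) * coc r t ht b x.1 from Subtype.ext (by simp [coc, mul_smul, mul_assoc]),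
          mul_smul] }
  refine ⟨Ω × E, inferInstance, inferInstance, Nat.card_prod _ _, ⟨?_⟩⟩
  refine
    { e := fun x => ((D.inj r t x.1).comp (f x.2)).comp (D.pr r t ht x.1)
      hid := fun x v => by
        simp only [AddMonoidHom.comp_apply, D.pr_inj r t ht, hid]
      horth := ?_
      hsum := fun v => ?_
      heq := fun a x v => ?_
      hne := fun x => ?_ }
  · rintro ⟨i, j⟩ ⟨k, l⟩ hne' v
    simp only [AddMonoidHom.comp_apply]
    by_cases hik : i = k
    · subst hik
      rw [D.pr_inj r t ht, horth j l (fun h => hne' (by rw [h])), map_zero]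
    · rw [D.pr_inj_ne r t ht hik, map_zero, map_zero]
  · simp only [AddMonoidHom.comp_apply]
    rw [Fintype.sum_prod_type]
    simp only [← map_sum, ← hsum, D.inj_pr r t ht]
    exact D.hsum v
  · obtain ⟨i, j⟩ := x
    show a • D.inj r t i (f j (D.pr r t ht i v)) =
      D.inj r t (a • i) (f (coc r t ht a i • j) (D.pr r t ht (a • i) (a • v)))
    have h1 : D.pr r t ht (a • i) (a • v) = coc r t ht a i • D.pr r t ht i v := by
      refine Subtype.ext ?_
      show (t (a • i))⁻¹ • D.e (a • i) (a • v) = ((t (a • i))⁻¹ * a * t i) • ((t i)⁻¹ • D.e i v)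
      rw [← D.heq, ← mul_smul ((t (a • i))⁻¹ * a * t i), mul_inv_cancel_right, mul_smul]
    rw [h1, ← heq]
    show a • t i • ((f j (D.pr r t ht i v) : D.piece r) : V) =
      t (a • i) • ((t (a • i))⁻¹ * a * t i) • ((f j (D.pr r t ht i v) : D.piece r) : V)
    simp only [mul_smul, smul_inv_smul]
  · obtain ⟨w, hw⟩ := hne x.2
    refine ⟨D.inj r t x.1 w, fun h => hw ?_⟩
    simp only [AddMonoidHom.comp_apply, D.pr_inj r t ht] at h
    have h2 := congrArg (D.pr r t ht x.1) h
    rwa [D.pr_inj r t ht, map_zero] at h2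

/-- Vectors of the base summand along a colouring of the summands. -/
theorem colour {ι : Type*} (f : ι → D.piece r) (col : Ω → ι) {m k : ℕ}
    (hf : letI := D.pieceAct r
      ∀ (i j : ι) (h : stabilizer A r), h • f i = f j → i = j)
    (hk : letI := D.pieceAct r
      ∀ i, Triv (stabilizer (stabilizer A r) (f i)) k (D.piece r))
    (hm : ∀ K : Subgroup A, (∀ g ∈ K, ∀ i, col (g • i) = col i) → Triv K m Ω)
    (ht : ∀ i, t i • r = i) : ∃ v : V, Triv (stabilizer A v) (m + k) V := by
  letI := D.pieceAct r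
  classical
  let Q : Ω → V := fun i => D.inj r t i (f (col i))
  have hcomp : ∀ i, D.pr r t ht i (∑ l, Q l) = f (col i) := fun i => by
    rw [map_sum, Finset.sum_eq_single i]
    · exact D.pr_inj r t ht i _
    · exact fun l _ hli => D.pr_inj_ne r t ht hli.symm _
    · intro h; exact absurd (Finset.mem_univ i) h
  refine ⟨∑ l, Q l, ?_⟩
  set K := stabilizer A (∑ l, Q l)
  -- the cocycle carries the vector of a summand to that of its image
  have hmove : ∀ g ∈ K, ∀ i, coc r t ht g i • f (col i) = f (col (g • i)) := by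
    intro g hg i
    rw [← hcomp i, ← hcomp (g • i)]
    refine Subtype.ext ?_
    show ((t (g • i))⁻¹ * g * t i) • ((t i)⁻¹ • D.e i (∑ l, Q l)) = (t (g • i))⁻¹ • D.e (g • i) (∑ l, Q l)
    conv_rhs => rw [← mem_stabilizer_iff.1 hg, ← D.heq]
    rw [← mul_smul ((t (g • i))⁻¹ * g * t i), mul_inv_cancel_right, mul_smul]
  have hcol : ∀ g ∈ K, ∀ i, col (g • i) = col i := fun g hg i => (hf _ _ _ (hmove g hg i)).symm
  have hfix := hm K hcol
  intro g hg x
  rw [D.hsum x, Finset.smul_sum]
  refine Finset.sum_congr rfl fun i _ => ?_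
  rw [← dser_dser] at hg
  have hmap : (dser K m).map (MulAut.conj (t i)⁻¹).toMonoidHom ≤
      (stabilizer (stabilizer A r) (f (col i))).map (stabilizer A r).subtype := by
    rintro _ ⟨y, hy, rfl⟩
    have hy1 : y • i = i := hfix y hy i
    have hy2 := hmove y (dser_le' K m hy) i
    rw [hy1] at hy2
    refine ⟨coc r t ht y i, hy2, ?_⟩
    show (t (y • i))⁻¹ * y * t i = (t i)⁻¹ * y * ((t i)⁻¹)⁻¹
    rw [hy1, inv_inv]
  have h2 := Subgroup.mem_map_of_mem (MulAut.conj (t i)⁻¹).toMonoidHom hg
  rw [dser_map'] at h2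
  have h3 := dser_mono' hmap k h2
  rw [← dser_map'] at h3
  obtain ⟨y, hy, hy'⟩ := h3
  have h4 := congrArg Subtype.val (hk (col i) y hy (D.pr r t ht i x))
  have h5 : (((t i)⁻¹ * g * ((t i)⁻¹)⁻¹) : A) • ((t i)⁻¹ • D.e i x) = (t i)⁻¹ • D.e i x := by
    rw [show (t i)⁻¹ * g * ((t i)⁻¹)⁻¹ = (y : A) from hy'.symm]
    exact h4
  rw [inv_inv, ← mul_smul, mul_inv_cancel_right, mul_smul] at h5
  exact (smul_left_cancel_iff _).1 h5

end Frame

end Dec

/-- The number of summands of a decomposition. -/
def HasDec (A : Type u) [Group A] (V : Type u) [AddCommGroup V] [DistribMulAction A V] (N : ℕ) : Prop :=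
  ∃ (Ω : Type u) (_ : Fintype Ω) (_ : MulAction A Ω), Nat.card Ω = N ∧ Nonempty (Dec A V Ω)

/-- A decomposition with the most summands. -/
theorem exists_max [Nontrivial V] : ∃ N, HasDec A V N ∧ ∀ M, HasDec A V M → M ≤ N := by
  classical
  letI : MulAction A PUnit.{u+1} :=
    { smul := fun _ b => b, one_smul := fun _ => rfl, mul_smul := fun _ _ _ => rfl }
  have h1 : HasDec A V 1 := ⟨PUnit.{u+1}, inferInstance, inferInstance, Nat.card_unique,
    ⟨{ e := fun _ => AddMonoidHom.id V
       hid := fun _ _ => rfl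
       horth := fun i j h => absurd (Subsingleton.elim i j) h
       hsum := fun v => by simp
       heq := fun _ _ _ => rfl
       hne := fun _ => exists_ne (0 : V) }⟩⟩
  have hb : ∀ M, HasDec A V M → M ≤ Nat.card V := by
    rintro M ⟨Ω, iF, iA, rfl, ⟨D⟩⟩
    exact D.card_le
  exact ⟨Nat.findGreatest (HasDec A V) (Nat.card V), Nat.findGreatest_spec (hb 1 h1) h1,
    fun M hM => Nat.le_findGreatest (hb M hM) hM⟩

/-- The irreducible case. -/
theorem exists_irred (hS : StmtSubset.{u}) (hP : StmtPiece.{u}) [Nontrivial V]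
    (hsol : Group.IsSolvable A) (hirr : Irred A V) : ∃ v : V, Triv (stabilizer A v) 9 V := by
  classical
  obtain ⟨N, ⟨Ω, iF, iA, hN, ⟨D⟩⟩, hmax⟩ := exists_max (A := A) (V := V)
  obtain ⟨r⟩ := D.nonempty
  choose t ht using D.transitive hirr r
  letI := D.pieceAct r
  haveI := D.nontrivial_piece r
  let φ : stabilizer A r →* (AddMonoid.End (D.piece r))ˣ :=
    (rho : stabilizer A r →* AddMonoid.End (D.piece r)).toHomUnits
  haveI : Finite (AddMonoid.End (D.piece r)) :=
    Finite.of_injective (fun g : AddMonoid.End (D.piece r) => (g : D.piece r → D.piece r)) DFunLike.coe_injective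
  haveI : FaithfulSMul φ.range (D.piece r) :=
    ⟨fun {x y} h => Subtype.ext (Units.ext (DFunLike.ext _ _ h))⟩
  haveI := hsol
  have hGs : Group.IsSolvable φ.range := solvable_of_surjective φ.rangeRestrict_surjective
  have hGirr : Irred φ.range (D.piece r) := fun U hU =>
    D.irred_piece hirr r U fun a v hv => hU ⟨φ a, a, rfl⟩ v hv
  have hprim : Prim φ.range (D.piece r) := by
    refine ⟨hGirr, fun R hc hn => ?_⟩
    rcases ClassBound.field_or_decomp hGirr R hc hn with h | ⟨E, iFE, iN, iAE, f, -, -, hfa, hid, horth, hsum, hne⟩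
    · exact h
    exfalso
    letI : MulAction (stabilizer A r) E := MulAction.compHom E φ.rangeRestrict
    obtain ⟨Ω', iF', iA', hcard, hD'⟩ := D.refine_dec r t (E := E)
      (fun j => (f j : D.piece r →+ D.piece r)) hid horth hsum (fun h j w => by
        show h • f j w = f (φ.rangeRestrict h • j) (h • w)
        rw [hfa, cjEnd_apply]
        show h • f j w = h • f j ((φ.rangeRestrict h)⁻¹ • (φ.rangeRestrict h • w))
        rw [inv_smul_smul]) hne ht
    have h1 := hmax _ ⟨Ω', iF', iA', rfl, hD'⟩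
    have h2 : 1 < Nat.card E := Finite.one_lt_card
    have h3 : 0 < Nat.card Ω := Nat.card_pos_iff.2 ⟨⟨r⟩, inferInstance⟩
    rw [hcard, ← hN] at h1
    nlinarith
  have hpull : ∀ (w : D.piece r) (k : ℕ), Triv (stabilizer φ.range w) k (D.piece r) →
      Triv (stabilizer (stabilizer A r) w) k (D.piece r) := fun w k h =>
    Triv.comap φ.rangeRestrict (fun _ _ => rfl) (h.anti (by
      rintro _ ⟨a, ha, rfl⟩
      exact ha))
  rcases hP φ.range (D.piece r) hGs hprim with ⟨p, q, hne, hp, hq⟩ | ⟨f, hfi, hfs⟩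
  · obtain ⟨S, hS'⟩ := hS A Ω hsol
    refine D.colour r t (m := 3) (k := 6) (fun b : Bool => if b then p else q) (fun i => decide (i ∈ S))
      ?_ ?_ ?_ ht
    · rintro (_ | _) (_ | _) h e
      · rfl
      · refine absurd ?_ (hne (φ.rangeRestrict h)⁻¹)
        show (φ.rangeRestrict h)⁻¹ • p = q
        rw [inv_smul_eq_iff]
        exact e.symm
      · exact absurd e (hne (φ.rangeRestrict h))
      · rfl
    · rintro (_ | _)
      · exact hpull q 6 hq
      · exact hpull p 6 hp
    · intro K hK
      exact hS'.anti fun g hg x => decide_eq_decide.1 (hK g hg x)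
  · obtain ⟨c, hc⟩ := BaseThree.exists_col hsol Ω
    refine D.colour r t (m := 0) (k := 9) f c ?_ ?_ ?_ ht
    · exact fun i j h e => hfi i j (φ.rangeRestrict h) e
    · exact fun i => hpull (f i) 9 (hfs i)
    · intro K hK g hg x
      exact hc g (hK g (dser_le' K 0 hg)) x

/-- All semisimple modules. -/
theorem exists_all (hS : StmtSubset.{u}) (hP : StmtPiece.{u}) (hsol : Group.IsSolvable A) :
    ∀ (N : ℕ) (W : Type u) [AddCommGroup W] [Finite W] [DistribMulAction A W],
      Nat.card W < N → Semisimple A W → ∃ w : W, Triv (stabilizer A w) 9 W := by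
  intro N
  induction N with
  | zero => exact fun W _ _ _ hW => absurd hW (Nat.not_lt_zero _)
  | succ N ih =>
    intro W _ _ _ hW hss
    classical
    rcases subsingleton_or_nontrivial W with hsub | hnt
    · exact ⟨0, fun g _ x => Subsingleton.elim _ _⟩
    by_cases hirr : Irred A W
    · exact exists_irred hS hP hsol hirr
    rw [Irred] at hirr
    push Not at hirr
    obtain ⟨U, hU, hU0, hU1⟩ := hirr
    obtain ⟨U', hU', hUi, hUs⟩ := hss U hU
    have hU'0 : U' ≠ ⊥ := fun h => hU1 (by rwa [h, sup_bot_eq] at hUs)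
    have hU'1 : U' ≠ ⊤ := fun h => hU0 (by rwa [h, inf_top_eq] at hUi)
    have hlt : ∀ P : AddSubgroup W, P ≠ ⊤ → Nat.card P < N := fun P hP' => by
      obtain ⟨x, hx⟩ : ∃ x, x ∉ P := by
        by_contra h
        push Not at h
        exact hP' ((AddSubgroup.eq_top_iff' P).2 h)
      haveI := Fintype.ofFinite W
      have : Nat.card P < Nat.card W := by
        rw [Nat.card_eq_fintype_card, Nat.card_eq_fintype_card]
        exact Fintype.card_subtype_lt hx
      omega
    obtain ⟨u, hu⟩ := @ih U _ _ (subModule U hU) (hlt U hU1) (semisimple_subModule hss U hU)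
    obtain ⟨w, hw⟩ := @ih U' _ _ (subModule U' hU') (hlt U' hU'1) (semisimple_subModule hss U' hU')
    refine ⟨(u : W) + w, fun g hg x => ?_⟩
    have hsplit : ∀ a : A, a • ((u : W) + w) = u + w → a • (u : W) = u ∧ a • (w : W) = w := fun a ha => by
      rw [smul_add] at ha
      have h1 : a • (u : W) - u ∈ U ⊓ U' := AddSubgroup.mem_inf.2 ⟨sub_mem (hU a _ u.2) u.2, by
        rw [show a • (u : W) - u = w - a • (w : W) by rw [sub_eq_sub_iff_add_eq_add, ha, add_comm]]
        exact sub_mem w.2 (hU' a _ w.2)⟩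
      rw [hUi, AddSubgroup.mem_bot, sub_eq_zero] at h1
      exact ⟨h1, by rwa [h1, add_right_inj] at ha⟩
    obtain ⟨p, hp, q, hq, rfl⟩ := AddSubgroup.mem_sup.1 (hUs ▸ AddSubgroup.mem_top x : x ∈ U ⊔ U')
    rw [smul_add]
    congr 1
    · refine congrArg Subtype.val (@hu g (dser_mono' ?_ 9 hg) ⟨p, hp⟩)
      exact fun a ha => Subtype.ext (hsplit a ha).1
    · refine congrArg Subtype.val (@hw g (dser_mono' ?_ 9 hg) ⟨q, hq⟩)
      exact fun a ha => Subtype.ext (hsplit a ha).2

end Glue

/-- Piece Q1. -/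
theorem stmtGlue : StmtGlue.{u} :=
  fun hS hP A _ _ V _ _ _ hsol hss => Glue.exists_all hS hP hsol (Nat.card V + 1) V (Nat.lt_succ_self _) hss

end CfsgLib.OrbitStab
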