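import Cfsg.Agent.Lib.FgsC.OrbitStab.Defs

/-!
# Derived subgroups acting trivially
-/

set_option autoImplicit false

universe u

namespace CfsgLib.OrbitStab

open CfsgLib.BaseTwo
open scoped commutatorElement

variable {A : Type u} [Group A]

theorem dser_zero' (H : Subgroup A) : dser H 0 = H := by
  show (derivedSeries H 0).map H.subtype = H
  rw [derivedSeries_zero, ← MonoidHom.range_eq_map, Subgroup.range_subtype]

theorem dser_succ' (H : Subgroup A) (k : ℕ) : dser H (k + 1) = ⁅dser H k, dser H k⁆ := by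
  show (derivedSeries H (k + 1)).map H.subtype = _
  rw [derivedSeries_succ, Subgroup.map_commutator]

theorem dser_le' (H : Subgroup A) (k : ℕ) : dser H k ≤ H := Subgroup.map_subtype_le _

theorem dser_mono' {H K : Subgroup A} (h : H ≤ K) : ∀ k, dser H k ≤ dser K k
  | 0 => by rwa [dser_zero', dser_zero']
  | k + 1 => by
    rw [dser_succ', dser_succ']
    exact Subgroup.commutator_mono (dser_mono' h k) (dser_mono' h k)

theorem dser_dser (H : Subgroup A) (i : ℕ) : ∀ k, dser (dser H i) k = dser H (i + k)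
  | 0 => by rw [dser_zero', Nat.add_zero]
  | k + 1 => by rw [dser_succ', dser_dser H i k, ← Nat.add_assoc, dser_succ']

theorem dser_antitone (H : Subgroup A) {i j : ℕ} (h : i ≤ j) : dser H j ≤ dser H i := by
  obtain ⟨k, rfl⟩ := Nat.exists_eq_add_of_le h
  rw [← dser_dser]
  exact dser_le' _ k

theorem dser_map' {B : Type u} [Group B] (f : A →* B) (H : Subgroup A) :
    ∀ k, (dser H k).map f = dser (H.map f) k
  | 0 => by rw [dser_zero', dser_zero']
  | k + 1 => by rw [dser_succ', Subgroup.map_commutator, dser_map' f H k, dser_succ']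

theorem dser_top : ∀ k, dser (⊤ : Subgroup A) k = derivedSeries A k
  | 0 => by rw [dser_zero', derivedSeries_zero]
  | k + 1 => by rw [dser_succ', dser_top k, derivedSeries_succ]

theorem normal_dser_top (k : ℕ) : (dser (⊤ : Subgroup A) k).Normal := by
  rw [dser_top]; exact derivedSeries_normal A k

theorem map_dser_top_le {B : Type u} [Group B] (f : A →* B) (k : ℕ) :
    (dser (⊤ : Subgroup A) k).map f ≤ dser (⊤ : Subgroup B) k := by
  rw [dser_map']; exact dser_mono' le_top k

variable {X : Type u} [MulAction A X]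

theorem Triv.mono {H : Subgroup A} {k j : ℕ} (h : Triv H k X) (hkj : k ≤ j) : Triv H j X :=
  fun g hg => h g (dser_antitone H hkj hg)

theorem Triv.anti {H K : Subgroup A} {k : ℕ} (h : Triv K k X) (hHK : H ≤ K) : Triv H k X :=
  fun g hg => h g (dser_mono' hHK k hg)

/-- Pull back along an equivariant homomorphism. -/
theorem Triv.comap {B : Type u} [Group B] (f : A →* B) [MulAction B X]
    (hf : ∀ (a : A) (x : X), f a • x = a • x) {H : Subgroup A} {k : ℕ} (h : Triv (H.map f) k X) :
    Triv H k X := fun g hg x => by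
  rw [← hf]
  exact h (f g) (by rw [← dser_map']; exact Subgroup.mem_map_of_mem f hg) x

theorem Triv.top_comap {B : Type u} [Group B] (f : A →* B) [MulAction B X]
    (hf : ∀ (a : A) (x : X), f a • x = a • x) {k : ℕ} (h : Triv (⊤ : Subgroup B) k X) :
    Triv (⊤ : Subgroup A) k X :=
  Triv.comap f hf (h.anti le_top)

/-- The bound seen inside a subgroup. -/
theorem triv_of_sub {H : Subgroup A} {k : ℕ} (h : Triv (⊤ : Subgroup H) k X) : Triv H k X :=
  fun g hg x => by
    obtain ⟨y, hy, rfl⟩ := hg
    exact h y (by rw [dser_top]; exact hy) x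

theorem triv_dser {H : Subgroup A} {i k : ℕ} (h : Triv (dser H i) k X) : Triv H (i + k) X :=
  fun g hg => h g (by rw [dser_dser]; exact hg)

/-- A commutative image. -/
theorem triv_one_of_comm {H : Subgroup A}
    (h : ∀ a ∈ H, ∀ b ∈ H, ∀ x : X, a • b • x = b • a • x) : Triv H 1 X := by
  intro g hg
  rw [show dser H 1 = ⁅dser H 0, dser H 0⁆ from dser_succ' H 0, dser_zero'] at hg
  rw [Subgroup.commutator_def] at hg
  induction hg using Subgroup.closure_induction with
  | mem y hy =>
    obtain ⟨a, ha, b, hb, rfl⟩ := hy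
    intro x
    rw [commutatorElement_def, mul_smul, mul_smul, mul_smul]
    rw [h a⁻¹ (H.inv_mem ha) b⁻¹ (H.inv_mem hb) x, smul_inv_smul, smul_inv_smul]
  | one => exact one_smul A
  | mul a b _ _ ha hb => exact fun x => by rw [mul_smul, hb, ha]
  | inv a _ ha => exact fun x => by rw [inv_smul_eq_iff, ha]

section Module

variable {V : Type u} [AddCommGroup V] [DistribMulAction A V]

theorem Irred.semisimple (h : Irred A V) : Semisimple A V := fun U hU => by
  rcases h U hU with rfl | rfl
  · exact ⟨⊤, fun _ _ _ => AddSubgroup.mem_top _, bot_inf_eq _, bot_sup_eq _⟩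
  · exact ⟨⊥, fun a w hw => by rw [AddSubgroup.mem_bot] at hw ⊢; rw [hw, smul_zero],
      inf_bot_eq _, sup_bot_eq _⟩

/-- An invariant subgroup as a module. -/
@[reducible] def subModule (U : AddSubgroup V) (hU : ∀ a : A, ∀ v ∈ U, a • v ∈ U) :
    DistribMulAction A U where
  smul a x := ⟨a • (x : V), hU a x x.2⟩
  one_smul x := Subtype.ext (one_smul A (x : V))
  mul_smul a b x := Subtype.ext (mul_smul a b (x : V))
  smul_zero a := Subtype.ext (smul_zero a)
  smul_add a x y := Subtype.ext (smul_add a (x : V) y)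

theorem semisimple_subModule (hss : Semisimple A V) (U : AddSubgroup V)
    (hU : ∀ a : A, ∀ v ∈ U, a • v ∈ U) :
    letI := subModule U hU
    Semisimple A U := by
  letI := subModule U hU
  intro P hP
  set Pb := P.map U.subtype with hPb
  obtain ⟨W, hW, hi, hs⟩ := hss Pb (by
    rintro a _ ⟨x, hx, rfl⟩
    exact ⟨a • x, hP a x hx, rfl⟩)
  refine ⟨W.addSubgroupOf U, fun a x hx => hW a _ hx, ?_, ?_⟩
  · rw [AddSubgroup.eq_bot_iff_forall]
    intro x hx
    have : (x : V) ∈ Pb ⊓ W := ⟨⟨x, hx.1, rfl⟩, hx.2⟩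
    rw [hi, AddSubgroup.mem_bot] at this
    exact Subtype.ext this
  · rw [AddSubgroup.eq_top_iff']
    intro x
    obtain ⟨y, ⟨y', hy', rfl⟩, z, hz, hyz⟩ :=
      AddSubgroup.mem_sup.1 (hs ▸ AddSubgroup.mem_top (x : V) : (x : V) ∈ Pb ⊔ W)
    refine AddSubgroup.mem_sup.2 ⟨y', hy', x - y', ?_, add_sub_cancel _ _⟩
    show ((x - y' : U) : V) ∈ W
    rw [AddSubgroup.coe_sub, show (x : V) - y' = z by rw [← hyz]; exact add_sub_cancel_left _ _]
    exact hz

end Module

end CfsgLib.OrbitStab
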