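import Cfsg.Agent.Lib.FgsC.OrbitStab.Data
import Cfsg.Agent.Lib.FgsC.OrbitStab.TriLemmas

/-!
# S4070, piece G6b: five orbits by counting
-/

set_option autoImplicit false
set_option linter.unusedSectionVars false
set_option linter.style.haveILetI false

universe u

namespace CfsgLib.OrbitStab.LargeE

open CfsgLib.BaseTwo MulAction
open scoped commutatorElement

/-! ## Arithmetic -/

theorem grow {q e0 : ℕ} (he0 : 81 ≤ e0) (hq : 3 ≤ q) (h0 : 16 * e0 ^ 32 ≤ q ^ (e0 - 4)) :
    ∀ e, e0 ≤ e → 16 * e ^ 32 ≤ q ^ (e - 4) := by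
  intro e he
  induction e, he using Nat.le_induction with
  | base => exact h0
  | succ e he ih =>
    have h81 : 81 ≤ e := he0.trans he
    have h1 : (e + 1) ^ 32 * 81 ^ 32 ≤ e ^ 32 * 82 ^ 32 := by
      rw [← mul_pow, ← mul_pow]
      exact Nat.pow_le_pow_left (by omega) 32
    have h2' : (82 : ℕ) ^ 32 ≤ 3 * 81 ^ 32 := by decide +kernel
    have h2 : (82 : ℕ) ^ 32 ≤ q * 81 ^ 32 := h2'.trans (Nat.mul_le_mul_right _ hq)
    have h3 : (e + 1) ^ 32 ≤ q * e ^ 32 := by
      refine Nat.le_of_mul_le_mul_right ?_ (pow_pos (show 0 < 81 by norm_num) 32)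
      calc (e + 1) ^ 32 * 81 ^ 32 ≤ e ^ 32 * 82 ^ 32 := h1
        _ ≤ e ^ 32 * (q * 81 ^ 32) := Nat.mul_le_mul_left _ h2
        _ = q * e ^ 32 * 81 ^ 32 := by ring
    calc 16 * (e + 1) ^ 32 ≤ q * (16 * e ^ 32) := by
          rw [mul_left_comm]; exact Nat.mul_le_mul_left _ h3
      _ ≤ q * q ^ (e - 4) := Nat.mul_le_mul_left _ ih
      _ = q ^ (e + 1 - 4) := by rw [← pow_succ', show e + 1 - 4 = e - 4 + 1 by omega]

theorem two_lt : ∀ e, 32 ≤ e → 2 * e ^ 8 < 3 ^ (e - 2) := by
  intro e he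
  induction e, he using Nat.le_induction with
  | base => decide +kernel
  | succ e he ih =>
    have h1 : (e + 1) ^ 8 * 32 ^ 8 ≤ e ^ 8 * 33 ^ 8 := by
      rw [← mul_pow, ← mul_pow]
      exact Nat.pow_le_pow_left (by omega) 8
    have h2 : (33 : ℕ) ^ 8 ≤ 3 * 32 ^ 8 := by norm_num
    have h3 : (e + 1) ^ 8 ≤ 3 * e ^ 8 := by
      refine Nat.le_of_mul_le_mul_right ?_ (pow_pos (show 0 < 32 by norm_num) 8)
      calc (e + 1) ^ 8 * 32 ^ 8 ≤ e ^ 8 * 33 ^ 8 := h1
        _ ≤ e ^ 8 * (3 * 32 ^ 8) := Nat.mul_le_mul_left _ h2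
        _ = 3 * e ^ 8 * 32 ^ 8 := by ring
    calc 2 * (e + 1) ^ 8 ≤ 3 * (2 * e ^ 8) := by omega
      _ < 3 * 3 ^ (e - 2) := Nat.mul_lt_mul_of_pos_left ih (by norm_num)
      _ = 3 ^ (e + 1 - 2) := by rw [show e + 1 - 2 = e - 2 + 1 by omega, pow_succ']

theorem mem_small : ∀ e < 32, ((8 ∣ e) ∨ ∃ r ∈ [3, 5], r * r ∣ e) → e ≠ 0 →
    e ∈ [8, 9, 16, 18, 24, 25, 27] := by
  decide +kernel

variable {A : Type u} [Group A] [Finite A] {V : Type u} [AddCommGroup V] [Finite V]
  [DistribMulAction A V]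

/-- a set larger than four orbits meets five -/
theorem five_orbits (P : V → Prop) (h : 4 * Nat.card A < Nat.card {v : V // P v}) :
    ∃ f : Fin 5 → V, (∀ (i j : Fin 5) (a : A), a • f i = f j → i = j) ∧ ∀ i, P (f i) := by
  classical
  haveI := Fintype.ofFinite A
  haveI := Fintype.ofFinite V
  have key : ∀ k, k ≤ 5 → ∃ f : Fin k → V,
      (∀ (i j : Fin k) (a : A), a • f i = f j → i = j) ∧ ∀ i, P (f i) := by
    intro k
    induction k with
    | zero => exact fun _ => ⟨Fin.elim0, fun i => i.elim0, fun i => i.elim0⟩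
    | succ k ih =>
      intro hk
      obtain ⟨f, hf, hP⟩ := ih (by omega)
      obtain ⟨v, hv, hnv⟩ : ∃ v, P v ∧ ∀ i (a : A), a • f i ≠ v := by
        by_contra hall
        push Not at hall
        have h1 : (Finset.univ.filter P) ⊆
            Finset.univ.image fun p : Fin k × A => p.2 • f p.1 := fun v hv => by
          obtain ⟨i, a, e⟩ := hall v (Finset.mem_filter.1 hv).2
          exact Finset.mem_image.2 ⟨(i, a), Finset.mem_univ _, e⟩
        have h2 := (Finset.card_le_card h1).trans Finset.card_image_le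
        rw [Finset.card_univ, Fintype.card_prod, Fintype.card_fin] at h2
        rw [Nat.subtype_card (Finset.univ.filter P) (by simp), Nat.card_eq_fintype_card] at h
        have : k * Fintype.card A ≤ 4 * Fintype.card A := Nat.mul_le_mul_right _ (by omega)
        omega
      refine ⟨Fin.snoc f v, fun i j a e => ?_, fun i => ?_⟩
      · induction i using Fin.lastCases with
        | last =>
          induction j using Fin.lastCases with
          | last => rfl
          | cast j =>
            rw [Fin.snoc_last, Fin.snoc_castSucc] at e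
            exact absurd (by rw [← e, inv_smul_smul]) (hnv j a⁻¹)
        | cast i =>
          induction j using Fin.lastCases with
          | last =>
            rw [Fin.snoc_last, Fin.snoc_castSucc] at e
            exact absurd e (hnv i a)
          | cast j =>
            rw [Fin.snoc_castSucc, Fin.snoc_castSucc] at e
            rw [hf i j a e]
      · induction i using Fin.lastCases with
        | last => rw [Fin.snoc_last]; exact hv
        | cast i => rw [Fin.snoc_castSucc]; exact hP i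
  exact key 5 le_rfl

/-! ## The derived length on the section -/

/-- the torsion part -/
def tor (M : Type u) [AddCommGroup M] (R : ℕ) : AddSubgroup M where
  carrier := {m | R • m = 0}
  zero_mem' := nsmul_zero R
  add_mem' {a b} ha hb := by
    show R • (a + b) = 0
    rw [nsmul_add, ha, hb, add_zero]
  neg_mem' {a} ha := by
    show R • -a = 0
    rw [neg_nsmul, ha, neg_zero]

theorem coprime_card {M : Type u} [AddCommGroup M] [Finite M] {R S : ℕ} (h : R.Coprime S)
    (hR : ∀ m : M, R • m = 0) : (Nat.card M).Coprime S := by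
  refine Nat.coprime_of_dvd fun p hp hd hdS => ?_
  haveI := Fact.mk hp
  obtain ⟨m, hm⟩ := exists_prime_addOrderOf_dvd_card' (G := M) p hd
  have h1 : p ∣ R := hm ▸ addOrderOf_dvd_of_nsmul_eq_zero (hR m)
  exact hp.one_lt.ne' (Nat.dvd_one.1 (h.gcd_eq_one ▸ Nat.dvd_gcd h1 hdS))

theorem card_tor {M : Type u} [AddCommGroup M] [Finite M] {R S : ℕ} (hc : R.Coprime S)
    (hcard : Nat.card M = R * S) : Nat.card (tor M R) = R := by
  have h1 : Nat.card M = Nat.card (tor M S) * Nat.card (nsmulAddMonoidHom (α := M) S).range := by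
    have hk : (nsmulAddMonoidHom (α := M) S).ker = tor M S := rfl
    rw [← hk, ← AddSubgroup.index_ker, AddSubgroup.card_mul_index]
  have h2 : (nsmulAddMonoidHom (α := M) S).range ≤ tor M R := by
    rintro _ ⟨m, rfl⟩
    show R • S • m = 0
    rw [← mul_nsmul', ← hcard, card_nsmul_eq_zero']
  have h3 := AddSubgroup.card_dvd_of_le h2
  have cR := coprime_card (M := tor M R) hc fun m => Subtype.ext m.2
  have cS := coprime_card (M := tor M S) hc.symm fun m => Subtype.ext m.2
  apply Nat.dvd_antisymm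
  · refine cR.dvd_of_dvd_mul_right ?_
    rw [← hcard]
    exact AddSubgroup.card_addSubgroup_dvd_card _
  · refine cS.symm.dvd_of_dvd_mul_left ?_
    exact (Dvd.intro S hcard.symm : R ∣ Nat.card M).trans (h1 ▸ Nat.mul_dvd_mul_left _ h3)

/-- derived length bound from the primary parts -/
theorem triv_of_parts {M : Type u} [AddCommGroup M] [Finite M] [DistribMulAction A M]
    (hs : Group.IsSolvable A) (hss : Semisimple A M) {e : ℕ} (he : 0 < e)
    (hcard : Nat.card M = e ^ 2) {k : ℕ}
    (hb : ∀ r : ℕ, r.Prime → r ∣ e → Bd.{u} r (2 * e.factorization r) k) :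
    Triv (⊤ : Subgroup A) k M := by
  intro g hg
  have hpart : ∀ r : ℕ, r.Prime → r ∣ e →
      ∀ m ∈ tor M (r ^ (2 * e.factorization r)), g • m = m := by
    intro r hr hre m hm
    set R := r ^ (2 * e.factorization r) with hR
    have hU : ∀ a : A, ∀ x ∈ tor M R, a • x ∈ tor M R := fun a x hx => by
      show R • a • x = 0
      rw [smul_comm, show R • x = 0 from hx, smul_zero]
    letI := subModule (tor M R) hU
    have hcR : Nat.card (tor M R) = R := by
      refine card_tor (S := (e / r ^ e.factorization r) ^ 2) ?_ ?_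
      · exact Nat.Coprime.pow _ _ (Nat.coprime_ordCompl hr he.ne')
      · rw [hcard, hR, mul_comm 2, pow_mul, ← mul_pow, Nat.ordProj_mul_ordCompl_eq_self]
    exact congrArg Subtype.val
      (hb r hr hre A (tor M R) hs hcR (semisimple_subModule hss (tor M R) hU) g hg ⟨m, hm⟩)
  let U : AddSubgroup M :=
    { carrier := {m | g • m = m}
      zero_mem' := smul_zero g
      add_mem' := fun {a b} ha hb' => by
        show g • (a + b) = a + b
        rw [smul_add, ha, hb']
      neg_mem' := fun {a} ha => by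
        show g • -a = -a
        rw [smul_neg, ha] }
  suffices hU : U = ⊤ from fun m => (hU ▸ AddSubgroup.mem_top m : m ∈ U)
  refine AddSubgroup.eq_top_of_card_eq _ (Nat.dvd_antisymm (AddSubgroup.card_addSubgroup_dvd_card U) ?_)
  rw [hcard]
  refine (Nat.factorization_le_iff_dvd (pow_ne_zero 2 he.ne') Nat.card_pos.ne').1 fun r => ?_
  by_cases hre : r.Prime ∧ r ∣ e
  · rw [Nat.factorization_pow, Finsupp.smul_apply, smul_eq_mul]
    refine (hre.1.pow_dvd_iff_le_factorization Nat.card_pos.ne').1 ?_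
    have hle : tor M (r ^ (2 * e.factorization r)) ≤ U := fun m hm => hpart r hre.1 hre.2 m hm
    have h1 := AddSubgroup.card_dvd_of_le hle
    rwa [card_tor (S := (e / r ^ e.factorization r) ^ 2)
      (Nat.Coprime.pow _ _ (Nat.coprime_ordCompl hre.1 he.ne'))
      (by rw [hcard, mul_comm 2, pow_mul, ← mul_pow, Nat.ordProj_mul_ordCompl_eq_self])] at h1
  · rw [Nat.factorization_pow, Finsupp.smul_apply, smul_eq_mul,
      Nat.factorization_eq_zero_iff _ _ |>.2]
    · exact Nat.zero_le _
    · rcases not_and_or.1 hre with h | h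
      exacts [Or.inl h, Or.inr (Or.inl h)]

/-! ## Fixed spaces -/

variable [Nontrivial V] [FaithfulSMul A V] (D : Data A V)

theorem fix_scalar {a : A} (ha : a ∈ D.S.A) (ha1 : a ≠ 1) :
    Nat.card (fixA (V := V) a) = 1 :=
  Nat.card_eq_one_iff_unique.2 ⟨⟨fun x y => Subtype.ext (by
    rw [D.fpf a ha ha1 x x.2, D.fpf a ha ha1 y y.2])⟩, ⟨0⟩⟩

theorem fix_N {u : A} (hu : u ∈ D.S.N) (hu1 : u ≠ 1) :
    Nat.card (fixA (V := V) u) ^ 2 ≤ Nat.card V := by
  by_cases hA : u ∈ D.S.A
  · rw [fix_scalar D hA hu1, one_pow]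
    exact Nat.card_pos
  obtain ⟨y, hy, hne⟩ := D.S.exists_comm_ne (D.S.hNC hu) hA
  refine (fix_sq_le u y).trans ?_
  rw [fix_scalar D (D.S.hNN u hu y hy) hne, mul_one]

theorem comm_mem_N {g x : A} (hx : x ∈ D.S.N) : ⁅g, x⁆ ∈ D.S.N := by
  rw [commutatorElement_def]
  exact D.S.N.mul_mem (D.S.hN.conj_mem x hx g) (D.S.N.inv_mem hx)

theorem fix_four {g : A} (hg : g ∈ D.S.C) (hg1 : g ≠ 1) :
    Nat.card (fixA (V := V) g) ^ 4 ≤ Nat.card V ^ 3 := by
  by_cases hA : g ∈ D.S.A
  · rw [fix_scalar D hA hg1, one_pow]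
    exact Nat.one_le_pow _ _ Nat.card_pos
  obtain ⟨x, hx, hne⟩ := D.S.exists_comm_ne hg hA
  calc Nat.card (fixA (V := V) g) ^ 4 = (Nat.card (fixA (V := V) g) ^ 2) ^ 2 := by ring
    _ ≤ (Nat.card V * Nat.card (fixA (V := V) ⁅g, x⁆)) ^ 2 :=
        Nat.pow_le_pow_left (fix_sq_le g x) 2
    _ = Nat.card V ^ 2 * Nat.card (fixA (V := V) ⁅g, x⁆) ^ 2 := mul_pow _ _ _
    _ ≤ Nat.card V ^ 2 * Nat.card V := Nat.mul_le_mul_left _ (fix_N D (comm_mem_N D hx) hne)
    _ = Nat.card V ^ 3 := by ring

/-- with scalars of order three the fixed space outside them is at most a third -/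
theorem fix_N_three (hA3 : Nat.card D.S.A ∣ 3) (hV : (Nat.card V).Coprime 3) {u : A}
    (hu : u ∈ D.S.N) (hu1 : u ≠ 1) : Nat.card (fixA (V := V) u) ^ 3 ≤ Nat.card V := by
  by_cases hA : u ∈ D.S.A
  · rw [fix_scalar D hA hu1, one_pow]
    exact Nat.card_pos
  obtain ⟨y, hy, hne⟩ := D.S.exists_comm_ne (D.S.hNC hu) hA
  set c : A := ⁅u, y⁆ with hc
  have hcA : c ∈ D.S.A := D.S.hNN u hu y hy
  have hc3 : c ^ 3 = 1 :=
    orderOf_dvd_iff_pow_eq_one.1 ((Subgroup.orderOf_dvd_natCard _ hcA).trans hA3)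
  have hcom : ∀ x ∈ D.S.N, c * x = x * c := fun x hx => D.S.comm_A hcA (D.S.hNC hx)
  have huy : u * y = c * y * u := by rw [hc, commutatorElement_def]; group
  have hzero : ∀ w : V, c • w = w → w = 0 := fun w hw => D.fpf c hcA hne w hw
  have hsum : ∀ w : V, w + c • w + c • c • w = 0 := fun w => hzero _ (by
    have h3 : c • c • c • w = w := by
      rw [smul_smul, smul_smul, show c * c * c = c ^ 3 by simp [pow_succ], hc3, one_smul]
    rw [smul_add, smul_add, h3]
    abel)
  have h1 : ∀ v : fixA (V := V) u, u • y • (v : V) = c • y • (v : V) := fun v => by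
    rw [smul_smul, huy, mul_smul, mul_smul, show u • (v : V) = v from v.2]
  have h2 : ∀ v : fixA (V := V) u, u • y • y • (v : V) = c • c • y • y • (v : V) := fun v => by
    have e : u • (v : V) = v := v.2
    calc u • y • y • (v : V) = c • y • u • y • (v : V) := by
          rw [smul_smul, huy, mul_smul, mul_smul]
      _ = c • y • c • y • (v : V) := by rw [h1]
      _ = c • c • y • y • (v : V) := by
          rw [smul_smul y c, ← hcom y hy, mul_smul]
  let φ : fixA (V := V) u × fixA (V := V) u × fixA (V := V) u →+ V :=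
    AddMonoidHom.mk' (fun p => (p.1 : V) + y • (p.2.1 : V) + y • y • (p.2.2 : V)) fun p q => by
      simp only [Prod.fst_add, Prod.snd_add, AddSubgroup.coe_add, smul_add]
      abel
  have hinj : Function.Injective φ := by
    rw [injective_iff_map_eq_zero]
    rintro ⟨p0, p1, p2⟩ hp
    set a := (p0 : V) with ha
    set b := y • (p1 : V) with hb
    set d := y • y • (p2 : V) with hd
    have e0 : a + b + d = 0 := hp
    have e1 : a + c • b + c • c • d = 0 := by
      have := congrArg (fun t : V => u • t) e0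
      simp only [smul_add, smul_zero] at this
      rwa [show u • a = a from p0.2, hb, hd, h1, h2] at this
    have hcu : ∀ t : V, u • c • t = c • u • t := fun t => by
      rw [smul_smul, ← hcom u hu, mul_smul]
    have hc3' : ∀ t : V, c • c • c • t = t := fun t => by
      rw [smul_smul, smul_smul, show c * c * c = c ^ 3 by simp [pow_succ], hc3, one_smul]
    have e2 : a + c • c • b + c • d = 0 := by
      have := congrArg (fun t : V => u • t) e1
      simp only [smul_add, smul_zero, hcu] at this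
      rw [show u • a = a from p0.2, hb, hd, h1, h2, hc3'] at this
      exact this
    have ha0 : a = 0 := by
      have h3a : 3 • a = 0 := by
        have hb' := hsum b
        have hd' := hsum d
        calc 3 • a = (a + b + d) + (a + c • b + c • c • d) + (a + c • c • b + c • d)
            - (b + c • b + c • c • b) - (d + c • d + c • c • d) := by abel
          _ = 0 := by rw [e0, e1, e2, hb', hd']; abel
      have h4 : addOrderOf a ∣ 1 := hV.gcd_eq_one ▸
        Nat.dvd_gcd (addOrderOf_dvd_natCard a) (addOrderOf_dvd_of_nsmul_eq_zero h3a)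
      exact AddMonoid.addOrderOf_eq_one_iff.1 (Nat.dvd_one.1 h4)
    rw [ha0, zero_add] at e0 e1
    have hbd : b = -d := eq_neg_of_add_eq_zero_left e0
    rw [hbd, smul_neg, neg_add_eq_zero] at e1
    have hd0 : d = 0 := hzero d ((smul_left_cancel_iff c).1 e1.symm)
    rw [hd0, neg_zero] at hbd
    have hp1 : (p1 : V) = 0 := (smul_eq_zero_iff_eq y).1 hbd
    have hp2 : (p2 : V) = 0 := (smul_eq_zero_iff_eq y).1 ((smul_eq_zero_iff_eq y).1 hd0)
    exact Prod.ext (Subtype.ext ha0) (Prod.ext (Subtype.ext hp1) (Subtype.ext hp2))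
  have h := Nat.card_le_card_of_injective φ hinj
  rw [Nat.card_prod, Nat.card_prod] at h
  rw [pow_succ, pow_two, mul_assoc]
  exact h

theorem fix_three (hA3 : Nat.card D.S.A ∣ 3) (hV : (Nat.card V).Coprime 3) {g : A}
    (hg : g ∈ D.S.C) (hg1 : g ≠ 1) : Nat.card (fixA (V := V) g) ^ 3 ≤ Nat.card V ^ 2 := by
  by_cases hA : g ∈ D.S.A
  · rw [fix_scalar D hA hg1, one_pow]
    exact Nat.one_le_pow _ _ Nat.card_pos
  obtain ⟨x, hx, hne⟩ := D.S.exists_comm_ne hg hA
  refine (Nat.pow_le_pow_iff_left two_ne_zero).1 ?_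
  calc (Nat.card (fixA (V := V) g) ^ 3) ^ 2 = (Nat.card (fixA (V := V) g) ^ 2) ^ 3 := by ring
    _ ≤ (Nat.card V * Nat.card (fixA (V := V) ⁅g, x⁆)) ^ 3 :=
        Nat.pow_le_pow_left (fix_sq_le g x) 3
    _ = Nat.card V ^ 3 * Nat.card (fixA (V := V) ⁅g, x⁆) ^ 3 := mul_pow _ _ _
    _ ≤ Nat.card V ^ 3 * Nat.card V :=
        Nat.mul_le_mul_left _ (fix_N_three D hA3 hV (comm_mem_N D hx) hne)
    _ = (Nat.card V ^ 2) ^ 2 := by ring

/-! ## The two counts -/

theorem q_gt {r : ℕ} (hr : r.Prime) (hre : r ∣ D.e) : r ∣ D.q - 1 ∧ r < D.q := by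
  have h1 : r ∣ D.q - 1 := (D.prime_dvd r hr hre).1.trans D.cardA
  have h2 := D.qpp.two_le
  exact ⟨h1, by have := Nat.le_of_dvd (by omega) h1; omega⟩

theorem index_le : 2 * D.S.C.index ≤ D.q := by
  obtain ⟨p, d, hp, hd, hq⟩ := (isPrimePow_nat_iff _).1 D.qpp
  have h1 := D.index p d hp hq.symm
  have h2 : 2 * d ≤ 2 ^ d := by
    have := Nat.lt_two_pow_self (n := d - 1)
    rw [show d = d - 1 + 1 by omega, pow_succ]
    omega
  have h3 : 2 ^ d ≤ p ^ d := Nat.pow_le_pow_left hp.two_le d
  omega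

theorem card_C (hs : Group.IsSolvable A) : Nat.card D.S.C ≤ (D.q - 1) * D.e ^ 8 := by
  have h2 := D.qpp.two_le
  have h1 := card_sect_triple hs D.S D.kerQ D.ssQ
  rw [D.cardQ] at h1
  have hA : Nat.card D.S.A ≤ D.q - 1 := Nat.le_of_dvd (by omega) D.cardA
  have hC : Nat.card D.S.C = Nat.card D.S.A * D.e ^ 2 * D.S.N.relIndex D.S.C := by
    rw [← D.sq, ← Subgroup.relIndex_bot_left D.S.A,
      Subgroup.relIndex_mul_relIndex _ _ _ bot_le D.S.hAN,
      Subgroup.relIndex_mul_relIndex _ _ _ bot_le D.S.hNC, Subgroup.relIndex_bot_left]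
  calc Nat.card D.S.C = Nat.card D.S.A * D.e ^ 2 * D.S.N.relIndex D.S.C := hC
    _ ≤ (D.q - 1) * D.e ^ 2 * (D.e ^ 2) ^ 3 := by gcongr
    _ = (D.q - 1) * D.e ^ 8 := by ring

theorem card_A_le : Nat.card A ≤ (D.q - 1) * D.S.C.index * D.e ^ 8 :=
  D.cardH.trans (le_of_eq (by ring))

/-- the vectors fixed by nothing of the centraliser -/
theorem five_of_good (h8 : 8 * Nat.card A < Nat.card V)
    (hfix : ∀ g ∈ D.S.C, g ≠ 1 → 2 * Nat.card D.S.C * Nat.card (fixA (V := V) g) ≤ Nat.card V) :
    Five A V := by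
  classical
  haveI := Fintype.ofFinite V
  haveI := Fintype.ofFinite A
  haveI := Fintype.ofFinite D.S.C
  let good : V → Prop := fun v => ∀ g ∈ D.S.C, g • v = v → g = 1
  have hbad : 2 * (Finset.univ.filter fun v => ¬ good v).card ≤ Nat.card V := by
    let T : Finset D.S.C := Finset.univ.filter fun g => (g : A) ≠ 1
    have h1 : (Finset.univ.filter fun v => ¬ good v) ⊆
        T.biUnion fun g => Finset.univ.filter fun v : V => (g : A) • v = v := fun v hv => by
      have hv' := (Finset.mem_filter.1 hv).2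
      simp only [good] at hv'
      push Not at hv'
      obtain ⟨g, hg, hgv, hg1⟩ := hv'
      exact Finset.mem_biUnion.2 ⟨⟨g, hg⟩, by simp [T, hg1], by simp [hgv]⟩
    have h2 := (Finset.card_le_card h1).trans Finset.card_biUnion_le
    refine Nat.le_of_mul_le_mul_right ?_ (Nat.card_pos (α := D.S.C))
    calc 2 * (Finset.univ.filter fun v => ¬ good v).card * Nat.card D.S.C
        ≤ 2 * (∑ g ∈ T, (Finset.univ.filter fun v : V => (g : A) • v = v).card) * Nat.card D.S.C :=
          Nat.mul_le_mul_right _ (Nat.mul_le_mul_left _ h2)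
      _ = ∑ g ∈ T, 2 * Nat.card D.S.C * (Finset.univ.filter fun v : V => (g : A) • v = v).card := by
          rw [Finset.mul_sum, Finset.sum_mul]
          exact Finset.sum_congr rfl fun g _ => by ring
      _ ≤ ∑ _g ∈ T, Nat.card V := Finset.sum_le_sum fun g hg => by
          have e : (Finset.univ.filter fun v : V => (g : A) • v = v).card =
              Nat.card (fixA (V := V) (g : A)) := by
            rw [← Fintype.card_subtype, ← Nat.card_eq_fintype_card]
            rfl
          rw [e]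
          exact hfix g g.2 (Finset.mem_filter.1 hg).2
      _ ≤ Nat.card V * Nat.card D.S.C := by
          rw [Finset.sum_const, smul_eq_mul, mul_comm]
          exact Nat.mul_le_mul_left _ ((Finset.card_le_univ T).trans
            Nat.card_eq_fintype_card.ge)
  have hgood : 4 * Nat.card A < Nat.card {v : V // good v} := by
    rw [Nat.subtype_card (Finset.univ.filter good) (by simp)]
    have h3 := Finset.card_filter_add_card_filter_not (s := (Finset.univ : Finset V)) good
    rw [Finset.card_univ, ← Nat.card_eq_fintype_card] at h3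
    omega
  obtain ⟨f, hf, hfg⟩ := five_orbits good hgood
  refine ⟨f, hf, fun i => ?_⟩
  refine (triv_one_of_comm fun a ha b hb x => ?_).mono (by norm_num)
  have hc : a * b * a⁻¹ * b⁻¹ = 1 := hfg i _ (D.gal a b) (by
    exact (stabilizer A (f i)).mul_mem ((stabilizer A (f i)).mul_mem
      ((stabilizer A (f i)).mul_mem ha hb) ((stabilizer A (f i)).inv_mem ha))
      ((stabilizer A (f i)).inv_mem hb))
  rw [← mul_smul, ← mul_smul, mul_inv_eq_one, mul_inv_eq_iff_eq_mul] at *
  rw [hc]

/-- orbits of nonzero vectors when the tables cover the section -/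
theorem five_of_tables (hs : Group.IsSolvable A) (h4 : 4 * Nat.card A + 1 < Nat.card V)
    (hb : ∀ r : ℕ, r.Prime → r ∣ D.e → Bd.{u} r (2 * D.e.factorization r) 8) : Five A V := by
  have hQ : Triv (⊤ : Subgroup A) 8 (Additive D.S.Q) :=
    triv_of_parts hs D.ssQ D.he D.cardQ hb
  have hcard : 4 * Nat.card A < Nat.card {v : V // v ≠ 0} := by
    classical
    haveI := Fintype.ofFinite V
    rw [Nat.card_eq_fintype_card (α := {v : V // v ≠ 0}), Fintype.card_subtype_compl,
      Fintype.card_subtype_eq, ← Nat.card_eq_fintype_card]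
    omega
  obtain ⟨f, hf, hf0⟩ := five_orbits (fun v : V => v ≠ 0) hcard
  exact ⟨f, hf, fun i => D.dl_stab (f i) (hf0 i) 8 (by norm_num) (hQ.anti le_top)⟩

theorem fix_bound_four (hs : Group.IsSolvable A) (h : 16 * D.e ^ 32 ≤ D.q ^ (D.e - 4))
    (he4 : 4 ≤ D.e) : Five A V := by
  have h2 := D.qpp.two_le
  have hqn : 16 * (D.q ^ 4 * D.e ^ 32) ≤ D.q ^ D.n := by
    calc 16 * (D.q ^ 4 * D.e ^ 32) = D.q ^ 4 * (16 * D.e ^ 32) := by ring
      _ ≤ D.q ^ 4 * D.q ^ (D.e - 4) := Nat.mul_le_mul_left _ h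
      _ = D.q ^ D.e := by rw [← pow_add, show 4 + (D.e - 4) = D.e by omega]
      _ ≤ D.q ^ D.n := Nat.pow_le_pow_right (by omega) D.hne
  refine five_of_good D ?_ fun g hg hg1 => ?_
  · rw [D.cardV]
    refine lt_of_lt_of_le ?_ hqn
    have h1 := card_A_le D
    have h3 := index_le D
    have he : 1 ≤ D.e ^ 8 := Nat.one_le_pow _ _ D.he
    calc 8 * Nat.card A ≤ 8 * ((D.q - 1) * D.S.C.index * D.e ^ 8) := Nat.mul_le_mul_left _ h1
      _ ≤ 8 * (D.q * D.q * D.e ^ 8) := by gcongr <;> omega
      _ < 16 * (D.q * D.q * D.e ^ 8) := by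
          have : 0 < D.q * D.q * D.e ^ 8 := Nat.mul_pos (by positivity) he
          omega
      _ ≤ 16 * (D.q ^ 4 * D.e ^ 32) := by
          refine Nat.mul_le_mul_left _ (Nat.mul_le_mul ?_ (Nat.pow_le_pow_right D.he (by norm_num)))
          rw [← pow_two]
          exact Nat.pow_le_pow_right (by omega) (by norm_num)
  · refine (Nat.pow_le_pow_iff_left (by norm_num : (4 : ℕ) ≠ 0)).1 ?_
    calc (2 * Nat.card D.S.C * Nat.card (fixA (V := V) g)) ^ 4
        = (2 * Nat.card D.S.C) ^ 4 * Nat.card (fixA (V := V) g) ^ 4 := mul_pow _ _ _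
      _ ≤ (2 * (D.q * D.e ^ 8)) ^ 4 * Nat.card V ^ 3 := by
          refine Nat.mul_le_mul (Nat.pow_le_pow_left (Nat.mul_le_mul_left _ ?_) 4) (fix_four D hg hg1)
          exact (card_C D hs).trans (Nat.mul_le_mul_right _ (by omega))
      _ = 16 * (D.q ^ 4 * D.e ^ 32) * Nat.card V ^ 3 := by ring
      _ ≤ D.q ^ D.n * Nat.card V ^ 3 := Nat.mul_le_mul_right _ hqn
      _ = Nat.card V ^ 4 := by rw [← D.cardV]; ring

theorem fix_bound_three (hs : Group.IsSolvable A) (he : D.e = 81) (hq : D.q = 4) : Five A V := by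
  have hqn : 4 ^ 81 ≤ D.q ^ D.n := by
    rw [hq]
    exact Nat.pow_le_pow_right (by norm_num) (he ▸ D.hne)
  have hA3 : Nat.card D.S.A ∣ 3 := by
    have := D.cardA
    rwa [hq] at this
  have hV : (Nat.card V).Coprime 3 := by
    rw [D.cardV, hq]
    exact Nat.Coprime.pow_left _ (by norm_num)
  refine five_of_good D ?_ fun g hg hg1 => ?_
  · rw [D.cardV]
    refine lt_of_lt_of_le ?_ hqn
    have h1 := card_A_le D
    have h3 := index_le D
    rw [hq] at h1 h3
    rw [he] at h1
    have h2 : (4 - 1) * D.S.C.index * 81 ^ 8 ≤ 3 * 2 * 81 ^ 8 :=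
      Nat.mul_le_mul_right _ (Nat.mul_le_mul (le_refl 3) (by omega))
    calc 8 * Nat.card A ≤ 8 * (3 * 2 * 81 ^ 8) := Nat.mul_le_mul_left _ (h1.trans h2)
      _ < 4 ^ 81 := by decide +kernel
  · refine (Nat.pow_le_pow_iff_left (by norm_num : (3 : ℕ) ≠ 0)).1 ?_
    calc (2 * Nat.card D.S.C * Nat.card (fixA (V := V) g)) ^ 3
        = (2 * Nat.card D.S.C) ^ 3 * Nat.card (fixA (V := V) g) ^ 3 := mul_pow _ _ _
      _ ≤ (2 * (3 * 81 ^ 8)) ^ 3 * Nat.card V ^ 2 := by
          refine Nat.mul_le_mul (Nat.pow_le_pow_left (Nat.mul_le_mul_left _ ?_) 3)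
            (fix_three D hA3 hV hg hg1)
          refine (card_C D hs).trans (le_of_eq ?_)
          rw [hq, he]
      _ ≤ 4 ^ 81 * Nat.card V ^ 2 := Nat.mul_le_mul_right _ (by decide +kernel)
      _ ≤ D.q ^ D.n * Nat.card V ^ 2 := Nat.mul_le_mul_right _ hqn
      _ = Nat.card V ^ 3 := by rw [← D.cardV]; ring

/-- The count. -/
theorem largeE (hs : Group.IsSolvable A) (hT : Tables.{u})
    (hne : ¬ SmallE D.e D.q D.n D.S.C.index) : Five A V := by
  classical
  simp only [SmallE, not_or, not_and_or, not_forall] at hne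
  obtain ⟨⟨r, hr, hrr, hbad⟩, h2⟩ := hne
  have hre : r ∣ D.e := (dvd_mul_right r r).trans hrr
  have he0 : D.e ≠ 0 := D.he.ne'
  obtain ⟨hr1, hrq⟩ := q_gt D hr hre
  have hq3 : 3 ≤ D.q := by have := hr.two_le; omega
  have hr8 : (r = 2 ∧ 8 ∣ D.e) ∨ 3 ≤ r := by
    rcases eq_or_ne r 2 with h | h
    · exact Or.inl ⟨h, by tauto⟩
    · have := hr.two_le
      exact Or.inr (by omega)
  by_cases hall : (¬ 2 ^ 8 ∣ D.e) ∧ (¬ 3 ^ 4 ∣ D.e) ∧ ∀ l : ℕ, l.Prime → 5 ≤ l → ¬ l ^ 3 ∣ D.e
  · -- the tables cover the section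
    obtain ⟨ht2, ht3, ht5⟩ := hall
    have hb : ∀ l : ℕ, l.Prime → l ∣ D.e → Bd.{u} l (2 * D.e.factorization l) 8 := by
      intro l hl hle
      have hk : 1 ≤ D.e.factorization l := hl.factorization_pos_of_dvd he0 hle
      have hmono : ∀ {n k : ℕ}, Bd.{u} l n k → k ≤ 8 → Bd.{u} l n 8 := fun hB hk8 X _ _ M _ _ _ hX hM hS =>
        (hB X M hX hM hS).mono hk8
      have hlt : ∀ {j : ℕ}, ¬ l ^ j ∣ D.e → D.e.factorization l < j := fun {j} hj => by
        by_contra hge
        push Not at hge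
        exact hj ((pow_dvd_pow l hge).trans (Nat.ordProj_dvd D.e l))
      rcases eq_or_ne l 2 with rfl | h2'
      · exact hmono (hT.two14 _ (by have := hlt ht2; omega)) (by norm_num)
      rcases eq_or_ne l 3 with rfl | h3'
      · exact hmono (hT.three6 _ (by have := hlt ht3; omega)) (by norm_num)
      have h5 : 5 ≤ l := by
        have h4' : l ≠ 4 := fun e => by rw [e] at hl; norm_num at hl
        have := hl.two_le
        omega
      have := hlt (ht5 l hl h5)
      rcases (by omega : D.e.factorization l = 1 ∨ D.e.factorization l = 2) with e | e <;> rw [e]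
      · exact hmono (hT.dim2 l hl) (by norm_num)
      · exact hmono (hT.dim4 l hl) (by norm_num)
    refine five_of_tables D hs ?_ hb
    rw [D.cardV]
    have h1 := card_A_le D
    by_cases he3 : D.e ∈ [8, 9, 16]
    · rcases h2 with h2 | h2
      · push Not at h2
        calc 4 * Nat.card A + 1
            ≤ 4 * ((D.q - 1) * D.S.C.index * D.e ^ 2 * (D.e ^ 2) ^ 3) + 1 :=
              Nat.succ_le_succ (Nat.mul_le_mul_left _ D.cardH)
          _ < D.q ^ D.n := h2
      · exact absurd he3 h2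
    have hkey : 2 * D.e ^ 8 < D.q ^ (D.e - 2) := by
      rcases le_or_gt 32 D.e with h32 | h32
      · exact (two_lt _ h32).trans_le (Nat.pow_le_pow_left hq3 _)
      have hmem : D.e ∈ [8, 9, 16, 18, 24, 25, 27] := by
        refine mem_small _ h32 ?_ he0
        rcases hr8 with ⟨-, h⟩ | h
        · exact Or.inl h
        · refine Or.inr ⟨r, ?_, hrr⟩
          have : r * r < 32 := (Nat.le_of_dvd D.he hrr).trans_lt h32
          have : r < 6 := by nlinarith
          have h4' : r ≠ 4 := fun e => by rw [e] at hr; norm_num at hr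
          simp only [List.mem_cons, List.not_mem_nil, or_false]
          omega
      simp only [List.mem_cons, List.not_mem_nil, or_false, not_or] at hmem he3
      have hge : ∀ l : ℕ, l.Prime → l ∣ D.e → l ∣ D.q - 1 := fun l hl hle => (q_gt D hl hle).1
      have h7 : 2 ∣ D.e → 3 ∣ D.e → 7 ≤ D.q := fun a b => by
        have h2q := hge 2 Nat.prime_two a
        have h3q := hge 3 Nat.prime_three b
        omega
      rcases hmem with h | h | h | h | h | h | h <;> rw [h] at he3 ⊢ <;> try omega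
      · refine lt_of_lt_of_le ?_ (Nat.pow_le_pow_left (h7 (by rw [h]; norm_num) (by rw [h]; norm_num)) _)
        decide +kernel
      · refine lt_of_lt_of_le ?_ (Nat.pow_le_pow_left (h7 (by rw [h]; norm_num) (by rw [h]; norm_num)) _)
        decide +kernel
      · have h5 : 6 ≤ D.q := by
          have := hge 5 (by norm_num) (by rw [h]; norm_num)
          omega
        exact lt_of_lt_of_le (by decide +kernel) (Nat.pow_le_pow_left h5 _)
      · have h4' : 4 ≤ D.q := by
          have := hge 3 Nat.prime_three (by rw [h]; norm_num)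
          omega
        exact lt_of_lt_of_le (by decide +kernel) (Nat.pow_le_pow_left h4' _)
    have he2 : 2 ≤ D.e := hr.two_le.trans (Nat.le_of_dvd D.he hre)
    calc 4 * Nat.card A + 1 ≤ 4 * ((D.q - 1) * D.S.C.index * D.e ^ 8) + 1 := by omega
      _ ≤ 2 * D.q * D.q * D.e ^ 8 := by
          have h3 := index_le D
          have hh : 4 * ((D.q - 1) * D.S.C.index * D.e ^ 8) ≤ 2 * (D.q - 1) * D.q * D.e ^ 8 := by
            calc 4 * ((D.q - 1) * D.S.C.index * D.e ^ 8)
                = 2 * (D.q - 1) * (2 * D.S.C.index) * D.e ^ 8 := by ring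
              _ ≤ 2 * (D.q - 1) * D.q * D.e ^ 8 := by gcongr
          have hp : 0 < D.q * D.e ^ 8 := Nat.mul_pos (by omega) (pow_pos D.he 8)
          have heq : 2 * D.q * D.q * D.e ^ 8 =
              2 * (D.q - 1) * D.q * D.e ^ 8 + 2 * (D.q * D.e ^ 8) := by
            conv_lhs => arg 1; arg 1; rw [show D.q = D.q - 1 + 1 by omega]
            ring
          omega
      _ = D.q ^ 2 * (2 * D.e ^ 8) := by ring
      _ < D.q ^ 2 * D.q ^ (D.e - 2) := Nat.mul_lt_mul_of_pos_left hkey (pow_pos (by omega) 2)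
      _ = D.q ^ D.e := by rw [← pow_add, show 2 + (D.e - 2) = D.e by omega]
      _ ≤ D.q ^ D.n := Nat.pow_le_pow_right (by omega) D.hne
  -- counting
  rw [not_and_or, not_and_or, not_not, not_not] at hall
  by_cases h243 : 243 ≤ D.e
  · have hb : 16 * 243 ^ 32 ≤ 3 ^ (243 - 4) := by decide +kernel
    exact fix_bound_four D hs (grow (by norm_num) hq3
      (hb.trans (Nat.pow_le_pow_left hq3 _)) _ h243) (by omega)
  rcases hall with h | h | h
  · exact absurd (Nat.le_of_dvd D.he h) (by omega)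
  · have h81 : 81 ≤ D.e := Nat.le_of_dvd D.he h
    rcases le_or_gt 7 D.q with h7 | h7
    · have hb : 16 * 81 ^ 32 ≤ 7 ^ (81 - 4) := by decide +kernel
      exact fix_bound_four D hs (grow (le_refl 81) hq3
        (hb.trans (Nat.pow_le_pow_left h7 _)) _ h81) (by omega)
    have hq4 : D.q = 4 := by
      have := (q_gt D Nat.prime_three ((dvd_pow_self 3 (by norm_num)).trans h)).1
      have := D.qpp.two_le
      omega
    have he81 : D.e = 81 := by
      obtain ⟨k, hk⟩ := h
      rcases (by omega : k = 1 ∨ k = 2) with rfl | rfl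
      · omega
      · exfalso
        have := (q_gt D Nat.prime_two (by rw [hk]; norm_num)).1
        omega
    exact fix_bound_three D hs he81 hq4
  · push Not at h
    obtain ⟨l, hl, h5, hl3⟩ := h
    have h125 : 125 ≤ D.e := le_trans (Nat.pow_le_pow_left h5 3) (Nat.le_of_dvd D.he hl3)
    have hq6 : 6 ≤ D.q := by
      have := (q_gt D hl ((dvd_pow_self l (by norm_num)).trans hl3)).2
      omega
    have hb : 16 * 125 ^ 32 ≤ 6 ^ (125 - 4) := by decide +kernel
    exact fix_bound_four D hs (grow (e0 := 125) (by norm_num) hq3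
      (hb.trans (Nat.pow_le_pow_left hq6 _)) _ h125) (by omega)

/-- Piece G6b. -/
theorem stmtLargeE : StmtLargeE.{u} := fun _ _ _ _ _ _ _ _ _ hs hT D h => largeE D hs hT h

end CfsgLib.OrbitStab.LargeE
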