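import Cfsg.Agent.Lib.FgsC.OrbitStab.Defs
import Cfsg.Agent.Lib.FgsC.ClassBound.Decomp

/-!
# S4070, piece O1: a vector with abelian stabiliser from the primitive pieces

Induction on the order of the module.  On a decomposition the chosen vector of a piece and its
negative are not equivalent, so the signs can be distributed along a set with trivial stabiliser.
-/

set_option autoImplicit false
set_option linter.unusedSectionVars false
set_option linter.style.haveILetI false

universe u v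

namespace CfsgLib.OrbitStab

open MulAction CfsgLib.BaseTwo

namespace OddGlue

/-- The statement for modules of smaller order. -/
def OddBelow (N : ℕ) : Prop :=
  ∀ (B : Type u) [Group B] [Finite B] (W : Type u) [AddCommGroup W] [Finite W]
    [DistribMulAction B W], Nat.card W < N → Odd (Nat.card B) → Odd (Nat.card W) →
    Semisimple B W → ∃ w : W, CommOn (stabilizer B w) W

variable {A : Type u} [Group A] [Finite A] {V : Type u} [AddCommGroup V] [Finite V]
  [DistribMulAction A V]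

/-- In a module of odd order only zero is its own negative. -/
theorem eq_zero_of_neg (hV : Odd (Nat.card V)) {x : V} (h : -x = x) : x = 0 := by
  have h2 : (2 : ℕ) • x = 0 := by rw [two_nsmul]; nth_rw 1 [← h]; exact neg_add_cancel x
  have h3 : addOrderOf x ∣ 2 := addOrderOf_dvd_of_nsmul_eq_zero h2
  have h4 : addOrderOf x ∣ Nat.card V := addOrderOf_dvd_natCard x
  exact AddMonoid.addOrderOf_eq_one_iff.1
    (Nat.eq_one_of_dvd_coprimes (Nat.coprime_two_left.2 hV) h3 h4)

/-- In a group of odd order no element maps a non-zero vector to its negative. -/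
theorem smul_ne_neg (hA : Odd (Nat.card A)) (hV : Odd (Nat.card V)) {x : V} (hx : x ≠ 0)
    (a : A) : a • x ≠ -x := fun h => by
  refine hx (eq_zero_of_neg hV ?_)
  rw [← h]
  exact fixed_of_sq hA (by rw [h, smul_neg, h, neg_neg])

/-- The stabiliser of a piece acts completely reducibly on it. -/
theorem semisimple_piece (hss : Semisimple A V) {Ω : Type u} [MulAction A Ω] (e : Ω → V →+ V)
    (horth : ∀ i j, i ≠ j → ∀ v, e i (e j v) = 0)
    (heq : ∀ (a : A) i v, a • e i v = e (a • i) (a • v)) (r : Ω)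
    [DistribMulAction (stabilizer A r) (e r).range]
    (hsmul : ∀ (a : stabilizer A r) (x : (e r).range),
      ((a • x : (e r).range) : V) = (a : A) • (x : V))
    (hP : ∀ {i : Ω} {v : V}, v ∈ (e i).range → e i v = v)
    (hPsmul : ∀ (a : A) i v, v ∈ (e i).range → a • v ∈ (e (a • i)).range) :
    Semisimple (stabilizer A r) (e r).range := by
  classical
  let P : Ω → AddSubgroup V := fun i => (e i).range
  intro U hU
  set Ub : AddSubgroup V := AddSubgroup.closure {x | ∃ (a : A) (u : P r), u ∈ U ∧ a • (u : V) = x} with hUb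
  have hUbinv : ∀ a : A, ∀ v ∈ Ub, a • v ∈ Ub := by
    intro a v hv
    induction hv using AddSubgroup.closure_induction with
    | mem x hx =>
      obtain ⟨b, u, hu, rfl⟩ := hx
      exact AddSubgroup.subset_closure ⟨a * b, u, hu, mul_smul a b _⟩
    | zero => rw [smul_zero]; exact zero_mem _
    | add x y _ _ hx hy => rw [smul_add]; exact add_mem hx hy
    | neg x _ hx => rw [smul_neg]; exact neg_mem hx
  have her : ∀ v ∈ Ub, ∃ u ∈ U, (u : V) = e r v := by
    intro v hv
    induction hv using AddSubgroup.closure_induction with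
    | mem x hx =>
      obtain ⟨b, u, hu, rfl⟩ := hx
      by_cases hb : b • r = r
      · refine ⟨(⟨b, hb⟩ : stabilizer A r) • u, hU _ u hu, ?_⟩
        rw [hsmul]
        have h5 := heq b r (u : V)
        rw [hP u.2, hb] at h5
        exact h5
      · refine ⟨0, zero_mem U, ?_⟩
        rw [← hP (hPsmul b r u u.2), horth r (b • r) (Ne.symm hb)]
        rfl
    | zero => exact ⟨0, zero_mem _, by simp⟩
    | add x y _ _ hx hy =>
      obtain ⟨u, hu, hu'⟩ := hx
      obtain ⟨w, hw, hw'⟩ := hy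
      exact ⟨u + w, add_mem hu hw, by simp [hu', hw']⟩
    | neg x _ hx =>
      obtain ⟨u, hu, hu'⟩ := hx
      exact ⟨-u, neg_mem hu, by simp [hu']⟩
  obtain ⟨W, hW, hWi, hWs⟩ := hss Ub hUbinv
  let X : AddSubgroup V := Ub ⊓ (e r).ker
  refine ⟨(W ⊔ X).addSubgroupOf (P r), ?_, ?_, ?_⟩
  · rintro a ⟨x, hxP⟩ hx
    rw [AddSubgroup.mem_addSubgroupOf] at hx ⊢
    rw [hsmul]
    obtain ⟨y, hy, z, hz, hyz⟩ := AddSubgroup.mem_sup.1 hx
    show (a : A) • x ∈ W ⊔ X
    rw [show x = y + z from hyz.symm, smul_add]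
    refine add_mem (AddSubgroup.mem_sup_left (hW _ _ hy)) (AddSubgroup.mem_sup_right
      (AddSubgroup.mem_inf.2 ⟨hUbinv _ _ (AddSubgroup.mem_inf.1 hz).1, ?_⟩))
    rw [AddMonoidHom.mem_ker]
    have h5 := heq (a : A) r z
    rw [AddMonoidHom.mem_ker.1 (AddSubgroup.mem_inf.1 hz).2, smul_zero, mem_stabilizer_iff.1 a.2] at h5
    exact h5.symm
  · rw [AddSubgroup.eq_bot_iff_forall]
    intro u hu
    obtain ⟨hu1, hu2⟩ := AddSubgroup.mem_inf.1 hu
    rw [AddSubgroup.mem_addSubgroupOf] at hu2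
    obtain ⟨y, hy, z, hz, hyz⟩ := AddSubgroup.mem_sup.1 hu2
    have huUb : (u : V) ∈ Ub := AddSubgroup.subset_closure ⟨1, u, hu1, one_smul A _⟩
    have hy0 : y = 0 := by
      have h1 : y ∈ Ub ⊓ W := AddSubgroup.mem_inf.2 ⟨by
        rw [eq_sub_of_add_eq hyz]
        exact sub_mem huUb (AddSubgroup.mem_inf.1 hz).1, hy⟩
      rwa [hWi, AddSubgroup.mem_bot] at h1
    rw [hy0, zero_add] at hyz
    refine Subtype.ext ?_
    rw [AddSubgroup.coe_zero, ← hP u.2, ← hyz]
    exact AddMonoidHom.mem_ker.1 (AddSubgroup.mem_inf.1 hz).2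
  · rw [AddSubgroup.eq_top_iff']
    intro v
    obtain ⟨y, hy, z, hz, hyz⟩ := AddSubgroup.mem_sup.1 (hWs ▸ AddSubgroup.mem_top (v : V) : (v : V) ∈ Ub ⊔ W)
    obtain ⟨u, hu, hue⟩ := her y hy
    refine AddSubgroup.mem_sup.2 ⟨u, hu, v - u, ?_, add_sub_cancel u v⟩
    rw [AddSubgroup.mem_addSubgroupOf, AddSubgroup.coe_sub]
    refine AddSubgroup.mem_sup.2 ⟨z, hz, y - (u : V), AddSubgroup.mem_inf.2 ⟨?_, ?_⟩, ?_⟩
    · exact sub_mem hy (AddSubgroup.subset_closure ⟨1, u, hu, one_smul A _⟩)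
    · rw [AddMonoidHom.mem_ker, map_sub, hP u.2, hue, sub_self]
    · rw [← hyz]
      abel

/-- A decomposition with at least two non-zero summands. -/
theorem commOn_decomp (hA : Odd (Nat.card A)) (hV : Odd (Nat.card V)) (hss : Semisimple A V)
    (IH : OddBelow.{u} (Nat.card V)) {Ω : Type u} [Fintype Ω] [Nontrivial Ω] [MulAction A Ω]
    (e : Ω → V →+ V) (hid : ∀ i v, e i (e i v) = e i v)
    (horth : ∀ i j, i ≠ j → ∀ v, e i (e j v) = 0) (hsum : ∀ v, v = ∑ i, e i v)
    (heq : ∀ (a : A) i v, a • e i v = e (a • i) (a • v)) (hne : ∀ i, ∃ v, e i v ≠ 0) :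
    ∃ v : V, CommOn (stabilizer A v) V := by
  classical
  have hsum' : ∀ v, v = ∑ i, e i v := hsum
  choose nz hnz using hne
  obtain ⟨T, hT⟩ := (upTo (Nat.card Ω)).2 A hA Ω le_rfl
  -- the pieces
  let P : Ω → AddSubgroup V := fun i => (e i).range
  have hP : ∀ {i v}, v ∈ P i → e i v = v := fun {i v} => by
    rintro ⟨x, rfl⟩
    exact hid i x
  have hPsmul : ∀ (a : A) i v, v ∈ P i → a • v ∈ P (a • i) := fun a i v hv =>
    ⟨a • v, by rw [← heq, hP hv]⟩
  have key : ∀ r : Ω, ∃ p ∈ P r, (∀ a : A, a • r = r → a • p ≠ -p) ∧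
      ∀ a b : A, a • r = r → b • r = r → a • p = p → b • p = p →
        ∀ x ∈ P r, a • b • x = b • a • x := by
    intro r
    letI : DistribMulAction (stabilizer A r) (P r) :=
      { smul := fun a x => ⟨(a : A) • (x : V), by
          have := hPsmul (a : A) r x x.2
          rwa [mem_stabilizer_iff.1 a.2] at this⟩
        one_smul := fun x => Subtype.ext (one_smul A (x : V))
        mul_smul := fun a b x => Subtype.ext (mul_smul (a : A) (b : A) (x : V))
        smul_zero := fun a => Subtype.ext (smul_zero (a : A))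
        smul_add := fun a x y => Subtype.ext (smul_add (a : A) (x : V) (y : V)) }
    have hlt : Nat.card (P r) < Nat.card V := by
      obtain ⟨j, hj⟩ := exists_ne r
      haveI := Fintype.ofFinite V
      rw [Nat.card_eq_fintype_card, Nat.card_eq_fintype_card]
      refine Fintype.card_subtype_lt (x := e j (nz j)) fun h => hnz j ?_
      rw [← hP h, horth r j hj.symm]
    have hssr : Semisimple (stabilizer A r) (P r) :=
      semisimple_piece hss e horth heq r (fun _ _ => rfl) hP hPsmul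
    obtain ⟨w, hw⟩ := IH (stabilizer A r) (P r) hlt
      (hA.of_dvd_nat (Subgroup.card_subgroup_dvd_card _))
      (hV.of_dvd_nat (AddSubgroup.card_addSubgroup_dvd_card _)) hssr
    obtain ⟨p, hp0, hp⟩ : ∃ p : P r, p ≠ 0 ∧ CommOn (stabilizer (stabilizer A r) p) (P r) := by
      by_cases hw0 : w = 0
      · refine ⟨⟨e r (nz r), nz r, rfl⟩, fun h => hnz r (congrArg Subtype.val h),
          fun g _ h _ => hw g ?_ h ?_⟩
        all_goals rw [hw0, mem_stabilizer_iff, smul_zero]
      · exact ⟨w, hw0, hw⟩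
    refine ⟨p, p.2, fun a _ => smul_ne_neg hA hV (fun h => hp0 (Subtype.ext h)) a,
      fun a b ha hb hap hbp x hx => ?_⟩
    exact congrArg Subtype.val (hp ⟨a, ha⟩ (Subtype.ext hap) ⟨b, hb⟩ (Subtype.ext hbp) ⟨x, hx⟩)
  choose p hpP hpneg hpcomm using key
  let rep : Ω → Ω := fun i => (Quotient.mk (orbitRel A Ω) i).out
  have hrep : ∀ i, ∃ g : A, g • rep i = i := fun i =>
    MulAction.mem_orbit_iff.1 (orbitRel_apply.1 ((orbitRel A Ω).iseqv.symm
      (Quotient.exact (Quotient.out_eq (Quotient.mk (orbitRel A Ω) i)))))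
  have hrepg : ∀ (g : A) i, rep (g • i) = rep i := fun g i =>
    congrArg Quotient.out (Quotient.sound (s := orbitRel A Ω) ⟨g, rfl⟩)
  choose t ht using hrep
  let ch : Ω → V := fun i => if i ∈ T then p (rep i) else -p (rep i)
  have hch : ∀ i, ch i ∈ P (rep i) := fun i => by
    simp only [ch]
    split
    · exact hpP _
    · exact neg_mem (hpP _)
  let Q : Ω → V := fun i => t i • ch i
  have hQ : ∀ i, Q i ∈ P i := fun i => by
    have h1 := hPsmul (t i) _ _ (hch i)
    rwa [ht] at h1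
  have hcomp : ∀ i, e i (∑ j, Q j) = Q i := fun i => by
    rw [map_sum, Finset.sum_eq_single i]
    · exact hP (hQ i)
    · intro j _ hji
      rw [← hP (hQ j)]
      exact horth i j hji.symm _
    · intro h; exact absurd (Finset.mem_univ i) h
  -- an element fixing the sum fixes every piece and its vector
  have hstab : ∀ a : A, a • ∑ i, Q i = ∑ i, Q i → ∀ i, a • i = i ∧
      ((t i)⁻¹ * a * t i) • rep i = rep i ∧ ((t i)⁻¹ * a * t i) • p (rep i) = p (rep i) := by
    intro a ha
    have hQa : ∀ i, a • Q i = Q (a • i) := fun i => by rw [← hcomp i, heq, ha, hcomp]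
    let h : Ω → A := fun i => (t (a • i))⁻¹ * a * t i
    have hh : ∀ i, h i • rep i = rep i := fun i => by
      simp only [h, mul_smul]
      rw [ht, inv_smul_eq_iff, ← hrepg a i]
      exact (ht _).symm
    have hhc : ∀ i, h i • ch i = ch (a • i) := fun i => by
      simp only [h, mul_smul]
      rw [inv_smul_eq_iff]
      exact hQa i
    have hTa : ∀ i, a • i ∈ T ↔ i ∈ T := fun i => by
      have h1 := hhc i
      by_cases hi : i ∈ T <;> by_cases hai : a • i ∈ T <;>
        simp only [hi, hai, ch, hrepg, if_true, if_false] at h1 ⊢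
      · exact absurd h1 (hpneg _ _ (hh i))
      · refine absurd ?_ (hpneg _ _ (hh i))
        rw [smul_neg] at h1
        exact neg_eq_iff_eq_neg.1 h1
    intro i
    have hi := hT a hTa i
    have h1 := hh i
    have h2 := hhc i
    simp only [h, hi, ch] at h1 h2
    refine ⟨hi, h1, ?_⟩
    split at h2
    · exact h2
    · rw [smul_neg] at h2
      exact neg_inj.1 h2
  refine ⟨∑ i, Q i, fun a ha b hb x => ?_⟩
  rw [mem_stabilizer_iff] at ha hb
  rw [hsum' x, Finset.smul_sum, Finset.smul_sum, Finset.smul_sum, Finset.smul_sum]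
  refine Finset.sum_congr rfl fun i _ => ?_
  obtain ⟨-, ha1, ha2⟩ := hstab a ha i
  obtain ⟨-, hb1, hb2⟩ := hstab b hb i
  have h4 := hPsmul (t i)⁻¹ i _ ⟨x, rfl⟩
  rw [(inv_smul_eq_iff.2 (ht i).symm : (t i)⁻¹ • i = rep i)] at h4
  have h2 := hpcomm _ _ _ ha1 hb1 ha2 hb2 _ h4
  simp only [mul_smul, smul_inv_smul] at h2
  exact (smul_left_cancel_iff _).1 h2

/-- A module that is not irreducible. -/
theorem commOn_reducible (hA : Odd (Nat.card A)) (hV : Odd (Nat.card V)) (hss : Semisimple A V)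
    (IH : OddBelow.{u} (Nat.card V)) (hred : ¬ Irred A V) :
    ∃ v : V, CommOn (stabilizer A v) V := by
  classical
  rw [Irred] at hred
  push Not at hred
  obtain ⟨U, hU, hU0, hU1⟩ := hred
  obtain ⟨W, hW, hUW, hUW'⟩ := hss U hU
  have hdec : ∀ v : V, ∃ u ∈ U, ∃ w ∈ W, u + w = v := fun v =>
    AddSubgroup.mem_sup.1 (hUW' ▸ AddSubgroup.mem_top v)
  choose pu hpu pw hpw hsum using hdec
  have huniq : ∀ v, ∀ u ∈ U, ∀ w ∈ W, u + w = v → u = pu v ∧ w = pw v := fun v u hu w hw h => by
    have h0 : u - pu v ∈ U ⊓ W := AddSubgroup.mem_inf.2 ⟨sub_mem hu (hpu v), by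
      rw [show u - pu v = pw v - w by rw [sub_eq_sub_iff_add_eq_add, h, add_comm (pw v), hsum v]]
      exact sub_mem (hpw v) hw⟩
    rw [hUW, AddSubgroup.mem_bot, sub_eq_zero] at h0
    refine ⟨h0, add_left_cancel (a := pu v) ?_⟩
    rw [hsum, ← h0, h]
  letI : MulAction A (ULift.{u} Bool) :=
    { smul := fun _ b => b, one_smul := fun _ => rfl, mul_smul := fun _ _ _ => rfl }
  have hadd : ∀ x y, pu (x + y) = pu x + pu y ∧ pw (x + y) = pw x + pw y := fun x y => by
    obtain ⟨h1, h2⟩ := huniq (x + y) _ (add_mem (hpu x) (hpu y)) _ (add_mem (hpw x) (hpw y))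
      (by rw [add_add_add_comm, hsum, hsum])
    exact ⟨h1.symm, h2.symm⟩
  let eU : V →+ V := AddMonoidHom.mk' pu fun x y => (hadd x y).1
  let eW : V →+ V := AddMonoidHom.mk' pw fun x y => (hadd x y).2
  have hUid : ∀ u ∈ U, pu u = u ∧ pw u = 0 := fun u hu => by
    obtain ⟨h1, h2⟩ := huniq u u hu 0 (zero_mem W) (add_zero u)
    exact ⟨h1.symm, h2.symm⟩
  have hWid : ∀ w ∈ W, pu w = 0 ∧ pw w = w := fun w hw => by
    obtain ⟨h1, h2⟩ := huniq w 0 (zero_mem U) w hw (zero_add w)
    exact ⟨h1.symm, h2.symm⟩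
  refine commOn_decomp hA hV hss IH (Ω := ULift.{u} Bool)
    (fun i => if i.down then eU else eW) ?_ ?_ ?_ ?_ ?_
  · rintro ⟨_ | _⟩ v
    · exact (hWid _ (hpw v)).2
    · exact (hUid _ (hpu v)).1
  · rintro ⟨_ | _⟩ ⟨_ | _⟩ hne v
    · exact absurd rfl hne
    · exact (hUid _ (hpu v)).2
    · exact (hWid _ (hpw v)).1
    · exact absurd rfl hne
  · intro v
    rw [← Equiv.ulift.symm.sum_comp, Fintype.sum_bool]
    exact (hsum v).symm
  · rintro a ⟨b⟩ v
    obtain ⟨h1, h2⟩ := huniq (a • v) _ (hU a _ (hpu v)) _ (hW a _ (hpw v)) (by rw [← smul_add, hsum])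
    cases b
    · exact h2
    · exact h1
  · rintro ⟨_ | _⟩
    · by_contra hall
      push Not at hall
      exact hU1 ((AddSubgroup.eq_top_iff' U).2 fun v => by
        rw [← hsum v, show pw v = 0 from hall v, add_zero]; exact hpu v)
    · obtain ⟨u, hu, hu0⟩ := (AddSubgroup.bot_or_exists_ne_zero U).resolve_left hU0
      exact ⟨u, fun h => hu0 ((hUid u hu).1.symm.trans h)⟩

/-- The inductive step for faithful modules. -/
theorem commOn_faithful [FaithfulSMul A V] [Nontrivial V] (hprim : StmtOddPrim.{u})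
    (hA : Odd (Nat.card A)) (hV : Odd (Nat.card V)) (hss : Semisimple A V)
    (IH : OddBelow.{u} (Nat.card V)) : ∃ v : V, CommOn (stabilizer A v) V := by
  by_cases hirr : Irred A V
  swap
  · exact commOn_reducible hA hV hss IH hirr
  by_cases hfld : Prim A V
  · exact hprim A V hA hV hfld
  obtain ⟨R, hc, hn, hR⟩ : ∃ R : Subring (AddMonoid.End V),
      (∀ x ∈ R, ∀ y ∈ R, x * y = y * x) ∧ (∀ a : A, ∀ x ∈ R, cjEnd a x ∈ R) ∧
      ¬ ∀ x ∈ R, x ≠ 0 → ∃ y ∈ R, x * y = 1 := by
    by_contra hall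
    exact hfld ⟨hirr, fun R hc hn => not_not.1 fun h => hall ⟨R, hc, hn, h⟩⟩
  rcases ClassBound.field_or_decomp hirr R hc hn with h | ⟨E, iF, iN, iA, e, -, -, hea, hid, horth, hsum, hne⟩
  · exact absurd h hR
  refine commOn_decomp hA hV hss IH (Ω := E) (fun i => (e i : V →+ V)) hid horth hsum
    (fun a i v => ?_) hne
  show a • e i v = e (a • i) (a • v)
  rw [hea, cjEnd_apply, inv_smul_smul]

/-- The inductive step. -/
theorem commOn_step (hprim : StmtOddPrim.{u}) (hA : Odd (Nat.card A)) (hV : Odd (Nat.card V))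
    (hss : Semisimple A V) (IH : OddBelow.{u} (Nat.card V)) :
    ∃ v : V, CommOn (stabilizer A v) V := by
  rcases subsingleton_or_nontrivial V with hsub | hnt
  · exact ⟨0, fun a _ b _ x => Subsingleton.elim _ _⟩
  let φ : A →* (AddMonoid.End V)ˣ := (rho : A →* AddMonoid.End V).toHomUnits
  haveI : Finite (AddMonoid.End V) :=
    Finite.of_injective (fun g : AddMonoid.End V => (g : V → V)) DFunLike.coe_injective
  have hG : Odd (Nat.card φ.range) := hA.of_dvd_nat (Subgroup.card_range_dvd φ)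
  haveI : FaithfulSMul φ.range V :=
    ⟨fun {x y} h => Subtype.ext (Units.ext (DFunLike.ext _ _ h))⟩
  have hssG : Semisimple φ.range V := fun U hU => by
    obtain ⟨W, hW, h1, h2⟩ := hss U fun a v hv => hU ⟨φ a, a, rfl⟩ v hv
    refine ⟨W, ?_, h1, h2⟩
    rintro ⟨_, a, rfl⟩ x hx
    exact hW a x hx
  obtain ⟨v, hv⟩ := commOn_faithful hprim hG hV hssG IH
  exact ⟨v, fun a ha b hb x => hv (φ.rangeRestrict a) ha (φ.rangeRestrict b) hb x⟩

end OddGlue

open OddGlue in
/-- Piece O1. -/
theorem stmtOddGlue : StmtOddGlue.{u} := by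
  intro hprim
  suffices h : ∀ N : ℕ, OddBelow.{u} N from
    fun A _ _ V _ _ _ hA hV hss => h (Nat.card V + 1) A V (Nat.lt_succ_self _) hA hV hss
  intro N
  induction N with
  | zero => exact fun B _ _ W _ _ _ hW => absurd hW (Nat.not_lt_zero _)
  | succ N ih =>
    intro B _ _ W _ _ _ hW hB hWo hss
    refine commOn_step hprim hB hWo hss fun B' _ _ W' _ _ _ hW' => ?_
    exact ih B' W' (hW'.trans_le (Nat.lt_succ_iff.1 hW))

end CfsgLib.OrbitStab
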