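import Mathlib

/-!
# The inequalities of the odd primitive case
-/

set_option autoImplicit false

namespace CfsgLib.OrbitStab

theorem super_add {q : ℕ} (hq : 1 ≤ q) (a b : ℕ) : q ^ a - 1 + (q ^ b - 1) ≤ q ^ (a + b) - 1 := by
  have ha := Nat.one_le_pow a q hq
  have hb := Nat.one_le_pow b q hq
  rw [pow_add]
  obtain ⟨x, hx⟩ := Nat.exists_eq_add_of_le ha
  obtain ⟨y, hy⟩ := Nat.exists_eq_add_of_le hb
  rw [hx, hy]
  have : (1 + x) * (1 + y) = 1 + (x + y + x * y) := by ring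
  omega

theorem exchange {q D T d : ℕ} (hq : 1 ≤ q) (hT : T ≤ D) (hd : d ≤ D) (hTd : D ≤ T + d) :
    q ^ T + q ^ d ≤ q ^ D + q ^ (T + d - D) := by
  obtain ⟨i, rfl⟩ := Nat.exists_eq_add_of_le hT
  obtain ⟨r, rfl⟩ : ∃ r, d = i + r := Nat.exists_eq_add_of_le (by omega)
  have hr : r ≤ T := by omega
  rw [show T + (i + r) - (T + i) = r by omega, pow_add, pow_add]
  obtain ⟨x, hx⟩ := Nat.exists_eq_add_of_le (Nat.pow_le_pow_right hq hr)
  obtain ⟨y, hy⟩ := Nat.exists_eq_add_of_le (Nat.one_le_pow i q hq)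
  rw [hx, hy]
  nlinarith

/-- at most two full pieces -/
theorem sum_pow_sub_le {ι : Type*} {q D : ℕ} (hq : 1 ≤ q) (s : Finset ι) (d : ι → ℕ)
    (hd : ∀ i ∈ s, d i ≤ D) (hsum : ∑ i ∈ s, d i ≤ 2 * D) :
    ∑ i ∈ s, (q ^ d i - 1) ≤ if ∑ i ∈ s, d i ≤ D then q ^ (∑ i ∈ s, d i) - 1
      else q ^ D - 1 + (q ^ (∑ i ∈ s, d i - D) - 1) := by
  classical
  induction s using Finset.induction with
  | empty => simp
  | insert j s hj ih =>
    rw [Finset.sum_insert hj] at hsum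
    rw [Finset.sum_insert hj, Finset.sum_insert hj]
    have hdj := hd j (Finset.mem_insert_self j s)
    have hih := ih (fun i hi => hd i (Finset.mem_insert_of_mem hi)) (by omega)
    set T := ∑ i ∈ s, d i
    have h1 := Nat.one_le_pow (d j) q hq
    have h2 := Nat.one_le_pow T q hq
    by_cases hT : T ≤ D
    · rw [if_pos hT] at hih
      by_cases hTd : d j + T ≤ D
      · rw [if_pos hTd]
        exact (Nat.add_le_add_left hih _).trans (super_add hq _ _)
      · rw [if_neg hTd]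
        have h3 := exchange hq hT hdj (show D ≤ T + d j by omega)
        have h4 := Nat.one_le_pow D q hq
        have h5 := Nat.one_le_pow (T + d j - D) q hq
        rw [show d j + T - D = T + d j - D by omega]
        omega
    · rw [if_neg hT] at hih
      rw [if_neg (show ¬ d j + T ≤ D by omega)]
      have h3 := super_add hq (d j) (T - D)
      rw [show d j + (T - D) = d j + T - D by omega] at h3
      omega

theorem sum_fix_le {ι : Type*} {q n : ℕ} (hq : 1 ≤ q) (hn : 3 ≤ n) (hn4 : n ≠ 4) (s : Finset ι) (d : ι → ℕ)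
    (hd : ∀ i ∈ s, 3 * d i ≤ 2 * n) (hsum : ∑ i ∈ s, d i ≤ n) :
    ∑ i ∈ s, (q ^ d i - 1) ≤ q ^ (2 * n / 3) + q ^ (2 * n / 3 - 1) := by
  set D := 2 * n / 3
  have h := sum_pow_sub_le hq s d (D := D) (fun i hi => by have := hd i hi; omega) (by omega)
  refine h.trans ?_
  split_ifs with hT
  · have := Nat.pow_le_pow_right hq hT
    omega
  · have := Nat.pow_le_pow_right hq (show ∑ i ∈ s, d i - D ≤ D - 1 by omega)
    omega

theorem q_bound {a q r : ℕ} (hq : Odd q) (hq1 : 1 < q) (ha : Odd a) (hadvd : a ∣ q - 1) (hra : r ∣ a) :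
    2 * r + 1 ≤ q := by
  obtain ⟨m, hm⟩ := hra.trans hadvd
  obtain ⟨k, hk⟩ := hq
  obtain ⟨i, hi⟩ := ha.of_dvd_nat hra
  rcases Nat.lt_or_ge m 2 with h | h
  · interval_cases m <;> omega
  · have : r * 2 ≤ r * m := Nat.mul_le_mul_left r h
    omega

theorem seven_bound : ∀ k, 9 ≤ k → 4 * (3 * k) ^ 6 ≤ 39 * 7 ^ k := by
  intro k hk
  induction k, hk using Nat.le_induction with
  | base => norm_num
  | succ k hk ih =>
    have h2 : (3 * (k + 1)) ^ 6 * 9 ^ 6 ≤ 10 ^ 6 * (3 * k) ^ 6 := by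
      rw [← mul_pow, ← mul_pow]
      exact Nat.pow_le_pow_left (by omega) 6
    have h3 : (3 * (k + 1)) ^ 6 ≤ 7 * (3 * k) ^ 6 := by
      have : 10 ^ 6 * (3 * k) ^ 6 ≤ 7 * 9 ^ 6 * (3 * k) ^ 6 := Nat.mul_le_mul_right _ (by norm_num)
      exact Nat.le_of_mul_le_mul_right (h2.trans (this.trans_eq (by ring))) (by norm_num : 0 < 9 ^ 6)
    rw [pow_succ 7 k]
    omega

/-- the bound on the elements outside the section -/
theorem outer_bound {a e s q : ℕ} (he : Odd e) (he5 : 5 ≤ e) (hq : Odd q) (hq1 : 1 < q) (ha : Odd a)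
    (hadvd : a ∣ q - 1) (hpa : ∀ p : ℕ, p.Prime → p ∣ e → p ∣ a) (hs : Odd s)
    (hgen : 6 * s ≤ e ^ 2 * (e ^ 2 - 1)) (hprime : e.Prime → s ∣ e ^ 2 - 1) (hnine : e = 9 → s ∣ 5) :
    8 * (e ^ 2 * (s - 1)) ≤ 13 * q ^ ((e + 2) / 3) := by
  have hqr : ∀ r, r ∣ a → 2 * r + 1 ≤ q := fun r hr => q_bound hq hq1 ha hadvd hr
  have hq7 : 7 ≤ q := by
    obtain ⟨p, hp, hpe⟩ := Nat.exists_prime_and_dvd (show e ≠ 1 by omega)
    have h2 : p ≠ 2 := fun h => by obtain ⟨k, hk⟩ := he.of_dvd_nat hpe; omega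
    have := hqr p (hpa p hp hpe)
    have := hp.two_le
    omega
  have big : ∀ Q k : ℕ, Q ≤ q → k = (e + 2) / 3 → 4 * e ^ 6 ≤ 39 * Q ^ k →
      8 * (e ^ 2 * (s - 1)) ≤ 13 * q ^ ((e + 2) / 3) := by
    intro Q k hQ hk h
    have h1 : 3 * (8 * (e ^ 2 * (s - 1))) ≤ 4 * e ^ 6 := by
      calc 3 * (8 * (e ^ 2 * (s - 1))) ≤ 4 * e ^ 2 * (6 * s) := by
            have : s - 1 ≤ s := Nat.sub_le _ _
            calc 3 * (8 * (e ^ 2 * (s - 1))) ≤ 3 * (8 * (e ^ 2 * s)) := by gcongr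
              _ = _ := by ring
        _ ≤ 4 * e ^ 2 * (e ^ 2 * (e ^ 2 - 1)) := by gcongr
        _ ≤ 4 * e ^ 2 * (e ^ 2 * e ^ 2) := by
            gcongr
            exact Nat.sub_le _ _
        _ = 4 * e ^ 6 := by ring
    have h2 : 39 * Q ^ k ≤ 39 * q ^ k := by gcongr
    rw [hk] at h2 h
    omega
  rcases Nat.lt_or_ge e 27 with hlt | hge
  · obtain ⟨j, hj⟩ := he
    have hp3 : 3 ∣ e → 3 ∣ a := hpa 3 Nat.prime_three
    have hp5 : 5 ∣ e → 5 ∣ a := hpa 5 (by norm_num)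
    have hp7 : 7 ∣ e → 7 ∣ a := hpa 7 (by norm_num)
    have hself : e.Prime → 2 * e + 1 ≤ q := fun hp => hqr e (hpa e hp dvd_rfl)
    interval_cases e <;> try omega
    · -- five
      have hs3 : s ≤ 3 := by
        have h := hprime (by norm_num)
        norm_num at h
        have := Nat.le_of_dvd (by norm_num) h
        obtain ⟨t, ht⟩ := hs
        interval_cases s <;> omega
      calc 8 * (5 ^ 2 * (s - 1)) ≤ 8 * (5 ^ 2 * 2) := by gcongr; omega
        _ ≤ 13 * 11 ^ 2 := by norm_num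
        _ ≤ _ := Nat.mul_le_mul_left _ (Nat.pow_le_pow_left (hself (by norm_num)) _)
    · -- seven
      have hs3 : s ≤ 3 := by
        have h := hprime (by norm_num)
        norm_num at h
        have := Nat.le_of_dvd (by norm_num) h
        obtain ⟨t, ht⟩ := hs
        interval_cases s <;> omega
      calc 8 * (7 ^ 2 * (s - 1)) ≤ 8 * (7 ^ 2 * 2) := by gcongr; omega
        _ ≤ 13 * 15 ^ 3 := by norm_num
        _ ≤ _ := Nat.mul_le_mul_left _ (Nat.pow_le_pow_left (hself (by norm_num)) _)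
    · -- nine
      have hs5 : s ≤ 5 := Nat.le_of_dvd (by norm_num) (hnine rfl)
      calc 8 * (9 ^ 2 * (s - 1)) ≤ 8 * (9 ^ 2 * 4) := by gcongr; omega
        _ ≤ 13 * 7 ^ 3 := by norm_num
        _ ≤ _ := Nat.mul_le_mul_left _ (Nat.pow_le_pow_left hq7 _)
    · exact big 23 4 (hself (by norm_num)) rfl (by norm_num)
    · exact big 27 5 (hself (by norm_num)) rfl (by norm_num)
    · refine big 31 5 (hqr 15 ?_) rfl (by norm_num)
      exact Nat.Coprime.mul_dvd_of_dvd_of_dvd (by norm_num : Nat.Coprime 3 5) (hp3 (by norm_num)) (hp5 (by norm_num))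
    · exact big 35 6 (hself (by norm_num)) rfl (by norm_num)
    · exact big 39 7 (hself (by norm_num)) rfl (by norm_num)
    · refine big 43 7 (hqr 21 ?_) rfl (by norm_num)
      exact Nat.Coprime.mul_dvd_of_dvd_of_dvd (by norm_num : Nat.Coprime 3 7) (hp3 (by norm_num)) (hp7 (by norm_num))
    · exact big 47 8 (hself (by norm_num)) rfl (by norm_num)
    · exact big 11 9 (hqr 5 (hp5 (by norm_num))) rfl (by norm_num)
  · refine big 7 _ hq7 rfl ?_
    refine le_trans ?_ (seven_bound _ (by omega))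
    exact Nat.mul_le_mul_left _ (Nat.pow_le_pow_left (by omega) 6)

/-- the bound on the section -/
theorem inner_bound {a e q n : ℕ} (he : Odd e) (he5 : 5 ≤ e) (hen : e ≤ n) (hq7 : 7 ≤ q) (haq : 2 * a ≤ q) :
    15 * (a * e ^ 2 * q ^ (n / 3) + 1) ≤ q ^ n := by
  have key : ∀ e, 5 ≤ e → 8 * e ^ 2 ≤ 7 ^ (e - e / 3 - 1) := by
    intro e he
    induction e using Nat.strong_induction_on with
    | _ e ih =>
      rcases Nat.lt_or_ge e 8 with h | h
      · interval_cases e <;> norm_num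
      · have h1 := ih (e - 3) (by omega) (by omega)
        have h2 : e ^ 2 ≤ 7 * (e - 3) ^ 2 := by
          obtain ⟨c, rfl⟩ := Nat.exists_eq_add_of_le (show 3 ≤ e by omega)
          rw [Nat.add_sub_cancel_left]
          nlinarith
        have h3 : 7 * 7 ^ (e - 3 - (e - 3) / 3 - 1) ≤ 7 ^ (e - e / 3 - 1) := by
          rw [← pow_succ']
          exact Nat.pow_le_pow_right (by norm_num) (by omega)
        omega
  have h1 : 8 * e ^ 2 ≤ q ^ (n - n / 3 - 1) :=
    (key e he5).trans ((Nat.pow_le_pow_left hq7 _).trans (Nat.pow_le_pow_right (by omega) (by omega)))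
  have h2 : q ^ n = q * q ^ (n / 3) * q ^ (n - n / 3 - 1) := by
    rw [← pow_succ', ← pow_add]; congr 1; omega
  have h3 : 30 ≤ q * q ^ (n / 3) * e ^ 2 := by
    have h25 : 5 ^ 2 ≤ e ^ 2 := Nat.pow_le_pow_left he5 2
    have h1 : 1 ≤ q ^ (n / 3) := Nat.one_le_pow _ _ (by omega)
    calc 30 ≤ 7 * 1 * 5 ^ 2 := by norm_num
      _ ≤ _ := Nat.mul_le_mul (Nat.mul_le_mul hq7 h1) h25
  have h4 : 2 * (a * e ^ 2 * q ^ (n / 3)) ≤ q * q ^ (n / 3) * e ^ 2 := by
    calc 2 * (a * e ^ 2 * q ^ (n / 3)) = (2 * a) * e ^ 2 * q ^ (n / 3) := by ring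
      _ ≤ q * e ^ 2 * q ^ (n / 3) := by gcongr
      _ = _ := by ring
  have h5 : q * q ^ (n / 3) * (8 * e ^ 2) ≤ q ^ n := by
    rw [h2]; exact Nat.mul_le_mul_left _ h1
  have h6 : q * q ^ (n / 3) * (8 * e ^ 2) = 8 * (q * q ^ (n / 3) * e ^ 2) := by ring
  omega

/-- the final count -/
theorem odd_count {a e s q n : ℕ} (he : Odd e) (he3 : 3 ≤ e) (hen : e ≤ n) (hq : Odd q) (hq1 : 1 < q)
    (ha : Odd a) (hadvd : a ∣ q - 1) (hpa : ∀ p : ℕ, p.Prime → p ∣ e → p ∣ a) (hs : Odd s)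
    (hgen : 6 * s ≤ e ^ 2 * (e ^ 2 - 1)) (hprime : e.Prime → s ∣ e ^ 2 - 1) (hnine : e = 9 → s ∣ 5) :
    e ^ 2 * (s - 1) * (q ^ (2 * n / 3) + q ^ (2 * n / 3 - 1)) + 2 * (a * e ^ 2 * q ^ (n / 3)) + 2 <
      2 * q ^ n := by
  have hq7 : 7 ≤ q := by
    obtain ⟨p, hp, hpe⟩ := Nat.exists_prime_and_dvd (show e ≠ 1 by omega)
    have h2 : p ≠ 2 := fun h => by obtain ⟨k, hk⟩ := he.of_dvd_nat hpe; omega
    have := q_bound hq hq1 ha hadvd (hpa p hp hpe)
    have := hp.two_le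
    omega
  have ha2 : 2 * a + 1 ≤ q := q_bound hq hq1 ha hadvd dvd_rfl
  rcases Nat.lt_or_ge e 5 with h | h
  · obtain ⟨j, hj⟩ := he
    have e3 : e = 3 := by omega
    subst e3
    have hs1 : s = 1 := by
      have h8 := hprime Nat.prime_three
      norm_num at h8
      have := Nat.le_of_dvd (by norm_num) h8
      obtain ⟨t, ht⟩ := hs
      interval_cases s <;> omega
    subst hs1
    have h1 : q * q ^ (n / 3) * q ^ (n - n / 3 - 1) = q ^ n := by
      rw [← pow_succ', ← pow_add]; congr 1; omega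
    have h2 : q ≤ q ^ (n - n / 3 - 1) := Nat.le_self_pow (by omega) q
    have h3 : q * q ^ (n / 3) * q ≤ q ^ n := h1 ▸ Nat.mul_le_mul_left _ h2
    have h4 : 2 * a * q ^ (n / 3) ≤ q * q ^ (n / 3) := Nat.mul_le_mul_right _ (by omega)
    have h5 : 1 ≤ q ^ (n / 3) := Nat.one_le_pow _ _ (by omega)
    have h6 : 7 * (q * q ^ (n / 3)) ≤ q * q ^ (n / 3) * q := by
      rw [mul_comm 7]; exact Nat.mul_le_mul_left _ hq7
    have h7 : 7 ≤ q * q ^ (n / 3) := hq7.trans (Nat.le_mul_of_pos_right q h5)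
    have h8 : 2 * (a * 3 ^ 2 * q ^ (n / 3)) = 9 * (2 * a * q ^ (n / 3)) := by ring
    omega
  · have hin := inner_bound (a := a) he h hen hq7 (by omega)
    have hout := outer_bound he h hq hq1 ha hadvd hpa hs hgen hprime hnine
    set D := 2 * n / 3 with hD
    have hqD : q ^ D + q ^ (D - 1) = (q + 1) * q ^ (D - 1) := by
      have : q ^ D = q * q ^ (D - 1) := by rw [← pow_succ']; congr 1; omega
      rw [this]; ring
    have h1 : q ^ ((e + 2) / 3) * (q * q ^ (D - 1)) ≤ q ^ n := by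
      rw [← pow_succ', ← pow_add]
      exact Nat.pow_le_pow_right (by omega) (by omega)
    have h2 : 7 * (e ^ 2 * (s - 1) * (q ^ D + q ^ (D - 1))) ≤ 13 * q ^ n := by
      rw [hqD]
      calc 7 * (e ^ 2 * (s - 1) * ((q + 1) * q ^ (D - 1)))
          = (7 * (q + 1)) * (e ^ 2 * (s - 1)) * q ^ (D - 1) := by ring
        _ ≤ (8 * q) * (e ^ 2 * (s - 1)) * q ^ (D - 1) :=
            Nat.mul_le_mul_right _ (Nat.mul_le_mul_right _ (by omega))
        _ = 8 * (e ^ 2 * (s - 1)) * (q * q ^ (D - 1)) := by ring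
        _ ≤ 13 * q ^ ((e + 2) / 3) * (q * q ^ (D - 1)) := by gcongr
        _ ≤ 13 * q ^ n := by rw [mul_assoc]; exact Nat.mul_le_mul_left _ h1
    have hpos : 0 < q ^ n := pow_pos (by omega) n
    omega

end CfsgLib.OrbitStab
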