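import Cfsg.Agent.Lib.FgsC.OrbitStab.Data
import Cfsg.Agent.Lib.FgsC.OrbitStab.OddArith
import Mathlib.LinearAlgebra.Eigenspace.Basic

/-!
# A primitive group of odd order has a vector with abelian stabiliser
-/

set_option autoImplicit false

universe u

namespace CfsgLib.OrbitStab

open CfsgLib.BaseTwo MulAction
open scoped commutatorElement

/-- Eigenspaces for distinct eigenvalues are independent. -/
theorem sum_finrank_le {K V ι : Type*} [Field K] [AddCommGroup V] [Module K V] [FiniteDimensional K V]
    (s : Finset ι) (W : ι → Submodule K V) (hW : iSupIndep W) :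
    ∑ i ∈ s, Module.finrank K (W i) ≤ Module.finrank K V := by
  classical
  refine le_trans (le_of_eq ?_) (Submodule.finrank_le (s.sup W))
  induction s using Finset.induction with
  | empty => rw [Finset.sum_empty, Finset.sup_empty, finrank_bot]
  | insert j s hj ih =>
    rw [Finset.sum_insert hj, Finset.sup_insert, ih, ← Submodule.finrank_sup_add_finrank_inf_eq]
    have hd : Disjoint (W j) (s.sup W) := by
      rw [Finset.sup_eq_iSup]
      exact hW.disjoint_biSup hj
    rw [hd.eq_bot, finrank_bot, add_zero]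

variable {A : Type u} [Group A] [Finite A] {V : Type u} [AddCommGroup V] [Finite V] [DistribMulAction A V]
  [FaithfulSMul A V]

/-- the order of the image of the centraliser on the section -/
theorem image_bounds (hA : Odd (Nat.card A)) (D : Data A V) (heodd : Odd D.e) (he3 : 3 ≤ D.e)
    (hcyc : IsCyclic D.S.A) :
    ∃ s : ℕ, Odd s ∧ Nat.card D.S.C = Nat.card D.S.A * D.e ^ 2 * s ∧
      6 * s ≤ D.e ^ 2 * (D.e ^ 2 - 1) ∧ (D.e.Prime → s ∣ D.e ^ 2 - 1) ∧ (D.e = 9 → s ∣ 5) := by
  classical
  set S := D.S with hS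
  set e := D.e with he
  set d := Nat.card (Additive S.Q) with hd
  have hdQ : d = e ^ 2 := D.cardQ
  have hdodd : Odd d := by rw [hdQ]; exact heodd.pow
  have hssQ : Semisimple A (Additive S.Q) := D.ssQ
  obtain ⟨v₀, w₀, hvw⟩ := exists_pair hA hssQ
  set f := autHom A (Additive S.Q) with hf
  haveI : Finite (AddMonoid.End (Additive S.Q)) :=
    Finite.of_injective (fun g : AddMonoid.End (Additive S.Q) => (g : Additive S.Q → Additive S.Q)) DFunLike.coe_injective
  set H := S.C.map f with hH
  haveI : FaithfulSMul H (Additive S.Q) := ⟨fun {x y} h => Subtype.ext (Units.ext (DFunLike.ext _ _ h))⟩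
  have hHodd : Odd (Nat.card H) := hA.of_dvd_nat ((Subgroup.card_map_dvd S.C f).trans (Subgroup.card_subgroup_dvd_card S.C))
  have hinv : ∀ (h : H) m k, S.beta (h • m) (h • k) = S.beta m k := by
    rintro ⟨_, c, hc, rfl⟩ m k
    exact S.beta_smul hc m k
  have hker : f.ker = S.K := by
    ext g
    rw [MonoidHom.mem_ker, ← S.fixed_iff]
    exact ⟨fun h m => DFunLike.congr_fun (congrArg Units.val h) m, fun h => Units.ext (DFunLike.ext _ _ h)⟩
  set s := Nat.card H with hs
  have hsC : s = S.N.relIndex S.C := by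
    have h1 : Nat.card (f.domRestrict S.C).range = (f.domRestrict S.C).ker.index := (Subgroup.index_ker _).symm
    rw [MonoidHom.domRestrict_range, MonoidHom.ker_domRestrict, hker] at h1
    have hk : S.C ⊓ S.K = S.N := D.kerQ
    rw [hs, hH, h1, ← hk, Subgroup.inf_relIndex_left]
    rfl
  have hCcard : Nat.card S.C = Nat.card S.A * e ^ 2 * s := by
    have hsq : S.A.relIndex S.N = e ^ 2 := D.sq
    rw [hsC, ← hsq, ← Subgroup.relIndex_bot_left S.A, Subgroup.relIndex_mul_relIndex _ _ _ bot_le S.hAN,
      Subgroup.relIndex_mul_relIndex _ _ _ bot_le S.hNC, Subgroup.relIndex_bot_left]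
  have hgen : 6 * s ≤ e ^ 2 * (e ^ 2 - 1) := by
    rw [← hdQ]
    refine six_mul_card_le S.beta hHodd hdodd ?_ (fun m hm => S.beta_nondegenerate hm) hinv
      ⟨v₀, w₀, fun h h1 h2 => ?_⟩
    · show 7 ≤ d
      rw [hdQ]; nlinarith
    obtain ⟨_, c, hc, rfl⟩ := h
    exact Subtype.ext (Units.ext (DFunLike.ext _ _ fun m => hvw c h1 h2 m))
  have hprime : e.Prime → s ∣ e ^ 2 - 1 := fun hp => by
    haveI : Fact e.Prime := ⟨hp⟩
    haveI : Fact (e.Prime) := ⟨hp⟩
    exact card_dvd_plane S.beta hHodd hdodd hdQ (nsmul_prime_eq_zero hssQ hdQ) S.beta_self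
      (fun m hm => S.beta_nondegenerate hm) hinv (fun P hP1 hP2 => pSubgroup_trivial hssQ hdQ S.C P hP1 hP2)
  have hnine : e = 9 → s ∣ 5 := fun h9 => by
    haveI : Fact (Nat.Prime 3) := ⟨Nat.prime_three⟩
    have h81 : d = 81 := by rw [hdQ, h9]; norm_num
    have h81' : Nat.card (Additive S.Q) = 3 ^ 4 := h81.trans (by norm_num)
    have hexp := nsmul_prime_eq_zero (p := 3) hssQ h81'
    refine card_dvd_five S.beta h81 hHodd hexp S.beta_self (fun v hv => ?_) hinv
      (fun P hP1 hP2 => pSubgroup_trivial hssQ h81' S.C P hP1 hP2)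
    haveI := hcyc
    have hne : (S.beta v).ker ≠ ⊤ := fun h => hv (S.beta_nondegenerate fun k =>
      (h.symm ▸ AddSubgroup.mem_top k : k ∈ (S.beta v).ker))
    have hr : Nat.card (S.beta v).range ≤ 3 := by
      haveI := Fintype.ofFinite S.A
      refine le_trans ?_ (IsCyclic.card_pow_eq_one_le (α := S.A) (n := 3) (by norm_num))
      rw [← Nat.subtype_card _ (fun x => Finset.mem_filter.trans (and_iff_right (Finset.mem_univ x)))]
      refine Nat.card_le_card_of_injective (fun y => (⟨y.1.toMul, ?_⟩ : {x : S.A // x ^ 3 = 1}))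
        fun y z h => Subtype.ext (Additive.toMul.injective (congrArg (fun w : {x : S.A // x ^ 3 = 1} => (w : S.A)) h))
      obtain ⟨k, hk⟩ := y.2
      rw [← hk, ← toMul_nsmul, ← map_nsmul, hexp k, map_zero]
      rfl
    have h1 := AddSubgroup.card_mul_index (S.beta v).ker
    rw [AddSubgroup.index_ker] at h1
    have h2 : Nat.card (S.beta v).range ≠ 1 := fun h => hne (AddSubgroup.index_eq_one.1 (by rw [AddSubgroup.index_ker]; exact h))
    have h3 : Nat.card (S.beta v).range ≠ 2 := fun h => by
      rw [h, show Nat.card (Additive S.Q) = 81 from h81] at h1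
      omega
    have h4 : 0 < Nat.card (S.beta v).range := Nat.card_pos
    rw [show Nat.card (Additive S.Q) = 81 from h81, show Nat.card (S.beta v).range = 3 by omega] at h1
    omega
  exact ⟨s, hHodd, hCcard, hgen, hprime, hnine⟩

variable [Nontrivial V]

/-- piece O2 -/
theorem exists_commOn (hA : Odd (Nat.card A)) (hV : Odd (Nat.card V)) (hp : Prim A V) :
    ∃ v : V, CommOn (stabilizer A v) V := by
  classical
  obtain ⟨D⟩ := exists_data (CfsgLib.FT.isSolvable_of_odd hA) hp
  obtain ⟨v, hv⟩ : ∃ v : V, ∀ g ∈ stabilizer A v, g ∈ D.S.C → g = 1 := by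
    haveI : Finite (AddMonoid.End V) :=
      Finite.of_injective (fun f : AddMonoid.End V => (f : V → V)) DFunLike.coe_injective
    set S := D.S with hS
    have hfld := hp.fld (ring (V := V) S) (fun x hx y hy => ring_comm S hx hy)
      (fun a x hx => ring_normalized S a hx)
    letI : Field (ring (V := V) S) := (isField_ring S hfld).toField
    haveI : Module.Finite (ring (V := V) S) V := Module.Finite.of_finite
    set q := Nat.card (ring (V := V) S) with hq
    set n := Module.finrank (ring (V := V) S) V with hn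
    set e := D.e with he
    set a := Nat.card S.A with ha
    let χ : S.A →* (ring (V := V) S) :=
      { toFun := fun x => ⟨rho (x : A), rho_mem S x.2⟩
        map_one' := Subtype.ext (map_one (rho : A →* AddMonoid.End V))
        map_mul' := fun x y => Subtype.ext (map_mul (rho : A →* AddMonoid.End V) (x : A) y) }
    have hχ : Function.Injective χ := fun x y h => Subtype.ext (rho_injective (congrArg Subtype.val h))
    have hq1 : 1 < q := Finite.one_lt_card
    have hVc : Nat.card V = q ^ n := Module.natCard_eq_pow_finrank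
    have hqodd : Odd q := (hVc ▸ hV).of_dvd_nat (dvd_pow_self q Module.finrank_pos.ne')
    have hadvd : a ∣ q - 1 := by
      have hχu : Function.Injective χ.toHomUnits := fun x y h => hχ (congrArg Units.val h)
      rw [hq, ← Nat.card_units (ring (V := V) S)]
      exact Subgroup.card_dvd_of_injective χ.toHomUnits hχu
    have hsq : S.A.relIndex S.N = e ^ 2 := D.sq
    have hen : e ≤ n := by
      have := card_sect_le S hfld
      rw [hsq] at this
      exact (Nat.pow_le_pow_iff_left two_ne_zero).1 this
    have haodd : Odd a := hA.of_dvd_nat (Subgroup.card_subgroup_dvd_card S.A)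
    have heodd : Odd e := by
      have h1 : Odd (S.A.relIndex S.N) :=
        hA.of_dvd_nat ((Subgroup.relIndex_dvd_index_of_le S.hAN).trans S.A.index_dvd_card)
      rw [hsq] at h1
      exact h1.of_dvd_nat (dvd_pow_self e two_ne_zero)
    have hfpf : ∀ x ∈ S.A, x ≠ 1 → ∀ v : V, x • v = v → v = 0 := D.fpf
    obtain ⟨v₁, hv₁⟩ := exists_ne (0 : V)
    rcases Nat.lt_or_ge e 3 with he1 | he3
    · have e1 : e = 1 := by obtain ⟨j, hj⟩ := heodd; omega
      rw [e1, one_pow, Subgroup.relIndex_eq_one] at hsq
      have hCA : S.C ≤ S.A := by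
        intro c hc
        refine hsq ?_
        rw [← (D.kerQ : S.C ⊓ S.K = S.N)]
        exact Subgroup.mem_inf.2 ⟨hc, fun x hx => by
          rw [commutatorElement_eq_one_iff_mul_comm.2 (S.comm_A (hsq hx) hc).symm]
          exact S.A.one_mem⟩
      exact ⟨v₁, fun g hg hgC => by_contra fun h1 => hv₁ (hfpf g (hCA hgC) h1 v₁ hg)⟩
    obtain ⟨s, hsodd, hCcard, hgen, hprime, hnine⟩ :=
      image_bounds hA D heodd he3 (isCyclic_of_subgroup_isDomain χ hχ)
    have hNcard : Nat.card S.N = a * e ^ 2 := by
      rw [← hsq, ha, ← Subgroup.relIndex_bot_left S.A, Subgroup.relIndex_mul_relIndex _ _ _ bot_le S.hAN,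
        Subgroup.relIndex_bot_left]
    -- fixed spaces over the field
    let fx : A → Submodule (ring (V := V) S) V := fun g => Submodule.span _ {v : V | g • v = v}
    let d : A → ℕ := fun g => Module.finrank (ring (V := V) S) (fx g)
    have hmem : ∀ g ∈ S.C, ∀ v : V, v ∈ fx g ↔ g • v = v := by
      intro g hg v
      refine ⟨fun h => ?_, fun h => Submodule.subset_span h⟩
      induction h using Submodule.span_induction with
      | mem y hy => exact hy
      | zero => exact smul_zero g
      | add y z _ _ hy hz => rw [smul_add, hy, hz]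
      | smul r y _ hy =>
        have h1 : g • (r • y) = r • (g • y) := DFunLike.congr_fun (commute_ring S hg r.2) y
        rw [h1, hy]
    have hcardfix : ∀ g ∈ S.C, Nat.card (fixA (V := V) g) = q ^ d g := by
      intro g hg
      show Nat.card {v : V // g • v = v} = _
      rw [Nat.card_congr (Equiv.subtypeEquivRight (q := fun v => v ∈ fx g) fun v => (hmem g hg v).symm)]
      exact Module.natCard_eq_pow_finrank (K := ring (V := V) S) (V := fx g)
    have hpowle : ∀ i j : ℕ, q ^ i ≤ q ^ j → i ≤ j := fun i j h => (Nat.pow_le_pow_iff_right hq1).1 h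
    have hconj : ∀ y ∈ S.C, ∀ g ∈ S.C, d (y * g * y⁻¹) = d g := by
      intro y hy g hg
      refine Nat.pow_right_injective hq1 ?_
      show q ^ d (y * g * y⁻¹) = q ^ d g
      rw [← hcardfix _ (S.C.mul_mem (S.C.mul_mem hy hg) (S.C.inv_mem hy)), ← hcardfix g hg]
      refine (Nat.card_congr (Equiv.subtypeEquiv (MulAction.toPerm y) fun v => ?_)).symm
      show g • v = v ↔ (y * g * y⁻¹) • y • v = y • v
      rw [mul_smul, mul_smul, inv_smul_smul]
      exact ⟨fun h => by rw [h], fun h => MulAction.injective y h⟩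
    have hind : ∀ g ∈ S.C, ∀ t : Finset S.A, ∑ x ∈ t, d (g * x) ≤ n := by
      intro g hg t
      let lg : Module.End (ring (V := V) S) V :=
        { toFun := fun v => g • v
          map_add' := smul_add _
          map_smul' := fun r v => DFunLike.congr_fun (commute_ring S hg r.2) v }
      have hW : iSupIndep fun x : S.A => fx (g * x) := by
        have h0 := (Module.End.eigenspaces_iSupIndep lg).comp
          (f := fun x : S.A => χ x⁻¹) (fun x y h => inv_injective (hχ h))
        refine h0.mono fun x v hv => ?_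
        have hv' := (hmem _ (S.C.mul_mem hg (S.A_le_C x.2)) v).1 hv
        refine Module.End.mem_eigenspace_iff.2 ?_
        show g • v = ((x⁻¹ : S.A) : A) • v
        have hxg : g * (x : A) = (x : A) * g := (S.comm_A x.2 hg).symm
        rw [Subgroup.coe_inv, eq_inv_smul_iff, ← mul_smul, ← hxg, hv']
      exact sum_finrank_le t _ hW
    have hA0 : ∀ g ∈ S.A, g ≠ 1 → d g = 0 := fun g hg h1 => by
      have hc := hcardfix g (S.A_le_C hg)
      haveI : Subsingleton (fixA (V := V) g) :=
        ⟨fun x y => Subtype.ext ((hfpf g hg h1 x x.2).trans (hfpf g hg h1 y y.2).symm)⟩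
      rw [Nat.card_of_subsingleton (0 : fixA (V := V) g)] at hc
      by_contra h
      exact (Nat.one_lt_pow h hq1).ne hc
    have hN : ∀ g ∈ S.N, g ≠ 1 → 3 * d g ≤ n := by
      intro g hg hg1
      by_cases hgA : g ∈ S.A
      · rw [hA0 g hgA hg1]; omega
      obtain ⟨y, hy, hne⟩ := S.exists_comm_ne (S.hNC hg) hgA
      set b : S.A := ⟨⁅y, g⁆, S.hNN y hy g hg⟩ with hb
      have hb1 : b ≠ 1 := fun h => hne (by
        rw [← commutatorElement_inv, show ⁅y, g⁆ = 1 from congrArg Subtype.val h, inv_one])
      have hb2 : b * b ≠ 1 := fun h => hb1 (by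
        have h3 : orderOf b ∣ 2 := orderOf_dvd_of_pow_eq_one (by rw [pow_two, h])
        obtain ⟨k, hk⟩ := haodd.of_dvd_nat (orderOf_dvd_natCard b)
        have := Nat.le_of_dvd two_pos h3
        exact orderOf_eq_one_iff.1 (by omega))
      have hgC := S.hNC hg
      have hyC := S.hNC hy
      have hbg : ∀ x : A, x ∈ S.A → d (g * (x * b)) = d (g * x) := by
        intro x hx
        rw [← hconj y hyC (g * x) (S.C.mul_mem hgC (S.A_le_C hx))]
        congr 1
        show g * (x * ⁅y, g⁆) = y * (g * x) * y⁻¹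
        rw [S.comm_A hx (S.A_le_C (S.hNN y hy g hg)), ← mul_assoc,
          ← S.comm_A (S.hNN y hy g hg) hgC, commutatorElement_def,
          show y * (g * x) * y⁻¹ = y * g * (x * y⁻¹) by group, S.comm_A hx (S.C.inv_mem hyC)]
        group
      have h := hind g hgC {1, b, b * b}
      have hbb : b ≠ b * b := fun h => hb1 (left_eq_mul.1 h)
      rw [Finset.sum_insert (by simp [hb1.symm, hb2.symm]), Finset.sum_pair hbb] at h
      have h1 := hbg 1 S.A.one_mem
      have h2 := hbg b b.2
      rw [one_mul, mul_one] at h1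
      rw [Subgroup.coe_one, mul_one, Subgroup.coe_mul, h2, h1] at h
      omega
    have hmid : ∀ g ∈ S.C, g ∉ S.N → 3 * d g ≤ 2 * n := by
      intro g hg hgN
      have hgK : g ∉ S.K := fun h => hgN ((D.kerQ : S.C ⊓ S.K = S.N).le (Subgroup.mem_inf.2 ⟨hg, h⟩))
      obtain ⟨x, hx, hxne⟩ : ∃ x ∈ S.N, ⁅g, x⁆ ∉ S.A := by
        by_contra hall
        push Not at hall
        exact hgK hall
      have hhN : ⁅g, x⁆ ∈ S.N := by
        rw [commutatorElement_def]
        exact S.N.mul_mem (S.hN.conj_mem x hx g) (S.N.inv_mem hx)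
      have h1 := fix_sq_le (V := V) g x
      rw [hcardfix g hg, hcardfix _ (S.hNC hhN), hVc, ← pow_mul, ← pow_add] at h1
      have h2 := hN _ hhN fun h => hxne (h ▸ S.A.one_mem)
      have := hpowle _ _ h1
      omega
    -- counting
    by_contra hno
    push Not at hno
    letI := Fintype.ofFinite A
    letI := Fintype.ofFinite V
    letI := Fintype.ofFinite S.A
    set T : Finset A := (S.C : Set A).toFinset \ (S.N : Set A).toFinset with hT
    set U : Finset A := (S.N : Set A).toFinset.erase 1 with hU
    set P : Finset V := Finset.univ.erase 0 with hP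
    have hTmem : ∀ g, g ∈ T ↔ g ∈ S.C ∧ g ∉ S.N := fun g => by
      simp [hT]
    have hUmem : ∀ g, g ∈ U ↔ g ≠ 1 ∧ g ∈ S.N := fun g => by
      simp [hU]
    have hlow : ∀ v ∈ P, 2 ≤ (T.filter fun g => g • v = v).card + 2 * (U.filter fun g => g • v = v).card := by
      intro v _
      obtain ⟨g, hgv, hgC, hg1⟩ := hno v
      have hgv' : g • v = v := hgv
      by_cases hgN : g ∈ S.N
      · have : 0 < (U.filter fun g => g • v = v).card :=
          Finset.card_pos.2 ⟨g, Finset.mem_filter.2 ⟨(hUmem g).2 ⟨hg1, hgN⟩, hgv'⟩⟩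
        omega
      · have hne : g ≠ g⁻¹ := fun h => hg1 (by
          have h3 : orderOf g ∣ 2 := orderOf_dvd_of_pow_eq_one (by
            rw [pow_two]; nth_rw 2 [h]; exact mul_inv_cancel g)
          obtain ⟨k, hk⟩ := hA.of_dvd_nat (orderOf_dvd_natCard g)
          have := Nat.le_of_dvd two_pos h3
          exact orderOf_eq_one_iff.1 (by omega))
        have hsub : ({g, g⁻¹} : Finset A) ⊆ T.filter fun g => g • v = v := by
          intro h hh
          rcases Finset.mem_insert.1 hh with rfl | hh
          · exact Finset.mem_filter.2 ⟨(hTmem h).2 ⟨hgC, hgN⟩, hgv'⟩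
          · rw [Finset.mem_singleton.1 hh]
            exact Finset.mem_filter.2 ⟨(hTmem _).2 ⟨S.C.inv_mem hgC, fun hh => hgN (inv_mem_iff.1 hh)⟩,
              inv_smul_eq_iff.2 hgv'.symm⟩
        have := Finset.card_le_card hsub
        rw [Finset.card_pair hne] at this
        omega
    have hF : ∀ g ∈ S.C, (P.filter fun v => g • v = v).card = q ^ d g - 1 := by
      intro g hg
      have h0 : (0 : V) ∈ Finset.univ.filter fun v : V => g • v = v :=
        Finset.mem_filter.2 ⟨Finset.mem_univ _, smul_zero g⟩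
      rw [hP, Finset.filter_erase, Finset.card_erase_of_mem h0, ← hcardfix g hg]
      congr 1
      rw [Nat.card_eq_fintype_card]
      exact (Fintype.card_of_subtype _ (fun v => Finset.mem_filter.trans (and_iff_right (Finset.mem_univ v)))).symm
    have hswap : ∀ R : Finset A, (∀ g ∈ R, g ∈ S.C) →
        ∑ v ∈ P, (R.filter fun g => g • v = v).card = ∑ g ∈ R, (q ^ d g - 1) := by
      intro R hR
      simp only [Finset.card_filter]
      rw [Finset.sum_comm]
      refine Finset.sum_congr rfl fun g hg => ?_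
      rw [← hF g (hR g hg), Finset.card_filter]
    have hmain : 2 * P.card ≤ (∑ g ∈ T, (q ^ d g - 1)) + 2 * ∑ g ∈ U, (q ^ d g - 1) := by
      have h := Finset.sum_le_sum hlow
      rw [Finset.sum_const, smul_eq_mul, Finset.sum_add_distrib, ← Finset.mul_sum,
        hswap T (fun g hg => ((hTmem g).1 hg).1), hswap U (fun g hg => S.hNC ((hUmem g).1 hg).2)] at h
      rw [mul_comm]
      exact h
    have hPc : P.card + 1 = q ^ n := by
      rw [hP, ← hVc, Nat.card_eq_fintype_card, Finset.card_erase_of_mem (Finset.mem_univ _), Finset.card_univ]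
      have := Fintype.card_pos (α := V)
      omega
    have hUle : ∑ g ∈ U, (q ^ d g - 1) ≤ a * e ^ 2 * q ^ (n / 3) := by
      refine (Finset.sum_le_card_nsmul U _ (q ^ (n / 3)) fun g hg => ?_).trans ?_
      · obtain ⟨h1, h2⟩ := (hUmem g).1 hg
        refine (Nat.sub_le _ _).trans (Nat.pow_le_pow_right (by omega) ?_)
        have := hN g h2 h1
        omega
      · rw [smul_eq_mul, ← hNcard]
        exact Nat.mul_le_mul_right _ (Finset.card_erase_le.trans (Nat.card_eq_card_toFinset _).ge)
    have hTcard : T.card = a * (e ^ 2 * (s - 1)) := by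
      rw [hT, Finset.card_sdiff_of_subset (Set.toFinset_mono S.hNC), ← Nat.card_eq_card_toFinset,
        ← Nat.card_eq_card_toFinset, ← mul_assoc, Nat.mul_sub_one]
      exact congrArg₂ (· - ·) hCcard hNcard
    set B := q ^ (2 * n / 3) + q ^ (2 * n / 3 - 1) with hB
    have hTle : ∑ g ∈ T, (q ^ d g - 1) ≤ e ^ 2 * (s - 1) * B := by
      refine Nat.le_of_mul_le_mul_left ?_ (Nat.card_pos (α := S.A))
      have hshift : ∀ x : S.A, ∑ g ∈ T, (q ^ d g - 1) = ∑ g ∈ T, (q ^ d (g * x) - 1) := by
        intro x
        refine (Finset.sum_nbij' (fun g => g * (x : A)) (fun g => g * (x : A)⁻¹) ?_ ?_ ?_ ?_ ?_).symm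
        · intro g hg
          obtain ⟨h1, h2⟩ := (hTmem g).1 hg
          exact (hTmem _).2 ⟨S.C.mul_mem h1 (S.A_le_C x.2), fun h => h2 (by
            simpa using S.N.mul_mem h (S.N.inv_mem (S.hAN x.2)))⟩
        · intro g hg
          obtain ⟨h1, h2⟩ := (hTmem g).1 hg
          exact (hTmem _).2 ⟨S.C.mul_mem h1 (S.C.inv_mem (S.A_le_C x.2)), fun h => h2 (by
            simpa using S.N.mul_mem h (S.hAN x.2))⟩
        · intro g _; exact mul_inv_cancel_right g _
        · intro g _; exact inv_mul_cancel_right g _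
        · intro g _; rfl
      calc a * ∑ g ∈ T, (q ^ d g - 1) = ∑ _x : S.A, ∑ g ∈ T, (q ^ d g - 1) := by
            rw [Finset.sum_const, smul_eq_mul, Finset.card_univ, ha, Nat.card_eq_fintype_card]
        _ = ∑ g ∈ T, ∑ x : S.A, (q ^ d (g * x) - 1) := by
            rw [Finset.sum_congr rfl fun x _ => hshift x, Finset.sum_comm]
        _ ≤ ∑ _g ∈ T, B := Finset.sum_le_sum fun g hg => ?_
        _ = _ := by rw [Finset.sum_const, smul_eq_mul, hTcard]; ring
      obtain ⟨h1, h2⟩ := (hTmem g).1 hg
      refine sum_fix_le (by omega) (by omega) ?_ _ _ (fun x _ => ?_) (hind g h1 _)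
      · intro h4
        have e3 : e = 3 := by obtain ⟨j, hj⟩ := heodd; omega
        have h8 : s ∣ e ^ 2 - 1 := hprime (show e.Prime by rw [e3]; exact Nat.prime_three)
        rw [e3] at h8
        norm_num at h8
        have := Nat.le_of_dvd (by norm_num) h8
        obtain ⟨t, ht⟩ := hsodd
        have : s = 1 := by interval_cases s <;> omega
        have : 0 < T.card := Finset.card_pos.2 ⟨g, hg⟩
        rw [hTcard, show s - 1 = 0 by omega, mul_zero, mul_zero] at this
        exact lt_irrefl 0 this
      · exact hmid _ (S.C.mul_mem h1 (S.A_le_C x.2)) fun h => h2 (by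
          simpa using S.N.mul_mem h (S.N.inv_mem (S.hAN x.2)))
    have hcount := odd_count heodd he3 hen hqodd hq1 haodd hadvd
      (fun p hp hpe => (D.prime_dvd p hp hpe).1) hsodd hgen hprime hnine
    rw [← hB] at hcount
    omega
  refine ⟨v, fun g hg h hh x => ?_⟩
  have hc := hv _ (mul_mem (mul_mem (mul_mem hg hh) (inv_mem hg)) (inv_mem hh)) (D.gal g h)
  rw [← mul_smul, ← mul_smul, commutatorElement_eq_one_iff_mul_comm.1 ((commutatorElement_def g h).trans hc)]

/-- piece Q5 -/
theorem stmtOddPrim : StmtOddPrim.{u} := fun _ _ _ _ _ _ _ _ _ hA hV hp => exists_commOn hA hV hp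

end CfsgLib.OrbitStab
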