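import Cfsg.Agent.Lib.FgsC.OrbitStab.TriLemmas
import Cfsg.Agent.Lib.FgsC.BaseTwo.Primitive

/-!
# The small cases of the primitive pieces

When every primary part of `e` is small the whole group has derived length at most six; for `e = 8, 9, 16`
a stabiliser has derived length at most six and the order excludes transitivity on the non-zero vectors.
-/

set_option autoImplicit false

universe u

namespace CfsgLib.OrbitStab.SmallCases

open MulAction CfsgLib.BaseTwo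
open scoped commutatorElement

set_option synthInstance.maxSize 16384
set_option synthInstance.maxHeartbeats 400000

/-- the bound on `|C / N|` -/
abbrev glOrd (l d : ℕ) : ℕ := ((List.range d).map fun i => l ^ d - l ^ i).prod

theorem arith_eight : ∀ q < 21, ∀ n < 24, ∀ f < 5, 2 ∣ q - 1 → 2 ≤ q → 8 ≤ n → 2 ∣ n → 2 ^ f ≤ q →
    q ^ n ≤ 4 * ((q - 1) * f * 8 ^ 2 * (8 ^ 2) ^ 3) + 1 →
    ¬ q ^ n - 1 ∣ (q - 1) * f * 8 ^ 2 * glOrd 2 6 := by decide +kernel

theorem arith_nine : ∀ q < 21, ∀ n < 24, ∀ f < 5, 3 ∣ q - 1 → 2 ≤ q → 9 ≤ n → 3 ∣ n → 2 ^ f ≤ q →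
    q ^ n ≤ 4 * ((q - 1) * f * 9 ^ 2 * (9 ^ 2) ^ 3) + 1 →
    ¬ q ^ n - 1 ∣ (q - 1) * f * 9 ^ 2 * glOrd 3 4 := by decide +kernel

theorem arith_sixteen : ∀ q < 21, ∀ n < 24, ∀ f < 5, 2 ∣ q - 1 → 2 ≤ q → 16 ≤ n → 2 ∣ n → 2 ^ f ≤ q →
    q ^ n ≤ 4 * ((q - 1) * f * 16 ^ 2 * (16 ^ 2) ^ 3) + 1 →
    ¬ q ^ n - 1 ∣ (q - 1) * f * 16 ^ 2 * glOrd 2 8 := by decide +kernel

theorem glOrd_eq (l d : ℕ) : ∏ i : Fin d, (l ^ d - l ^ (i : ℕ)) = glOrd l d := by
  rw [Fin.prod_univ_def]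
  show _ = ((List.range d).map fun i => l ^ d - l ^ i).prod
  rw [← List.map_coe_finRange_eq_range, List.map_map]
  rfl

/-- An element of prime power order suffices. -/
theorem fixed_of_primary {A : Type u} [Group A] {M : Type u} [AddCommGroup M] [Finite M]
    [DistribMulAction A M] {g : A}
    (h : ∀ r : ℕ, r.Prime → ∀ (m : M) (k : ℕ), r ^ k • m = 0 → g • m = m) : ∀ m : M, g • m = m := by
  suffices key : ∀ o : ℕ, 0 < o → ∀ m : M, o • m = 0 → g • m = m from fun m =>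
    key (addOrderOf m) (addOrderOf_pos m) m (addOrderOf_nsmul_eq_zero m)
  intro o
  induction o using Nat.recOnPosPrimePosCoprime with
  | prime_pow r k hr _ => exact fun _ m hm => h r hr m k hm
  | zero => intro h0; omega
  | one => intro _ m hm; rw [one_smul] at hm; rw [hm, smul_zero]
  | coprime a b ha hb hab iha ihb =>
    intro _ m hm
    obtain ⟨u, v, huv⟩ : ∃ u v : ℤ, u * a + v * b = 1 := Int.isCoprime_iff_nat_coprime.2 (by simpa using hab)
    have e : m = u • (a • m) + v • (b • m) := by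
      conv_lhs => rw [← one_zsmul m, ← huv, add_zsmul, mul_zsmul, mul_zsmul, natCast_zsmul, natCast_zsmul]
    have h1 : g • (a • m) = a • m := ihb (by omega) _ (by rw [← mul_smul, mul_comm]; exact hm)
    have h2 : g • (b • m) = b • m := iha (by omega) _ (by rw [← mul_smul]; exact hm)
    rw [e, smul_add, smul_comm g u, smul_comm g v, h1, h2]

/-- Small primary parts of `Q`. -/
theorem triv_Q {A : Type u} [Group A] [Finite A] (hs : Group.IsSolvable A) (T : Tables.{u})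
    {M : Type u} [AddCommGroup M] [Finite M] [DistribMulAction A M] (hss : Semisimple A M) {e : ℕ}
    (he : 0 < e) (hcard : Nat.card M = e ^ 2)
    (hsmall : ∀ r : ℕ, r.Prime → r * r ∣ e → r = 2 ∧ ¬ 8 ∣ e) : Triv (⊤ : Subgroup A) 4 M := by
  intro g hg
  refine fixed_of_primary fun r hr m k hm => ?_
  haveI : Fact r.Prime := ⟨hr⟩
  let U : AddSubgroup M :=
    { carrier := {x | ∃ k : ℕ, r ^ k • x = 0}
      zero_mem' := ⟨0, smul_zero _⟩
      add_mem' := fun {x y} ⟨i, hi⟩ ⟨j, hj⟩ => ⟨i + j, by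
        rw [smul_add, pow_add, mul_smul, mul_smul, hj, smul_zero, add_zero, smul_comm, hi, smul_zero]⟩
      neg_mem' := fun {x} ⟨i, hi⟩ => ⟨i, by rw [smul_neg, hi, neg_zero]⟩ }
  have hU : ∀ a : A, ∀ v ∈ U, a • v ∈ U := by
    rintro a v ⟨i, hi⟩
    exact ⟨i, by rw [← smul_comm a (r ^ i) v, hi, smul_zero]⟩
  have hidx : ¬ r ∣ U.index := fun hdvd => by
    obtain ⟨c, hc⟩ := exists_prime_addOrderOf_dvd_card' (G := M ⧸ U) r hdvd
    obtain ⟨x, rfl⟩ := QuotientAddGroup.mk_surjective c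
    have hx := addOrderOf_nsmul_eq_zero (x : M ⧸ U)
    rw [hc, ← QuotientAddGroup.mk_nsmul, QuotientAddGroup.eq_zero_iff] at hx
    obtain ⟨i, hi⟩ := hx
    have hxU : x ∈ U := ⟨i + 1, by rw [pow_succ, mul_smul]; exact hi⟩
    rw [(QuotientAddGroup.eq_zero_iff x).2 hxU, addOrderOf_zero] at hc
    exact hr.one_lt.ne hc
  have hmul := U.card_mul_index
  rw [hcard] at hmul
  have hpU : IsPGroup r (Multiplicative ↥U) := fun x => by
    obtain ⟨i, hi⟩ := (Multiplicative.toAdd x).2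
    exact ⟨i, Multiplicative.toAdd.injective (Subtype.ext (by
      rw [toAdd_pow, AddSubgroup.coe_nsmul]; exact hi))⟩
  obtain ⟨j, hj'⟩ := IsPGroup.iff_card.1 hpU
  have hj : Nat.card U = r ^ j := (Nat.card_congr Multiplicative.toAdd).symm.trans hj'
  obtain ⟨a, e', he', rfl⟩ := Nat.exists_eq_pow_mul_and_not_dvd he.ne' r hr.one_lt.ne'
  have hj2 : j = 2 * a := by
    rw [hj, mul_pow, ← pow_mul, mul_comm a] at hmul
    have hcop : r.Coprime (e' ^ 2) := Nat.Coprime.pow_right 2 (hr.coprime_iff_not_dvd.2 he')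
    have hcop' : r.Coprime U.index := hr.coprime_iff_not_dvd.2 hidx
    have h1 : r ^ j ∣ r ^ (2 * a) := (Nat.Coprime.pow_left j hcop).dvd_of_dvd_mul_right ⟨_, hmul.symm⟩
    have h2 : r ^ (2 * a) ∣ r ^ j :=
      (Nat.Coprime.pow_left (2 * a) hcop').dvd_of_dvd_mul_right ⟨e' ^ 2, hmul⟩
    exact le_antisymm ((Nat.pow_dvd_pow_iff_le_right hr.one_lt).1 h1)
      ((Nat.pow_dvd_pow_iff_le_right hr.one_lt).1 h2)
  letI := subModule U hU
  have hb : Triv (⊤ : Subgroup A) 4 U := by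
    have hssU := semisimple_subModule hss U hU
    rcases (show a = 0 ∨ a = 1 ∨ 2 ≤ a by omega) with rfl | rfl | ha
    · intro _ _ x
      haveI : Subsingleton U := (Nat.card_eq_one_iff_unique.1 (by rw [hj, hj2]; norm_num)).1
      exact Subsingleton.elim _ _
    · exact T.dim2 r hr A U hs (by rw [hj, hj2]) hssU
    · obtain ⟨rfl, h8⟩ := hsmall r hr (Dvd.dvd.mul_right (by
        rw [← pow_two]; exact pow_dvd_pow r ha) e')
      have : a = 2 := by
        by_contra hne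
        exact h8 (Dvd.dvd.mul_right (by rw [show (8 : ℕ) = 2 ^ 3 from rfl]; exact pow_dvd_pow 2 (by omega)) e')
      subst this
      exact (T.two4 A U hs (by rw [hj, hj2]) hssU).mono (by norm_num)
  exact congrArg Subtype.val (hb g hg ⟨m, k, hm⟩)

/-- The matrices of the action. -/
theorem exists_gl_hom_aux {H : Type u} [Group H] {M : Type u} [AddCommGroup M] [Finite M] {l d : ℕ}
    [Fact l.Prime] [Module (ZMod l) M] (act : H → M → M)
    (hadd : ∀ h x y, act h (x + y) = act h x + act h y)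
    (hone : ∀ x, act 1 x = x) (hmul : ∀ g h x, act (g * h) x = act g (act h x))
    (hcard : Nat.card M = l ^ d) :
    ∃ Φ : H →* GL (Fin d) (ZMod l), ∀ g, Φ g = 1 ↔ ∀ x, act g x = x := by
  classical
  have hrank : Module.finrank (ZMod l) M = d := by
    have h := Module.natCard_eq_pow_finrank (K := ZMod l) (V := M)
    rw [Nat.card_zmod, hcard] at h
    exact (Nat.pow_right_injective (Fact.out : l.Prime).two_le h).symm
  let bas : Module.Basis (Fin d) (ZMod l) M := Module.finBasisOfFinrankEq (ZMod l) M hrank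
  let f : H → (M →ₗ[ZMod l] M) := fun g => (AddMonoidHom.mk' (act g) (hadd g)).toZModLinearMap l
  let φm : H →* Matrix (Fin d) (Fin d) (ZMod l) :=
    { toFun := fun g => LinearMap.toMatrix bas bas (f g)
      map_one' := by
        rw [show f 1 = LinearMap.id from LinearMap.ext fun x => hone x, LinearMap.toMatrix_id]
      map_mul' := fun g h => by
        rw [← LinearMap.toMatrix_mul]
        congr 1
        exact LinearMap.ext fun x => hmul g h x }
  refine ⟨φm.toHomUnits, fun g => ?_⟩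
  rw [Units.ext_iff]
  show LinearMap.toMatrix bas bas (f g) = 1 ↔ _
  rw [← LinearMap.toMatrix_id bas, (LinearMap.toMatrix bas bas).injective.eq_iff]
  exact ⟨fun h x => LinearMap.congr_fun h x, fun h => LinearMap.ext h⟩

/-- A group acting on an elementary abelian group maps into the general linear group. -/
theorem exists_gl_hom {H : Type u} [Group H] {M : Type u} [AddCommGroup M] [Finite M] {l d : ℕ}
    [Fact l.Prime] (act : H → M → M) (hadd : ∀ h x y, act h (x + y) = act h x + act h y)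
    (hone : ∀ x, act 1 x = x) (hmul : ∀ g h x, act (g * h) x = act g (act h x))
    (hexp : ∀ x : M, l • x = 0) (hcard : Nat.card M = l ^ d) :
    ∃ Φ : H →* GL (Fin d) (ZMod l), ∀ g, Φ g = 1 ↔ ∀ x, act g x = x :=
  @exists_gl_hom_aux H _ M _ _ l d _ (AddCommGroup.zmodModule hexp) act hadd hone hmul hcard

variable {A : Type u} [Group A] [Finite A] {V : Type u} [AddCommGroup V] [Finite V] [Nontrivial V]
  [DistribMulAction A V] [FaithfulSMul A V]

omit [Nontrivial V] in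
theorem smul_cl' (D : Data A V) (g : A) (x : D.S.N) : g • D.S.cl x = D.S.cl (D.S.cjN g x) := rfl

omit [Nontrivial V] in
/-- A stabiliser when `Q` is a module of dimension at most eight over two elements. -/
theorem triv_stab_two (hs : Group.IsSolvable A) (T : Tables.{u}) (D : Data A V) {d : ℕ} (hd : d ≤ 8)
    (hQ : Nat.card (Additive D.S.Q) = 2 ^ d) (he : D.e < 64) {v : V} (hv : v ≠ 0) :
    Triv (stabilizer A v) 6 V := by
  classical
  set Y := stabilizer A v with hYdef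
  by_cases h5 : Triv Y 5 (Additive D.S.Q)
  · exact D.dl_stab v hv 5 (by norm_num) h5
  obtain ⟨W, W', hW, -, hi, hsup, hW64, hirr, hfix, hcomm, hodd⟩ :=
    T.six A (Additive D.S.Q) d hd hs hQ D.ssQ Y h5
  haveI : Fact (Nat.Prime 2) := ⟨Nat.prime_two⟩
  -- the image of the fixed part of `N`
  set L := Y ⊓ D.S.N with hL
  let M0 : AddSubgroup (Additive D.S.Q) :=
    { carrier := {m | ∃ x : D.S.N, (x : A) ∈ Y ∧ D.S.cl x = m}
      zero_mem' := ⟨1, Y.one_mem, rfl⟩
      add_mem' := fun {m k} ⟨x, hx, hx'⟩ ⟨y, hy, hy'⟩ =>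
        ⟨x * y, Y.mul_mem hx hy, by rw [Sect.cl_mul, hx', hy']⟩
      neg_mem' := fun {m} ⟨x, hx, hx'⟩ => ⟨x⁻¹, Y.inv_mem hx, by rw [← hx']; rfl⟩ }
  have hM0inv : ∀ y ∈ Y, ∀ m ∈ M0, y • m ∈ M0 := by
    rintro y hy _ ⟨x, hx, rfl⟩
    exact ⟨D.S.cjN y x, Y.mul_mem (Y.mul_mem hy hx) (Y.inv_mem hy), (smul_cl' D y x).symm⟩
  have hinj : ∀ x y : D.S.N, (x : A) ∈ Y → (y : A) ∈ Y → D.S.cl x = D.S.cl y → x = y := by
    intro x y hx hy e
    refine Subtype.ext (inv_mul_eq_one.1 (by_contra fun hne => hv ?_))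
    exact D.fpf _ (D.S.cl_eq_cl.1 e) hne v (mem_stabilizer_iff.1 (Y.mul_mem (Y.inv_mem hx) hy))
  have hcard0 : Nat.card M0 < 64 := by
    refine lt_of_le_of_lt (le_trans ?_ (D.isotropic v hv).2) he
    refine Nat.card_le_card_of_surjective (fun x : L => (⟨D.S.cl ⟨x, x.2.2⟩, ⟨x, x.2.2⟩, x.2.1, rfl⟩ : M0)) ?_
    rintro ⟨_, x, hx, rfl⟩
    exact ⟨⟨x, hx, x.2⟩, rfl⟩
  have hM0W : M0 ⊓ W = ⊥ := by
    refine (hirr _ inf_le_right fun y hy m hm =>
      AddSubgroup.mem_inf.2 ⟨hM0inv y hy m hm.1, hW y m hm.2⟩).resolve_right fun h => ?_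
    have : Nat.card (M0 ⊓ W : AddSubgroup _) ≤ Nat.card M0 := AddSubgroup.card_le_of_le inf_le_left
    rw [h, hW64] at this
    omega
  have hD5Y : dser Y 5 ≤ Y := dser_le' Y 5
  have hfixM0 : ∀ g ∈ dser Y 5, ∀ m ∈ M0, g • m = m := by
    intro g hg m hm
    obtain ⟨w, hw, w', hw', hwm⟩ := AddSubgroup.mem_sup.1 (hsup ▸ AddSubgroup.mem_top m : m ∈ W ⊔ W')
    have h1 : g • m - m ∈ M0 ⊓ W := AddSubgroup.mem_inf.2 ⟨M0.sub_mem (hM0inv g (hD5Y hg) m hm) hm, by
      rw [← hwm, smul_add, hfix g hg w' hw', add_sub_add_right_eq_sub]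
      exact W.sub_mem (hW g w hw) hw⟩
    rwa [hM0W, AddSubgroup.mem_bot, sub_eq_zero] at h1
  -- the fifth derived group centralises the fixed part
  have hcent : ∀ g ∈ dser Y 5, ∀ x ∈ L, g * x = x * g := by
    intro g hg x hx
    have h1 := hfixM0 g hg (D.S.cl ⟨x, hx.2⟩) ⟨_, hx.1, rfl⟩
    rw [smul_cl'] at h1
    have h2 : g * x * g⁻¹ = x := congrArg Subtype.val
      (hinj _ _ (Y.mul_mem (Y.mul_mem (hD5Y hg) hx.1) (Y.inv_mem (hD5Y hg))) hx.1 h1)
    exact mul_inv_eq_iff_eq_mul.1 h2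
  have h5C : dser Y 5 ≤ D.S.C := by
    refine (dser_antitone Y (show 1 ≤ 5 by norm_num)).trans ?_
    rw [show dser Y 1 = ⁅dser Y 0, dser Y 0⁆ from dser_succ' _ 0]
    exact Subgroup.commutator_le.2 fun a _ b _ => D.gal a b
  have hsq : ∀ x ∈ L, x ^ 2 = 1 := by
    intro x hx
    have h2 : D.S.cl (⟨x, hx.2⟩ * ⟨x, hx.2⟩) = D.S.cl 1 := by
      rw [Sect.cl_mul, ← two_nsmul]
      exact nsmul_prime_eq_zero D.ssQ hQ _
    rw [pow_two]
    exact congrArg Subtype.val (hinj _ _ (Y.mul_mem hx.1 hx.1) Y.one_mem h2)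
  intro g hg x
  have h6 : dser Y 6 ≤ ⊥ := by
    rw [dser_succ', Subgroup.commutator_le]
    intro a ha b hb
    have hc : ∀ p ∈ dser Y 5, ∀ r ∈ dser Y 5, ⁅p, r⁆ ∈ L := fun p hp r hr => by
      refine Subgroup.mem_inf.2 ⟨hD5Y ?_, ?_⟩
      · rw [commutatorElement_def]
        exact mul_mem (mul_mem (mul_mem hp hr) (inv_mem hp)) (inv_mem hr)
      rw [← D.kerQ]
      refine Subgroup.mem_inf.2 ⟨h5C (by
        rw [commutatorElement_def]
        exact mul_mem (mul_mem (mul_mem hp hr) (inv_mem hp)) (inv_mem hr)), D.S.fixed_iff.1 fun m => ?_⟩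
      rw [commutatorElement_def, mul_smul, mul_smul, mul_smul,
        hcomm p⁻¹ (inv_mem hp) r⁻¹ (inv_mem hr) m, smul_inv_smul, smul_inv_smul]
    obtain ⟨k, hk, hkm⟩ := hodd a ha
    have hak : a ^ k ∈ L := by
      refine Subgroup.mem_inf.2 ⟨Y.pow_mem (hD5Y ha) k, ?_⟩
      rw [← D.kerQ]
      exact Subgroup.mem_inf.2 ⟨D.S.C.pow_mem (h5C ha) k, D.S.fixed_iff.1 hkm⟩
    set c := ⁅b, a⁆ with hcdef
    have hca : Commute c a := (hcent a ha c (hc b hb a ha)).symm
    have h1 : c ^ k = 1 := by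
      have e1 : b * a ^ k * b⁻¹ = a ^ k := by rw [hcent b hb _ hak, mul_inv_cancel_right]
      rw [← conj_pow, show b * a * b⁻¹ = c * a by rw [hcdef, commutatorElement_def]; group, hca.mul_pow] at e1
      exact mul_eq_right.1 e1
    have h2 := hsq c (hc b hb a ha)
    have h3 : c = 1 := by
      obtain ⟨j, hj⟩ := hk
      rwa [hj, pow_succ, pow_mul, h2, one_pow, one_mul] at h1
    rw [Subgroup.mem_bot, ← commutatorElement_inv, ← hcdef, h3, inv_one]
  rw [Subgroup.mem_bot.1 (h6 hg), one_smul]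

omit [Nontrivial V] in
/-- The order. -/
theorem card_dvd (D : Data A V) {l d : ℕ} (hl : l.Prime) (hQ : Nat.card (Additive D.S.Q) = l ^ d) :
    Nat.card A ∣ (D.q - 1) * D.S.C.index * D.e ^ 2 * glOrd l d := by
  classical
  haveI : Fact l.Prime := ⟨hl⟩
  obtain ⟨Φ, hΦ⟩ := exists_gl_hom (H := D.S.C) (M := Additive D.S.Q) (l := l)
    (fun g x => (g : A) • x) (fun g x y => smul_add (g : A) x y)
    (fun x => one_smul A x) (fun g h x => mul_smul (g : A) (h : A) x)
    (fun x => nsmul_prime_eq_zero D.ssQ hQ x) hQ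
  have hker : Φ.ker = D.S.N.subgroupOf D.S.C := by
    ext g
    rw [MonoidHom.mem_ker, Subgroup.mem_subgroupOf, hΦ]
    constructor
    · intro h
      exact D.kerQ ▸ Subgroup.mem_inf.2 ⟨g.2, D.S.fixed_iff.1 h⟩
    · intro h
      exact D.S.fixed_iff.2 (D.kerQ.ge h).2
  have h1 := Φ.ker.card_mul_index
  rw [Subgroup.index_ker, hker, Nat.card_congr (Subgroup.subgroupOfEquivOfLe D.S.hNC).toEquiv] at h1
  have h2 : Nat.card Φ.range ∣ glOrd l d := by
    have := Subgroup.card_subgroup_dvd_card Φ.range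
    rwa [Matrix.card_GL_field, ZMod.card, glOrd_eq] at this
  have h3 : Nat.card D.S.N = Nat.card D.S.A * D.e ^ 2 := by
    rw [← D.sq, ← Subgroup.relIndex_bot_left D.S.A, Subgroup.relIndex_mul_relIndex _ _ _ bot_le D.S.hAN,
      Subgroup.relIndex_bot_left]
  rw [← D.S.C.card_mul_index, ← h1, h3,
    show (D.q - 1) * D.S.C.index * D.e ^ 2 * glOrd l d = (D.q - 1) * D.e ^ 2 * glOrd l d * D.S.C.index by ring]
  exact Nat.mul_dvd_mul_right (Nat.mul_dvd_mul (Nat.mul_dvd_mul_right D.cardA _) h2) _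

omit [FaithfulSMul A V] in
/-- Not transitive on the non-zero vectors. -/
theorem exists_two_orbits (h : ¬ Nat.card V - 1 ∣ Nat.card A) :
    ∃ v w : V, v ≠ 0 ∧ w ≠ 0 ∧ ∀ a : A, a • v ≠ w := by
  classical
  obtain ⟨v, hv⟩ := exists_ne (0 : V)
  by_contra hno
  push Not at hno
  refine h ?_
  have hO : orbit A v = {w : V | w ≠ 0} := by
    ext w
    constructor
    · rintro ⟨a, rfl⟩ e
      exact hv ((smul_eq_zero_iff_eq a).1 e)
    · intro hw
      obtain ⟨a, ha⟩ := hno v w hv hw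
      exact ⟨a, ha⟩
  have h1 : Nat.card (orbit A v) ∣ Nat.card A := by
    rw [Nat.card_congr (orbitEquivQuotientStabilizer A v)]
    exact Subgroup.card_quotient_dvd_card _
  have h2 : Nat.card {w : V // w ≠ 0} + 1 = Nat.card V := by
    rw [← Nat.card_congr (Equiv.optionSubtypeNe (0 : V)), Finite.card_option]
  rw [hO] at h1
  rwa [show Nat.card V - 1 = Nat.card {w : V // w ≠ 0} by omega]

/-- The bounds on the parameters. -/
theorem params {q n f e l : ℕ} (hq : 2 ≤ q) (hf : 2 ^ f ≤ q) (hl : l ∣ q - 1) (hl2 : 2 ≤ l)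
    (hn : e ≤ n) (he : e ∈ [8, 9, 16]) (hb : q ^ n ≤ 4 * ((q - 1) * f * e ^ 2 * (e ^ 2) ^ 3) + 1) :
    q < 21 ∧ n < 24 ∧ f < 5 := by
  have hq3 : 3 ≤ q := by
    have := Nat.le_of_dvd (by omega) hl
    omega
  have hfq : f < q := lt_of_lt_of_le Nat.lt_two_pow_self hf
  have h1 : q ^ n ≤ 4 * 16 ^ 8 * q ^ 2 ∧ (e ≤ 9 → q ^ n ≤ 4 * 9 ^ 8 * q ^ 2) := by
    have key : ∀ E, e ≤ E → q ^ n ≤ 4 * E ^ 8 * q ^ 2 := fun E hE => by
      refine hb.trans ?_
      have h2 : (q - 1) * f + 1 ≤ q ^ 2 := by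
        obtain ⟨p, rfl⟩ : ∃ p, q = p + 1 := ⟨q - 1, by omega⟩
        rw [Nat.add_sub_cancel]
        nlinarith
      have h3 : e ^ 2 * (e ^ 2) ^ 3 ≤ E ^ 8 := by
        rw [show e ^ 2 * (e ^ 2) ^ 3 = e ^ 8 by ring]; exact Nat.pow_le_pow_left hE 8
      have h4 : 1 ≤ E ^ 8 := Nat.one_le_pow _ _ (by simp at he; omega)
      calc 4 * ((q - 1) * f * e ^ 2 * (e ^ 2) ^ 3) + 1
          = 4 * ((q - 1) * f * (e ^ 2 * (e ^ 2) ^ 3)) + 1 := by ring
        _ ≤ 4 * ((q - 1) * f * E ^ 8) + 4 * E ^ 8 :=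
          Nat.add_le_add (Nat.mul_le_mul_left 4 (Nat.mul_le_mul_left _ h3)) (by omega)
        _ = 4 * E ^ 8 * ((q - 1) * f + 1) := by ring
        _ ≤ _ := Nat.mul_le_mul_left _ h2
    exact ⟨key 16 (by simp at he; omega), key 9⟩
  have hn24 : n < 24 := by
    by_contra hge
    obtain ⟨j, rfl⟩ : ∃ j, n = 24 + j := ⟨n - 24, by omega⟩
    have h2 : q ^ 24 ≤ q ^ (24 + j) := Nat.pow_le_pow_right (by omega) (by omega)
    have h3 := Nat.le_of_mul_le_mul_right (show q ^ 22 * q ^ 2 ≤ 4 * 16 ^ 8 * q ^ 2 by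
      rw [← pow_add]; exact h2.trans h1.1) (by positivity)
    have h5 : 3 ^ 22 ≤ q ^ 22 := Nat.pow_le_pow_left hq3 22
    omega
  have hq21 : q < 21 := by
    by_contra hge
    rcases (show e ≤ 9 ∨ e = 16 by simp at he; omega) with h | h
    · have h2 : q ^ 8 ≤ q ^ n := Nat.pow_le_pow_right (by omega) (by simp at he; omega)
      rcases (show e = 8 ∨ e = 9 by simp at he; omega) with h8 | h9
      · have hb8 : q ^ 8 ≤ 4 * 8 ^ 8 * q ^ 2 := by
          refine h2.trans (hb.trans ?_)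
          subst h8
          obtain ⟨p, rfl⟩ : ∃ p, q = p + 1 := ⟨q - 1, by omega⟩
          rw [Nat.add_sub_cancel]
          have : p * f ≤ p * p := Nat.mul_le_mul_left p (by omega)
          calc 4 * (p * f * 8 ^ 2 * (8 ^ 2) ^ 3) + 1 = 4 * 8 ^ 8 * (p * f) + 1 := by ring
            _ ≤ 4 * 8 ^ 8 * (p * p) + 4 * 8 ^ 8 := Nat.add_le_add (Nat.mul_le_mul_left _ this) (by norm_num)
            _ ≤ _ := by nlinarith
        have h3 := Nat.le_of_mul_le_mul_right (show q ^ 6 * q ^ 2 ≤ 4 * 8 ^ 8 * q ^ 2 by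
          rw [← pow_add]; exact hb8) (by positivity)
        have h5 : 21 ^ 6 ≤ q ^ 6 := Nat.pow_le_pow_left (by omega) 6
        omega
      · have h6 : q ^ 9 ≤ q ^ n := Nat.pow_le_pow_right (by omega) (by omega)
        have h3 := Nat.le_of_mul_le_mul_right (show q ^ 7 * q ^ 2 ≤ 4 * 9 ^ 8 * q ^ 2 by
          rw [← pow_add]; exact h6.trans (h1.2 h)) (by positivity)
        have h5 : 21 ^ 7 ≤ q ^ 7 := Nat.pow_le_pow_left (by omega) 7
        omega
    · have h6 : q ^ 16 ≤ q ^ n := Nat.pow_le_pow_right (by omega) (by omega)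
      have h3 := Nat.le_of_mul_le_mul_right (show q ^ 14 * q ^ 2 ≤ 4 * 16 ^ 8 * q ^ 2 by
        rw [← pow_add]; exact h6.trans h1.1) (by positivity)
      have h5 : 21 ^ 14 ≤ q ^ 14 := Nat.pow_le_pow_left (by omega) 14
      omega
  refine ⟨hq21, hn24, ?_⟩
  by_contra hge
  have : 2 ^ 5 ≤ 2 ^ f := Nat.pow_le_pow_right (by norm_num) (by omega)
  omega

end CfsgLib.OrbitStab.SmallCases

namespace CfsgLib.OrbitStab

open MulAction CfsgLib.BaseTwo SmallCases

/-- G6a: the small cases. -/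
theorem smallE : StmtSmallE.{u} := by
  intro A _ _ V _ _ _ _ _ hs T D hE
  classical
  obtain ⟨p, d, hp, hd, hq⟩ := (isPrimePow_nat_iff _).1 D.qpp
  rcases hE with hsmall | ⟨hb, he⟩
  · obtain ⟨v, hv⟩ := exists_ne (0 : V)
    have h6 := D.dl_all 4 (by norm_num) (triv_Q hs T D.ssQ D.he D.cardQ hsmall)
    exact Or.inl ⟨0, v, fun a => by rw [smul_zero]; exact hv.symm,
      h6.anti le_top, h6.anti le_top⟩
  have hf : 2 ^ D.S.C.index ≤ D.q := by
    rw [← hq]
    exact (Nat.pow_le_pow_left hp.two_le _).trans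
      (Nat.pow_le_pow_right hp.pos (D.index p d hp hq.symm))
  have hq2 : 2 ≤ D.q := D.qpp.one_lt
  suffices key : ¬ Nat.card V - 1 ∣ Nat.card A ∧ ∀ v : V, v ≠ 0 → Triv (stabilizer A v) 6 V by
    obtain ⟨v, w, hv, hw, hvw⟩ := exists_two_orbits key.1
    exact Or.inl ⟨v, w, hvw, key.2 v hv, key.2 w hw⟩
  simp only [List.mem_cons, List.not_mem_nil, or_false] at he
  rcases he with he | he | he
  · obtain ⟨h1, h2⟩ := D.prime_dvd 2 Nat.prime_two (by rw [he]; norm_num)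
    have hl' : 2 ∣ D.q - 1 := h1.trans D.cardA
    have hQ : Nat.card (Additive D.S.Q) = 2 ^ 6 := by rw [D.cardQ, he]; norm_num
    refine ⟨fun hdvd => ?_, fun v hv => triv_stab_two hs T D (by norm_num) hQ (by omega) hv⟩
    obtain ⟨hq21, hn24, hf5⟩ := params hq2 hf hl' le_rfl D.hne (by rw [he]; simp) hb
    rw [he] at hb
    refine arith_eight _ hq21 _ hn24 _ hf5 hl' hq2 (he ▸ D.hne) h2 hf hb ?_
    have h3 := hdvd.trans (card_dvd D Nat.prime_two hQ)
    rwa [D.cardV, he] at h3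
  · obtain ⟨h1, h2⟩ := D.prime_dvd 3 Nat.prime_three (by rw [he]; norm_num)
    have hl' : 3 ∣ D.q - 1 := h1.trans D.cardA
    have hQ : Nat.card (Additive D.S.Q) = 3 ^ 4 := by rw [D.cardQ, he]; norm_num
    refine ⟨fun hdvd => ?_, fun v hv => D.dl_stab v hv 5 (by norm_num)
      ((T.three4 4 le_rfl A (Additive D.S.Q) hs hQ D.ssQ).anti le_top)⟩
    obtain ⟨hq21, hn24, hf5⟩ := params hq2 hf hl' (by norm_num) D.hne (by rw [he]; simp) hb
    rw [he] at hb
    refine arith_nine _ hq21 _ hn24 _ hf5 hl' hq2 (he ▸ D.hne) h2 hf hb ?_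
    have h3 := hdvd.trans (card_dvd D Nat.prime_three hQ)
    rwa [D.cardV, he] at h3
  · obtain ⟨h1, h2⟩ := D.prime_dvd 2 Nat.prime_two (by rw [he]; norm_num)
    have hl' : 2 ∣ D.q - 1 := h1.trans D.cardA
    have hQ : Nat.card (Additive D.S.Q) = 2 ^ 8 := by rw [D.cardQ, he]; norm_num
    refine ⟨fun hdvd => ?_, fun v hv => triv_stab_two hs T D le_rfl hQ (by omega) hv⟩
    obtain ⟨hq21, hn24, hf5⟩ := params hq2 hf hl' le_rfl D.hne (by rw [he]; simp) hb
    rw [he] at hb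
    refine arith_sixteen _ hq21 _ hn24 _ hf5 hl' hq2 (he ▸ D.hne) h2 hf hb ?_
    have h3 := hdvd.trans (card_dvd D Nat.prime_two hQ)
    rwa [D.cardV, he] at h3

end CfsgLib.OrbitStab
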