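import Cfsg.Agent.Lib.FgsC.OrbitStab.TablesBounds

/-!
# Derived length six over two elements, and the tables
-/

set_option autoImplicit false

universe u

set_option synthInstance.maxSize 2048

namespace CfsgLib.OrbitStab

open MulAction CfsgLib.BaseTwo
open scoped commutatorElement

theorem e_six : ∀ f < 7, ∀ n < 7, 6 = f * n → ∀ e < 7, e ≤ n → 2 ≤ e →
    (∀ r ∈ smallPrimes, r ∣ e → r ∣ 2 ^ f - 1 ∧ r ∣ n) → e = 3 ∧ f = 2 := by decide +kernel

theorem small_prime : ∀ r ∈ smallPrimes, r.Prime := by decide +kernel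

theorem orbit_arith : ∀ j < 7, 9 ∣ 2 ^ j - 1 → j = 0 ∨ j = 6 := by decide +kernel

theorem impOk_seven : ImpOk.{u} 2 7 5 := impOk_list [] (by decide +kernel) (by simp)

theorem primOk_seven : PrimOk.{u} 2 7 5 :=
  primOk_list (by norm_num) [] (by decide +kernel) (by simp)

theorem primOk_eight : PrimOk.{u} 2 8 5 :=
  primOk_list (by norm_num) [] (by decide +kernel) (by simp)

/-- The only group reaching derived length six: a faithful primitive one in dimension six. -/
theorem six_prim {G : Type u} [Group G] [Finite G] {W : Type u} [AddCommGroup W] [Finite W]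
    [Nontrivial W] [DistribMulAction G W] [FaithfulSMul G W] (hD : StmtData.{u})
    (hs : Group.IsSolvable G) (D : Data G W) (hW : Nat.card W = 64) (Y : Subgroup G)
    (hY : ¬ Triv Y 5 W) :
    (∀ U : AddSubgroup W, (∀ y ∈ Y, ∀ m ∈ U, y • m ∈ U) → U = ⊥ ∨ U = ⊤) ∧
      (∀ g ∈ dser Y 5, ∀ h ∈ dser Y 5, ∀ m : W, g • h • m = h • g • m) ∧
      ∀ g ∈ dser Y 5, ∀ m : W, g ^ 3 • m = m := by
  classical
  have hne : D.e ≠ 1 := fun he =>
    hY (((triv_of_e_one D he).mono (by norm_num)).anti le_top)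
  obtain ⟨p, f, hp, hf, hq⟩ := (isPrimePow_nat_iff _).1 D.qpp
  have hV := D.cardV
  rw [hW, ← hq, ← pow_mul, show (64 : ℕ) = 2 ^ 6 by norm_num] at hV
  have hfn : 0 < f * D.n := Nat.mul_pos hf (D.he.trans_le D.hne)
  obtain rfl : p = 2 := (Nat.prime_dvd_prime_iff_eq hp Nat.prime_two).1
    (hp.dvd_of_dvd_pow (hV ▸ dvd_pow_self p hfn.ne'))
  have h6 : 6 = f * D.n := Nat.pow_right_injective le_rfl hV
  have hf7 : f < 7 := by
    have := Nat.le_mul_of_pos_right f (D.he.trans_le D.hne)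
    omega
  have hn7 : D.n < 7 := by
    have := Nat.le_mul_of_pos_left D.n hf
    omega
  have he' : D.e < 7 := lt_of_le_of_lt D.hne hn7
  have hps := small_prime
  obtain ⟨he, hf2⟩ := e_six f hf7 D.n hn7 h6 D.e he' D.hne (by have := D.he; omega) fun r hr hre =>
    ⟨by rw [hq]; exact (D.prime_dvd r (hps r hr) hre).1.trans D.cardA,
      (D.prime_dvd r (hps r hr) hre).2⟩
  have hA3 : Nat.card D.S.A = 3 := by
    have h1 := D.cardA
    rw [← hq, hf2] at h1
    have h2 := (D.prime_dvd 3 Nat.prime_three (he ▸ dvd_rfl)).1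
    have := Nat.le_of_dvd (by norm_num) h1
    have := Nat.le_of_dvd Nat.card_pos h2
    omega
  have hN27 : Nat.card D.S.N = 27 := by
    have h := (D.S.A.subgroupOf D.S.N).card_mul_index
    rw [Nat.card_congr (Subgroup.subgroupOfEquivOfLe D.S.hAN).toEquiv, hA3,
      show (D.S.A.subgroupOf D.S.N).index = D.S.A.relIndex D.S.N from rfl, D.sq, he] at h
    omega
  have hQ : Triv (⊤ : Subgroup G) 4 (Additive D.S.Q) :=
    bd_dim2 hD 3 Nat.prime_three G (Additive D.S.Q) hs (by rw [D.cardQ, he]) D.ssQ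
  have h1C : dser (⊤ : Subgroup G) 1 ≤ D.S.C := by
    rw [show dser (⊤ : Subgroup G) 1 = ⁅dser (⊤ : Subgroup G) 0, dser (⊤ : Subgroup G) 0⁆ from dser_succ' _ 0]
    exact Subgroup.commutator_le.2 fun a _ b _ => D.gal a b
  have h4N : dser (⊤ : Subgroup G) 4 ≤ D.S.N := fun x hx =>
    D.kerQ ▸ Subgroup.mem_inf.2 ⟨h1C (dser_antitone _ (by norm_num) hx), D.S.fixed_iff.1 (hQ x hx)⟩
  have h5A : dser Y 5 ≤ D.S.A := by
    rw [dser_succ']
    exact Subgroup.commutator_le.2 fun a ha b hb =>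
      D.S.hNN a (h4N (dser_mono' le_top 4 ha)) b (h4N (dser_mono' le_top 4 hb))
  set P := dser Y 4 with hPdef
  have hPN : P ≤ D.S.N := fun x hx => h4N (dser_mono' le_top 4 hx)
  have hPeq : P = D.S.N := by
    refine Subgroup.eq_of_le_of_card_ge hPN ?_
    obtain ⟨i, hi, hc⟩ := (Nat.dvd_prime_pow (m := 3) Nat.prime_three).1
      (show Nat.card P ∣ 3 ^ 3 from (Subgroup.card_dvd_of_le hPN).trans (by rw [hN27]; norm_num))
    have hnc : ¬ ∀ a ∈ P, ∀ b ∈ P, a * b = b * a := fun hc' => hY (by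
      intro g hg x
      rw [dser_succ', ← hPdef, (Subgroup.commutator_eq_bot_iff_le_centralizer).2 (fun a ha =>
        Subgroup.mem_centralizer_iff.2 fun b hb => hc' b hb a ha), Subgroup.mem_bot] at hg
      rw [hg, one_smul])
    haveI : Fact (Nat.Prime 3) := ⟨Nat.prime_three⟩
    interval_cases i
    · refine absurd (fun a ha b hb => ?_) hnc
      rw [Subgroup.eq_bot_of_card_eq P (by rw [hc]; norm_num), Subgroup.mem_bot] at ha hb
      rw [ha, hb]
    · haveI : IsCyclic P := isCyclic_of_prime_card (p := 3) (by rw [hc]; norm_num)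
      refine absurd (fun a ha b hb => ?_) hnc
      obtain ⟨z, hz⟩ := IsCyclic.exists_generator (α := P)
      obtain ⟨s, hs'⟩ := Subgroup.mem_zpowers_iff.1 (hz ⟨a, ha⟩)
      obtain ⟨t, ht⟩ := Subgroup.mem_zpowers_iff.1 (hz ⟨b, hb⟩)
      have h : (⟨a, ha⟩ : P) * ⟨b, hb⟩ = ⟨b, hb⟩ * ⟨a, ha⟩ := by
        rw [← hs', ← ht, ← zpow_add, ← zpow_add, add_comm]
      exact congrArg Subtype.val h
    · exact absurd (fun a ha b hb => congrArg Subtype.val
        ((IsPGroup.isMulCommutative_of_card_eq_prime_sq hc).is_comm.comm ⟨a, ha⟩ ⟨b, hb⟩)) hnc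
    · rw [hc, hN27]; norm_num
  refine ⟨fun U hU => ?_, fun g hg h hh m => ?_, fun g hg m => ?_⟩
  · -- the invariant subgroups
    have hNU : ∀ x ∈ D.S.N, ∀ v ∈ U, x • v ∈ U := fun x hx =>
      hU x (dser_le' Y 4 (hPeq.ge hx))
    let X0 := {v : U // (v : W) ≠ 0}
    letI : MulAction D.S.N X0 :=
      { smul := fun x v => ⟨⟨(x : G) • (v.1 : W), hNU x x.2 _ v.1.2⟩,
          fun h => v.2 ((smul_eq_zero_iff_eq (x : G)).1 h)⟩
        one_smul := fun v => Subtype.ext (Subtype.ext (one_smul G (v.1 : W)))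
        mul_smul := fun x y v => Subtype.ext (Subtype.ext (mul_smul (x : G) (y : G) (v.1 : W))) }
    haveI := Fintype.ofFinite D.S.N
    haveI := Fintype.ofFinite X0
    have horb : ∀ v : X0, 9 ∣ Nat.card (orbit D.S.N v) := by
      intro v
      haveI := Fintype.ofFinite (orbit D.S.N v)
      have h := card_orbit_mul_card_stabilizer_eq_card_group D.S.N v
      rw [← Nat.card_eq_fintype_card, ← Nat.card_eq_fintype_card, ← Nat.card_eq_fintype_card, hN27] at h
      have hst : Nat.card (stabilizer D.S.N v) ≤ 3 := by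
        refine le_trans ?_ ((D.isotropic (v.1 : W) v.2).2.trans he.le)
        refine Nat.card_le_card_of_injective
          (fun x => ⟨((x : D.S.N) : G), mem_stabilizer_iff.2 ?_, (x : D.S.N).2⟩) fun x y e => ?_
        · exact congrArg (fun w : X0 => (w.1 : W)) (mem_stabilizer_iff.1 x.2)
        · exact Subtype.ext (Subtype.ext (congrArg Subtype.val e :))
      have hpos : 0 < Nat.card (stabilizer D.S.N v) := Nat.card_pos
      have hdv : Nat.card (stabilizer D.S.N v) ∣ 27 := Dvd.intro_left _ h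
      interval_cases Nat.card (stabilizer D.S.N v)
      · exact ⟨3, by omega⟩
      · norm_num at hdv
      · exact ⟨1, by omega⟩
    have h9 : 9 ∣ Nat.card X0 := by
      haveI := Fintype.ofFinite (orbitRel.Quotient D.S.N X0)
      haveI : ∀ ω : orbitRel.Quotient D.S.N X0, Fintype (orbit D.S.N ω.out) := fun ω => Fintype.ofFinite _
      rw [Nat.card_congr (selfEquivSigmaOrbits D.S.N X0), Nat.card_sigma]
      exact Finset.dvd_sum fun ω _ => horb ω.out
    obtain ⟨j, hj, hcU⟩ := (Nat.dvd_prime_pow (m := 6) Nat.prime_two).1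
      (show Nat.card U ∣ 2 ^ 6 by
        have := AddSubgroup.card_addSubgroup_dvd_card U
        rw [hW] at this
        exact this)
    have hX0 : Nat.card X0 + 1 = Nat.card U := by
      rw [← Nat.card_congr (Equiv.optionSubtypeNe (0 : U)), Finite.card_option]
      congr 1
      exact Nat.card_congr (Equiv.subtypeEquivRight fun v => not_congr ZeroMemClass.coe_eq_zero)
    rw [hcU] at hX0
    rcases orbit_arith j (by omega) (by rw [← hX0, Nat.add_sub_cancel]; exact h9) with rfl | rfl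
    · exact Or.inl (AddSubgroup.eq_bot_of_card_eq U (by rw [hcU]; norm_num))
    · exact Or.inr (AddSubgroup.eq_top_of_card_eq U (by rw [hcU, hW]; norm_num))
  · rw [← mul_smul, ← mul_smul, D.S.comm_A (h5A hg) (D.S.A_le_C (h5A hh))]
  · have h3 : g ^ 3 = 1 := by
      have := pow_card_eq_one' (G := D.S.A) (x := ⟨g, h5A hg⟩)
      rw [hA3] at this
      exact congrArg Subtype.val this
    rw [h3, one_smul]

/-- An irreducible piece of dimension six. -/
theorem six_irred (hD : StmtData.{u}) {X : Type u} [Group X] [Finite X] {W : Type u} [AddCommGroup W]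
    [Finite W] [Nontrivial W] [DistribMulAction X W] (hs : Group.IsSolvable X) (hirr : Irred X W)
    (hW : Nat.card W = 64) (Y : Subgroup X) (hY : ¬ Triv Y 5 W) :
    (∀ U : AddSubgroup W, (∀ y ∈ Y, ∀ m ∈ U, y • m ∈ U) → U = ⊥ ∨ U = ⊤) ∧
      (∀ g ∈ dser Y 5, ∀ h ∈ dser Y 5, ∀ m : W, g • h • m = h • g • m) ∧
      ∀ g ∈ dser Y 5, ∀ m : W, g ^ 3 • m = m := by
  obtain ⟨G, iG, iF, iD, iS, f, hf, hfa, hGs⟩ := exists_image W hs
  have hY' : ¬ Triv (Y.map f) 5 W := fun h => hY (Triv.comap f hfa h)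
  have hGirr : Irred G W := fun U hU => hirr U fun a v hv => by rw [← hfa]; exact hU (f a) v hv
  by_cases hp : Prim G W
  · obtain ⟨D⟩ := hD G W hGs hp
    obtain ⟨h1, h2, h3⟩ := six_prim hD hGs D hW (Y.map f) hY'
    have hmem : ∀ g ∈ dser Y 5, f g ∈ dser (Y.map f) 5 := fun g hg => by
      rw [← dser_map']; exact Subgroup.mem_map_of_mem f hg
    refine ⟨fun U hU => h1 U ?_, fun g hg h hh m => ?_, fun g hg m => ?_⟩
    · rintro _ ⟨y, hy, rfl⟩ m hm
      rw [hfa]
      exact hU y hy m hm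
    · rw [← hfa g, ← hfa h m, ← hfa h, ← hfa g m]
      exact h2 _ (hmem g hg) _ (hmem h hh) m
    · rw [← hfa, map_pow]
      exact h3 _ (hmem g hg) m
  · refine absurd ((triv_imprim hGs hGirr Nat.prime_two (n := 6) (k := 5) (by rw [hW]; norm_num) hp
      (impOk_list [(2, 3), (3, 2)] (by decide +kernel) ?_)).anti le_top) hY'
    simp only [List.forall_mem_cons, List.not_mem_nil, false_implies, implies_true, and_true]
    exact ⟨⟨1, 2, permBd_two, bd_two_three hD, by norm_num⟩,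
      ⟨2, 2, permBd_three, bd_two_two hD, by norm_num⟩⟩

/-- The sixth table. -/
theorem bd_six (hD : StmtData.{u}) (X : Type u) [Group X] [Finite X] (M : Type u) [AddCommGroup M]
    [Finite M] [DistribMulAction X M] (n : ℕ) (hn : n ≤ 8) (hs : Group.IsSolvable X)
    (hcard : Nat.card M = 2 ^ n) (hss : Semisimple X M) (Y : Subgroup X) (hY : ¬ Triv Y 5 M) :
    ∃ W W' : AddSubgroup M, (∀ x : X, ∀ m ∈ W, x • m ∈ W) ∧ (∀ x : X, ∀ m ∈ W', x • m ∈ W') ∧
      W ⊓ W' = ⊥ ∧ W ⊔ W' = ⊤ ∧ Nat.card W = 64 ∧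
      (∀ U : AddSubgroup M, U ≤ W → (∀ y ∈ Y, ∀ m ∈ U, y • m ∈ U) → U = ⊥ ∨ U = W) ∧
      (∀ g ∈ dser Y 5, ∀ m ∈ W', g • m = m) ∧
      (∀ g ∈ dser Y 5, ∀ h ∈ dser Y 5, ∀ m : M, g • h • m = h • g • m) ∧
      ∀ g ∈ dser Y 5, ∃ k : ℕ, Odd k ∧ ∀ m : M, g ^ k • m = m := by
  classical
  obtain ⟨W, ⟨hW, hWne⟩, hWmin⟩ := Set.Finite.exists_minimal
    (s := {W : AddSubgroup M | (∀ x : X, ∀ m ∈ W, x • m ∈ W) ∧ ∃ g ∈ dser Y 5, ∃ m ∈ W, g • m ≠ m})
    (Set.toFinite _) ⟨⊤, fun _ _ _ => AddSubgroup.mem_top _, by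
      by_contra hno
      push Not at hno
      exact hY fun g hg m => hno g hg m (AddSubgroup.mem_top m)⟩
  -- `W` is irreducible
  letI := subModule W hW
  have hirr : Irred X W := by
    intro U hU
    by_contra hcon
    rw [not_or] at hcon
    obtain ⟨Q, hQ, hUQ, hUQ'⟩ := semisimple_subModule hss W hW U hU
    have hkey : ∀ P : AddSubgroup W, (∀ x : X, ∀ m ∈ P, x • m ∈ P) → P ≠ ⊤ →
        ∀ g ∈ dser Y 5, ∀ m ∈ P, g • m = m := by
      intro P hP hP1 g hg m hm
      by_contra hne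
      refine hP1 ?_
      have hPW : P.map W.subtype ≤ W := by rintro _ ⟨p, -, rfl⟩; exact p.2
      have hin : W ≤ P.map W.subtype := hWmin (y := P.map W.subtype)
        ⟨fun x _ ⟨p, hp, hpe⟩ => hpe ▸ ⟨x • p, hP x p hp, rfl⟩,
          g, hg, (m : M), ⟨m, hm, rfl⟩, fun e => hne (Subtype.ext e)⟩ hPW
      rw [AddSubgroup.eq_top_iff']
      intro w
      obtain ⟨p, hp, hpe⟩ := hin w.2
      rwa [← show p = w from Subtype.ext hpe]
    have hQ1 : Q ≠ ⊤ := fun h => hcon.1 (by rwa [h, inf_top_eq] at hUQ)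
    obtain ⟨g, hg, m, hm, hne⟩ := hWne
    refine hne ?_
    obtain ⟨a, ha, b, hb, hab⟩ := AddSubgroup.mem_sup.1
      (hUQ' ▸ AddSubgroup.mem_top (⟨m, hm⟩ : W) : (⟨m, hm⟩ : W) ∈ U ⊔ Q)
    have h3 : g • (⟨m, hm⟩ : W) = ⟨m, hm⟩ := by
      rw [← hab, smul_add, hkey U hU hcon.2 g hg a ha, hkey Q hQ hQ1 g hg b hb]
    exact congrArg Subtype.val h3
  have hYW : ¬ Triv Y 5 W := fun h => by
    obtain ⟨g, hg, m, hm, hne⟩ := hWne
    exact hne (congrArg Subtype.val (h g hg ⟨m, hm⟩))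
  haveI : Nontrivial W := by
    by_contra h
    rw [not_nontrivial_iff_subsingleton] at h
    exact hYW fun g _ v => Subsingleton.elim _ _
  obtain ⟨a, han, ha⟩ := (Nat.dvd_prime_pow Nat.prime_two).1 (hcard ▸ AddSubgroup.card_addSubgroup_dvd_card W)
  have ha6 : a = 6 := by
    by_contra hne
    refine hYW (Triv.anti ?_ le_top)
    rcases (show a ≤ 5 ∨ a = 7 ∨ a = 8 by omega) with h | h | h
    · exact (bd_two_le_five hD a h X W hs ha (Irred.semisimple hirr)).mono (by norm_num)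
    · rw [h] at ha
      exact triv_irred hD hs hirr Nat.prime_two ha impOk_seven primOk_seven
    · rw [h] at ha
      exact triv_irred hD hs hirr Nat.prime_two ha (impOk_two_eight hD) primOk_eight
  have hW64 : Nat.card W = 64 := by rw [ha, ha6]; norm_num
  obtain ⟨W', hW', hi, hsup⟩ := hss W hW
  obtain ⟨h1, h2, h3⟩ := six_irred hD hs hirr hW64 Y hYW
  have hdec : ∀ m : M, ∃ w ∈ W, ∃ w' ∈ W', w + w' = m := fun m =>
    AddSubgroup.mem_sup.1 (hsup ▸ AddSubgroup.mem_top m : m ∈ W ⊔ W')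
  -- the complement is small
  obtain ⟨b, -, hb⟩ := (Nat.dvd_prime_pow Nat.prime_two).1 (hcard ▸ AddSubgroup.card_addSubgroup_dvd_card W')
  have hb2 : b ≤ 2 := by
    let φ : W × W' → M := fun p => (p.1 : M) + p.2
    have hφ : Function.Injective φ := fun p q e => by
      have h4 : (p.1 : M) - q.1 ∈ W ⊓ W' := AddSubgroup.mem_inf.2 ⟨W.sub_mem p.1.2 q.1.2, by
        rw [show (p.1 : M) - q.1 = (q.2 : M) - p.2 from sub_eq_sub_iff_add_eq_add.2 (by
          rw [add_comm (q.2 : M)]; exact e)]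
        exact W'.sub_mem q.2.2 p.2.2⟩
      rw [hi, AddSubgroup.mem_bot, sub_eq_zero] at h4
      have h5 : (p.1 : M) + p.2 = q.1 + q.2 := e
      rw [h4] at h5
      exact Prod.ext (Subtype.ext h4) (Subtype.ext (add_left_cancel h5))
    have h4 := Nat.card_le_card_of_injective φ hφ
    rw [Nat.card_prod, hW64, hb, hcard] at h4
    by_contra h5
    have : 2 ^ 3 ≤ 2 ^ b := Nat.pow_le_pow_right (by norm_num) (by omega)
    have : 2 ^ n ≤ 2 ^ 8 := Nat.pow_le_pow_right (by norm_num) hn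
    omega
  have hfix' : ∀ g ∈ dser Y 5, ∀ m ∈ W', g • m = m := fun g hg m hm => by
    letI := subModule W' hW'
    exact congrArg Subtype.val ((((bd_two_le_five hD b (by omega)) X W' hs hb
      (semisimple_subModule hss W' hW')).mono (by norm_num)).anti le_top g hg ⟨m, hm⟩)
  refine ⟨W, W', hW, hW', hi, hsup, hW64, fun U hUW hU => ?_, hfix', fun g hg h hh m => ?_,
    fun g hg => ⟨3, by decide, fun m => ?_⟩⟩
  · rcases h1 (U.addSubgroupOf W) (fun y hy w hw => hU y hy _ hw) with h | h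
    · left
      rw [AddSubgroup.eq_bot_iff_forall]
      intro x hx
      have h4 : (⟨x, hUW hx⟩ : W) ∈ U.addSubgroupOf W := hx
      rw [h, AddSubgroup.mem_bot] at h4
      exact congrArg Subtype.val h4
    · right
      exact le_antisymm hUW fun x hx => (h.symm ▸ AddSubgroup.mem_top (⟨x, hx⟩ : W) : (⟨x, hx⟩ : W) ∈ U.addSubgroupOf W)
  · obtain ⟨w, hw, w', hw', rfl⟩ := hdec m
    rw [smul_add, smul_add, smul_add, smul_add, hfix' h hh w' hw', hfix' g hg w' hw', hfix' h hh w' hw']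
    exact congrArg (· + w') (congrArg Subtype.val (h2 g hg h hh ⟨w, hw⟩))
  · obtain ⟨w, hw, w', hw', rfl⟩ := hdec m
    have h4 : g ^ 3 ∈ dser Y 5 := Subgroup.pow_mem _ hg 3
    rw [smul_add, hfix' _ h4 w' hw']
    exact congrArg (· + w') (congrArg Subtype.val (h3 g hg ⟨w, hw⟩))

/-- G5: the tables, given the data of primitive groups. -/
theorem tables (hD : StmtData.{u}) : StmtTables.{u} where
  one := bd_one
  dim2 := bd_dim2 hD
  dim4 := bd_dim4 hD
  two2 := bd_two_two hD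
  two4 := bd_two_four hD
  two8 := bd_two_le_eight hD
  two14 := bd_two_le_fourteen hD
  three4 := bd_three_le_four hD
  three6 := bd_three_le_six hD
  six := bd_six hD

end CfsgLib.OrbitStab
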