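import Cfsg.Agent.Lib.FgsC.OrbitStab.Data
import Cfsg.Agent.Lib.FgsC.OrbitStab.Tables
import Cfsg.Agent.Lib.FgsC.OrbitStab.Blocks
import Cfsg.Agent.Lib.FgsC.OrbitStab.SmallE
import Cfsg.Agent.Lib.FgsC.OrbitStab.LargeE
import Cfsg.Agent.Lib.FgsC.OrbitStab.OddGlue
import Cfsg.Agent.Lib.FgsC.OrbitStab.OddPrim

/-!
# S4070: assembly of the pieces, and the passage to the faithful linear group
-/

set_option autoImplicit false

universe u v w

namespace CfsgLib.OrbitStab

open CfsgLib.BaseTwo MulAction

/-- G3: the primitive pieces from the data, the tables and the two counting cases. -/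
theorem stmtPiece : StmtPiece.{u} := by
  intro A _ _ V _ _ _ _ _ hs hp
  obtain ⟨D⟩ := stmtData A V hs hp
  have hT : Tables.{u} := tables stmtData
  by_cases h : SmallE D.e D.q D.n D.S.C.index
  · exact smallE A V hs hT D h
  · exact Or.inr (LargeE.stmtLargeE A V hs hT D h)

/-- The general half from the decomposition and the sets for primitive permutation groups. -/
theorem stmtGeneral (hglue : StmtGlue.{u}) (hps : StmtPrimSubsets.{u}) : StmtGeneral.{u} :=
  hglue (Blocks.stmtBlocks hps) stmtPiece

/-- The odd half. -/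
theorem stmtOdd : StmtOdd.{u} := stmtOddGlue stmtOddPrim

section Faithful

variable {G : Type v} [Group G] {V : Type w} [AddCommGroup V] [DistribMulAction G V]

/-- The action as a homomorphism to the units of the endomorphism ring. -/
def actHom : G →* (AddMonoid.End V)ˣ := (DistribMulAction.toAddMonoidEnd G V).toHomUnits

theorem semisimple_range (hss : Semisimple G V) : Semisimple (actHom (G := G) (V := V)).range V := fun U hU => by
  obtain ⟨W, hW, h1, h2⟩ := hss U fun a x hx => hU ⟨actHom a, a, rfl⟩ x hx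
  refine ⟨W, ?_, h1, h2⟩
  rintro ⟨_, a, rfl⟩ x hx
  exact hW a x hx

/-- A completely reducible module over the prime field is semisimple. -/
theorem semisimple_of_submodule {p : ℕ} [Module (ZMod p) V]
    (hcr : ∀ W : Submodule (ZMod p) V, (∀ (g : G) (w : V), w ∈ W → g • w ∈ W) →
      ∃ W' : Submodule (ZMod p) V, (∀ (g : G) (w : V), w ∈ W' → g • w ∈ W') ∧ IsCompl W W') :
    Semisimple G V := fun U hU => by
  obtain ⟨W', hW', hc⟩ := hcr (AddSubgroup.toZModSubmodule p U) fun g x hx => hU g x hx
  have hc' := hc.map (AddSubgroup.toZModSubmodule p).symm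
  rw [OrderIso.symm_apply_apply] at hc'
  exact ⟨W'.toAddSubgroup, fun g x hx => hW' g x hx, hc'.inf_eq_bot, hc'.sup_eq_top⟩

/-- A faithful soluble completely reducible group has a stabiliser of derived length at most nine. -/
theorem exists_dl_nine [Finite G] [Finite V] [FaithfulSMul G V] [Group.IsSolvable G]
    (hgen : StmtGeneral.{w}) (hss : Semisimple G V) :
    ∃ x : V, derivedSeries (stabilizer G x) 9 = ⊥ := by
  haveI : Finite (AddMonoid.End V) :=
    Finite.of_injective (fun g : AddMonoid.End V => (g : V → V)) DFunLike.coe_injective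
  let φ : G →* (AddMonoid.End V)ˣ := actHom
  have hsol : Group.IsSolvable φ.range := Group.isSolvable_of_surjective φ.rangeRestrict_surjective
  obtain ⟨x, hx⟩ := hgen φ.range V hsol (semisimple_range hss)
  refine ⟨x, (Subgroup.eq_bot_iff_forall _).2 fun g hg => ?_⟩
  let ψ : stabilizer G x →* stabilizer φ.range x :=
    { toFun := fun a => ⟨φ.rangeRestrict a, a.2⟩
      map_one' := Subtype.ext (map_one φ.rangeRestrict)
      map_mul' := fun a b => Subtype.ext (map_mul φ.rangeRestrict _ _) }
  have h1 : ψ g ∈ derivedSeries (stabilizer φ.range x) 9 :=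
    map_derivedSeries_le_derivedSeries ψ 9 (Subgroup.mem_map_of_mem ψ hg)
  refine Subtype.ext (FaithfulSMul.eq_of_smul_eq_smul (α := V) fun y => ?_)
  rw [OneMemClass.coe_one, one_smul]
  exact hx _ (Subgroup.mem_map_of_mem _ h1) y

/-- A faithful group of odd order has an abelian stabiliser. -/
theorem exists_abelian [Finite G] [Finite V] [FaithfulSMul G V] (hG : Odd (Nat.card G)) (hV : Odd (Nat.card V))
    (hss : Semisimple G V) : ∃ x : V, IsMulCommutative (stabilizer G x) := by
  haveI : Finite (AddMonoid.End V) :=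
    Finite.of_injective (fun g : AddMonoid.End V => (g : V → V)) DFunLike.coe_injective
  let φ : G →* (AddMonoid.End V)ˣ := actHom
  obtain ⟨x, hx⟩ := stmtOdd.{w} φ.range V (hG.of_dvd_nat (Subgroup.card_range_dvd φ)) hV (semisimple_range hss)
  refine ⟨x, ⟨⟨fun a b => Subtype.ext (FaithfulSMul.eq_of_smul_eq_smul (α := V) fun y => ?_)⟩⟩⟩
  rw [Subgroup.coe_mul, Subgroup.coe_mul, mul_smul, mul_smul]
  exact hx (φ.rangeRestrict a) a.2 (φ.rangeRestrict b) b.2 y

/-- A module over a field of odd prime order has odd order. -/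
theorem odd_card_of_zmod [Finite V] {p : ℕ} [Fact p.Prime] [Module (ZMod p) V] (hp : p ≠ 2) :
    Odd (Nat.card V) := by
  rw [← Nat.not_even_iff_odd, even_iff_two_dvd]
  intro h
  haveI : Fact (Nat.Prime 2) := ⟨Nat.prime_two⟩
  haveI := Fintype.ofFinite V
  obtain ⟨x, hx⟩ := exists_prime_addOrderOf_dvd_card 2 (Nat.card_eq_fintype_card (α := V) ▸ h)
  have h0 : p • x = 0 := by rw [← Nat.cast_smul_eq_nsmul (ZMod p), ZMod.natCast_self, zero_smul]
  have hd := addOrderOf_dvd_of_nsmul_eq_zero h0
  rw [hx, Nat.dvd_prime Fact.out] at hd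
  omega

end Faithful

end CfsgLib.OrbitStab
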