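import Cfsg.Agent.Lib.FgsC.OrbitStab.PrimSubsets.Reduce
import Cfsg.Agent.Lib.FgsC.OrbitStab.PrimSubsets.Cert
import Cfsg.Agent.Lib.FgsC.OrbitStab.PrimSubsets.Singer
import Cfsg.Agent.Lib.FgsC.OrbitStab.PrimSubsets.SixteenCount
import Cfsg.Agent.Lib.FgsC.OrbitStab.PrimSubsets.SixtyFour

/-!
# Five inequivalent subsets for a primitive soluble permutation group
-/

set_option autoImplicit false
set_option linter.unusedSectionVars false
set_option linter.style.haveILetI false

universe u

namespace CfsgLib.OrbitStab.PrimSets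

open scoped commutatorElement

/-- the case of prime degree -/
theorem good_prime {r : ℕ} [hr : Fact r.Prime] (h5 : 5 ≤ r) {P : Subgroup (Equiv.Perm (V r 1))}
    (h : Aff r 1 P) : Good P := by
  classical
  have hV : Nat.card (V r 1) = r := by simp [Nat.card_eq_fintype_card, ZMod.card]
  have hT : ∀ n : Fin 5, ∃ S : Set (V r 1), S.ncard = n.1 := fun n => by
    obtain ⟨S, -, hS⟩ := Set.exists_subset_card_eq (s := (Set.univ : Set (V r 1))) (n := n.1)
      (by rw [Set.ncard_univ, hV]; omega)
    exact ⟨S, hS⟩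
  choose T hT using hT
  refine good_of_sizes P T (fun i j hij => Fin.ext (by simpa [hT] using hij)) fun i => ?_
  intro a ha b hb c hc d hd _ _ _ _
  -- the linear parts commute
  have hlin : ∀ (p : stab0 P) (x : V r 1), p.1 x = x 0 • p.1 (unit 0) := by
    intro p x
    have h1 := h.eq_app p.2.1 x
    rw [h1]
    simp [app, p.2.2]
  have hcomm : ∀ p q : stab0 P, Commute p q := fun p q => stab0_ext fun x => by
    show p.1 (q.1 x) = q.1 (p.1 x)
    rw [hlin p (q.1 x), hlin q (p.1 x), hlin q x, hlin p x]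
    funext j
    obtain rfl : j = 0 := Subsingleton.elim _ _
    simp only [Pi.smul_apply, smul_eq_mul]
    ring
  have htr : ∀ p q : P, ∀ x, (⁅p, q⁆ : P).1 x = x + (⁅p, q⁆ : P).1 0 := fun p q => eq_translation h (by
    rw [map_commutatorElement]
    exact commutatorElement_eq_one_iff_commute.2 (hcomm _ _))
  rw [commutatorElement_eq_one_iff_commute]
  set p := (⁅(⟨a, ha⟩ : P), (⟨b, hb⟩ : P)⁆ : P) with hp
  set q := (⁅(⟨c, hc⟩ : P), (⟨d, hd⟩ : P)⁆ : P) with hq
  have e1 : p.1 = ⁅a, b⁆ := by simp [hp, commutatorElement_def]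
  have e2 : q.1 = ⁅c, d⁆ := by simp [hq, commutatorElement_def]
  rw [← e1, ← e2]
  refine Equiv.ext fun x => ?_
  show p.1 (q.1 x) = q.1 (p.1 x)
  rw [htr (⟨a, ha⟩) (⟨b, hb⟩) (q.1 x), htr (⟨c, hc⟩) (⟨d, hd⟩) (p.1 x), htr (⟨c, hc⟩) (⟨d, hd⟩) x,
    htr (⟨a, ha⟩) (⟨b, hb⟩) x]
  abel

theorem good_all (r k : ℕ) (hr : Fact r.Prime) (h5 : 5 ≤ r ^ k)
    (P : Subgroup (Equiv.Perm (V r k))) (h : Aff r k P) : Good P := by
  have hr2 := hr.out.two_le
  have hk0 : k ≠ 0 := by rintro rfl; norm_num at h5
  by_cases hk1 : k = 1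
  · subst hk1
    exact good_prime (by simpa using h5) h
  by_cases h2 : r = 2
  · subst h2
    by_cases hbig : 7 ≤ k
    · exact good_large h (fun _ => le_trans (by norm_num) (Nat.pow_le_pow_right (by norm_num) hbig))
        fun hne => absurd rfl hne
    obtain rfl | rfl | rfl | rfl | rfl : k = 2 ∨ k = 3 ∨ k = 4 ∨ k = 5 ∨ k = 6 := by omega
    · norm_num at h5
    · exact good_mersenne h le_rfl (by norm_num)
    · exact good_sixteen h
    · exact good_mersenne h (by norm_num) (by norm_num)
    · exact good_sixtyfour h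
  have hr3 : 3 ≤ r := by omega
  by_cases hbig : 81 ≤ r ^ k
  · exact good_large h (fun e => absurd e h2) fun _ => hbig
  have hk3 : k ≤ 3 := by
    by_contra hlt
    apply hbig
    calc 81 = 3 ^ 4 := by norm_num
      _ ≤ r ^ 4 := Nat.pow_le_pow_left hr3 4
      _ ≤ r ^ k := Nat.pow_le_pow_right hr.out.pos (by omega)
  obtain rfl | rfl : k = 2 ∨ k = 3 := by omega
  · have hr8 : r < 9 := by
      by_contra hlt
      exact hbig (le_trans (by norm_num) (Nat.pow_le_pow_left (show 9 ≤ r by omega) 2))
    obtain rfl | rfl | rfl : r = 3 ∨ r = 5 ∨ r = 7 := by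
      have := hr.out
      interval_cases r <;> first | omega | norm_num at this
    exacts [good_plane3 h, good_plane5 h, good_plane7 h]
  · have hr4 : r < 5 := by
      by_contra hlt
      exact hbig (le_trans (by norm_num) (Nat.pow_le_pow_left (show 5 ≤ r by omega) 3))
    obtain rfl : r = 3 := by
      have := hr.out
      interval_cases r <;> first | omega | norm_num at this
    exact good_space3 h

end CfsgLib.OrbitStab.PrimSets

namespace CfsgLib.OrbitStab

/-- G2b: five inequivalent sets for a primitive soluble permutation group. -/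
theorem primSubsets : StmtPrimSubsets.{u} :=
  PrimSets.primSubsets_of_affine PrimSets.good_all

end CfsgLib.OrbitStab
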