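import Cfsg.Agent.Lib.FgsC.OrbitStab.TablesStep

/-!
# The tables of derived lengths in small dimensions
-/

set_option autoImplicit false

universe u

set_option synthInstance.maxSize 2048

namespace CfsgLib.OrbitStab

open CfsgLib.BaseTwo

theorem Bd.mono {l n k j : ℕ} (h : Bd.{u} l n k) (hkj : k ≤ j) : Bd.{u} l n j :=
  fun X _ _ M _ _ _ hs hc hss => (h X M hs hc hss).mono hkj

theorem bd_one (l : ℕ) (hl : l.Prime) : Bd.{u} l 1 1 := by
  intro X _ _ M _ _ _ _ hcard _
  rw [pow_one] at hcard
  haveI : Fact l.Prime := ⟨hl⟩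
  haveI : IsAddCyclic M := isAddCyclic_of_prime_card hcard
  obtain ⟨m, hm⟩ := IsAddCyclic.exists_zsmul_surjective (G := M)
  have key : ∀ a : X, ∃ j : ℤ, ∀ i : ℤ, a • (i • m) = (i * j) • m := fun a => by
    obtain ⟨j, hj⟩ := hm (a • m)
    exact ⟨j, fun i => by rw [mul_zsmul, smul_comm a i m]; exact congrArg (i • ·) hj.symm⟩
  refine triv_one_of_comm fun a _ b _ x => ?_
  obtain ⟨i, rfl⟩ := hm x
  obtain ⟨j, hj⟩ := key a
  obtain ⟨j', hj'⟩ := key b
  show a • b • i • m = b • a • i • m
  rw [hj', hj, hj, hj', mul_right_comm]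

theorem bd_two_one : Bd.{u} 2 1 0 := by
  intro X _ _ M _ _ _ _ hcard _ g _ x
  rw [pow_one] at hcard
  obtain ⟨y, hy, hu⟩ := (Nat.card_eq_two_iff' (0 : M)).1 hcard
  by_cases hx : x = 0
  · rw [hx, smul_zero]
  · rw [hu x hx, hu (g • y) fun h => hy ((smul_eq_zero_iff_eq g).1 h)]

theorem bd_zero (l k : ℕ) : Bd.{u} l 0 k := by
  intro X _ _ M _ _ _ _ hcard _ g _ v
  rw [pow_zero] at hcard
  haveI : Subsingleton M := (Nat.card_eq_one_iff_unique.1 hcard).1
  exact Subsingleton.elim _ _

/-- the small primes -/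
abbrev smallPrimes : List ℕ := [2, 3, 5, 7, 11, 13]

/-- the imprimitive decompositions, enumerated -/
theorem impOk_list {l n k : ℕ} (L : List (ℕ × ℕ))
    (H : ∀ m < n + 1, ∀ d < n + 1, 2 ≤ m → n = m * d → ¬ (l = 2 ∧ d = 1) → (m, d) ∈ L)
    (hL : ∀ x ∈ L, ∃ s t, PermBd.{u} x.1 s ∧ Bd.{u} l x.2 t ∧ s + t ≤ k) : ImpOk.{u} l n k :=
  fun m d hm hd h hne => hL (m, d) (H m (Nat.lt_succ_of_le (h ▸ Nat.le_mul_of_pos_right m hd)) d
    (Nat.lt_succ_of_le (h ▸ Nat.le_mul_of_pos_left d (by omega))) hm h hne)

/-- the possible values of `e`, enumerated -/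
theorem primOk_list {l n k : ℕ} (hk : 2 ≤ k) (E : List ℕ)
    (H : ∀ f < n + 1, 0 < f → n = f * (n / f) → ∀ e < n / f + 1, 2 ≤ e →
      (∀ r ∈ smallPrimes, r ∣ e → r ∣ l ^ f - 1 ∧ r ∣ n / f) → e ∈ E)
    (hE : ∀ e ∈ E, ∃ r j i, r.Prime ∧ e = r ^ j ∧ Bd.{u} r (2 * j) i ∧ 1 ≤ i ∧ i + 2 ≤ k) :
    PrimOk.{u} l n k := by
  intro f n' e h hf he hle hr
  obtain rfl : n' = n / f := by rw [h, Nat.mul_div_cancel_left _ hf]
  rcases Nat.lt_or_ge e 2 with h1 | h1
  · exact Or.inl ⟨by omega, hk⟩
  refine Or.inr (hE e (H f (Nat.lt_succ_of_le (h ▸ Nat.le_mul_of_pos_right f (by omega))) hf h e (Nat.lt_succ_of_le hle) h1 fun r hr' => hr r ?_))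
  revert r
  decide

/-- the same when nothing is known about the field -/
theorem primOk_any {l n k : ℕ} (hk : 2 ≤ k) (E : List ℕ)
    (H : ∀ f < n + 1, 0 < f → n = f * (n / f) → ∀ e < n / f + 1, 2 ≤ e →
      (∀ r ∈ smallPrimes, r ∣ e → r ∣ n / f) → e ∈ E)
    (hE : ∀ e ∈ E, ∃ r j i, r.Prime ∧ e = r ^ j ∧ Bd.{u} r (2 * j) i ∧ 1 ≤ i ∧ i + 2 ≤ k) :
    PrimOk.{u} l n k :=
  primOk_list hk E (fun f hf hf0 hn e he he2 hr => H f hf hf0 hn e he he2 fun r hr' hre => (hr r hr' hre).2) hE

variable (hD : StmtData.{u})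
include hD

theorem bd_two_two : Bd.{u} 2 2 2 :=
  bd_step hD Nat.prime_two
    (fun a h1 h2 => by obtain rfl : a = 1 := (by omega); exact bd_two_one.mono (by norm_num))
    (impOk_list [] (by decide +kernel) (by simp))
    (primOk_list le_rfl [] (by decide +kernel) (by simp))

theorem bd_dim2 (l : ℕ) (hl : l.Prime) : Bd.{u} l 2 4 :=
  bd_step hD hl
    (fun a h1 h2 => by obtain rfl : a = 1 := (by omega); exact (bd_one l hl).mono (by norm_num))
    (impOk_list [(2, 1)] (fun m hm d hd h2 h _ => by interval_cases m; simp; omega)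
      (by simp only [List.forall_mem_singleton]; exact ⟨1, 1, permBd_two, bd_one l hl, by norm_num⟩))
    (primOk_any (by norm_num) [2] (by decide +kernel) (by
      simp only [List.forall_mem_singleton]
      exact ⟨2, 1, 2, Nat.prime_two, by norm_num, bd_two_two hD, by norm_num, le_rfl⟩))

theorem bd_dim3 (l : ℕ) (hl : l.Prime) : Bd.{u} l 3 6 :=
  bd_step hD hl
    (fun a h1 h2 => by
      interval_cases a
      · exact (bd_one l hl).mono (by norm_num)
      · exact (bd_dim2 hD l hl).mono (by norm_num))
    (impOk_list [(3, 1)] (fun m hm d hd h2 h _ => by interval_cases m <;> simp <;> omega)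
      (by simp only [List.forall_mem_singleton]; exact ⟨2, 1, permBd_three, bd_one l hl, by norm_num⟩))
    (primOk_any (by norm_num) [3] (by decide +kernel) (by
      simp only [List.forall_mem_singleton]
      exact ⟨3, 1, 4, Nat.prime_three, by norm_num, bd_dim2 hD 3 Nat.prime_three, by norm_num, le_rfl⟩))

theorem bd_two_three : Bd.{u} 2 3 2 :=
  bd_step hD Nat.prime_two
    (fun a h1 h2 => by
      interval_cases a
      · exact bd_two_one.mono (by norm_num)
      · exact bd_two_two hD)
    (impOk_list [] (by decide +kernel) (by simp))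
    (primOk_list le_rfl [] (by decide +kernel) (by simp))

theorem bd_two_four : Bd.{u} 2 4 3 :=
  bd_step hD Nat.prime_two
    (fun a h1 h2 => by
      interval_cases a
      · exact bd_two_one.mono (by norm_num)
      · exact (bd_two_two hD).mono (by norm_num)
      · exact (bd_two_three hD).mono (by norm_num))
    (impOk_list [(2, 2)] (by decide +kernel)
      (by simp only [List.forall_mem_singleton]; exact ⟨1, 2, permBd_two, bd_two_two hD, le_rfl⟩))
    (primOk_list (by norm_num) [] (by decide +kernel) (by simp))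

theorem bd_dim4 (l : ℕ) (hl : l.Prime) : Bd.{u} l 4 6 :=
  bd_step hD hl
    (fun a h1 h2 => by
      interval_cases a
      · exact (bd_one l hl).mono (by norm_num)
      · exact (bd_dim2 hD l hl).mono (by norm_num)
      · exact bd_dim3 hD l hl)
    (impOk_list [(2, 2), (4, 1)] (fun m hm d hd h2 h _ => by interval_cases m <;> simp <;> omega)
      (by
        simp only [List.forall_mem_cons, List.not_mem_nil, false_implies, implies_true, and_true]
        exact ⟨⟨1, 4, permBd_two, bd_dim2 hD l hl, by norm_num⟩,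
          ⟨3, 1, permBd_four, bd_one l hl, by norm_num⟩⟩))
    (primOk_any (by norm_num) [2, 4] (by decide +kernel) (by
      simp only [List.forall_mem_cons, List.not_mem_nil, false_implies, implies_true, and_true]
      exact ⟨⟨2, 1, 2, Nat.prime_two, by norm_num, bd_two_two hD, by norm_num, by norm_num⟩,
        ⟨2, 2, 3, Nat.prime_two, by norm_num, bd_two_four hD, by norm_num, by norm_num⟩⟩))

theorem bd_three_three : Bd.{u} 3 3 4 :=
  bd_step hD Nat.prime_three
    (fun a h1 h2 => by
      interval_cases a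
      · exact (bd_one 3 Nat.prime_three).mono (by norm_num)
      · exact bd_dim2 hD 3 Nat.prime_three)
    (impOk_list [(3, 1)] (by decide +kernel)
      (by simp only [List.forall_mem_singleton]; exact ⟨2, 1, permBd_three, bd_one 3 Nat.prime_three, by norm_num⟩))
    (primOk_list (by norm_num) [] (by decide +kernel) (by simp))

theorem bd_three_four : Bd.{u} 3 4 5 :=
  bd_step hD Nat.prime_three
    (fun a h1 h2 => by
      interval_cases a
      · exact (bd_one 3 Nat.prime_three).mono (by norm_num)
      · exact (bd_dim2 hD 3 Nat.prime_three).mono (by norm_num)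
      · exact (bd_three_three hD).mono (by norm_num))
    (impOk_list [(2, 2), (4, 1)] (by decide +kernel) (by
      simp only [List.forall_mem_cons, List.not_mem_nil, false_implies, implies_true, and_true]
      exact ⟨⟨1, 4, permBd_two, bd_dim2 hD 3 Nat.prime_three, le_rfl⟩,
        ⟨3, 1, permBd_four, bd_one 3 Nat.prime_three, by norm_num⟩⟩))
    (primOk_list (by norm_num) [2, 4] (by decide +kernel) (by
      simp only [List.forall_mem_cons, List.not_mem_nil, false_implies, implies_true, and_true]
      exact ⟨⟨2, 1, 2, Nat.prime_two, by norm_num, bd_two_two hD, by norm_num, by norm_num⟩,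
        ⟨2, 2, 3, Nat.prime_two, by norm_num, bd_two_four hD, by norm_num, le_rfl⟩⟩))

theorem bd_three_le_four : ∀ n ≤ 4, Bd.{u} 3 n 5 := fun n hn => by
  interval_cases n
  · exact bd_zero 3 5
  · exact (bd_one 3 Nat.prime_three).mono (by norm_num)
  · exact (bd_dim2 hD 3 Nat.prime_three).mono (by norm_num)
  · exact (bd_three_three hD).mono (by norm_num)
  · exact bd_three_four hD

theorem bd_three_five : Bd.{u} 3 5 5 :=
  bd_step hD Nat.prime_three (fun a _ h2 => bd_three_le_four hD a (by omega))
    (impOk_list [(5, 1)] (by decide +kernel) (by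
      simp only [List.forall_mem_singleton]
      exact ⟨2, 1, permBd_prime (by norm_num), bd_one 3 Nat.prime_three, by norm_num⟩))
    (primOk_list (by norm_num) [] (by decide +kernel) (by simp))

theorem bd_three_le_six : ∀ n ≤ 6, Bd.{u} 3 n 6 := fun n hn => by
  rcases (show n ≤ 4 ∨ n = 5 ∨ n = 6 by omega) with h | rfl | rfl
  · exact (bd_three_le_four hD n h).mono (by norm_num)
  · exact (bd_three_five hD).mono (by norm_num)
  refine bd_step hD Nat.prime_three (fun a _ h2 => ?_)
    (impOk_list [(2, 3), (3, 2), (6, 1)] (by decide +kernel) (by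
      simp only [List.forall_mem_cons, List.not_mem_nil, false_implies, implies_true, and_true]
      exact ⟨⟨1, 4, permBd_two, bd_three_three hD, by norm_num⟩,
        ⟨2, 4, permBd_three, bd_dim2 hD 3 Nat.prime_three, le_rfl⟩,
        ⟨4, 1, permBd_six, bd_one 3 Nat.prime_three, by norm_num⟩⟩))
    (primOk_list (by norm_num) [2, 4] (by decide +kernel) (by
      simp only [List.forall_mem_cons, List.not_mem_nil, false_implies, implies_true, and_true]
      exact ⟨⟨2, 1, 2, Nat.prime_two, by norm_num, bd_two_two hD, by norm_num, by norm_num⟩,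
        ⟨2, 2, 3, Nat.prime_two, by norm_num, bd_two_four hD, by norm_num, by norm_num⟩⟩))
  rcases (show a ≤ 4 ∨ a = 5 by omega) with h | rfl
  · exact (bd_three_le_four hD a h).mono (by norm_num)
  · exact (bd_three_five hD).mono (by norm_num)

theorem bd_two_five : Bd.{u} 2 5 3 :=
  bd_step hD Nat.prime_two
    (fun a h1 h2 => by
      interval_cases a
      · exact bd_two_one.mono (by norm_num)
      · exact (bd_two_two hD).mono (by norm_num)
      · exact (bd_two_three hD).mono (by norm_num)
      · exact bd_two_four hD)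
    (impOk_list [] (by decide +kernel) (by simp))
    (primOk_list (by norm_num) [] (by decide +kernel) (by simp))

theorem bd_two_le_five : ∀ n ≤ 5, Bd.{u} 2 n 3 := fun n hn => by
  interval_cases n
  · exact bd_zero 2 3
  · exact bd_two_one.mono (by norm_num)
  · exact (bd_two_two hD).mono (by norm_num)
  · exact (bd_two_three hD).mono (by norm_num)
  · exact bd_two_four hD
  · exact bd_two_five hD

/-- six dimensions: the primitive case gives six, everything else five -/
theorem bd_two_six : Bd.{u} 2 6 6 :=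
  bd_step hD Nat.prime_two (fun a _ h2 => (bd_two_le_five hD a (by omega)).mono (by norm_num))
    (impOk_list [(2, 3), (3, 2)] (by decide +kernel) (by
      simp only [List.forall_mem_cons, List.not_mem_nil, false_implies, implies_true, and_true]
      exact ⟨⟨1, 2, permBd_two, bd_two_three hD, by norm_num⟩,
        ⟨2, 2, permBd_three, bd_two_two hD, by norm_num⟩⟩))
    (primOk_list (by norm_num) [3] (by decide +kernel) (by
      simp only [List.forall_mem_singleton]
      exact ⟨3, 1, 4, Nat.prime_three, by norm_num, bd_dim2 hD 3 Nat.prime_three, by norm_num, le_rfl⟩))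

theorem bd_two_seven : Bd.{u} 2 7 6 :=
  bd_step hD Nat.prime_two
    (fun a _ h2 => by
      rcases (show a ≤ 5 ∨ a = 6 by omega) with h | rfl
      · exact (bd_two_le_five hD a h).mono (by norm_num)
      · exact bd_two_six hD)
    (impOk_list [] (by decide +kernel) (by simp))
    (primOk_list (by norm_num) [] (by decide +kernel) (by simp))

theorem impOk_two_eight : ImpOk.{u} 2 8 5 :=
  impOk_list [(2, 4), (4, 2)] (by decide +kernel) (by
    simp only [List.forall_mem_cons, List.not_mem_nil, false_implies, implies_true, and_true]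
    exact ⟨⟨1, 3, permBd_two, bd_two_four hD, by norm_num⟩,
      ⟨3, 2, permBd_four, bd_two_two hD, le_rfl⟩⟩)

theorem bd_two_le_eight : ∀ n ≤ 8, Bd.{u} 2 n 6 := fun n hn => by
  rcases (show n ≤ 5 ∨ n = 6 ∨ n = 7 ∨ n = 8 by omega) with h | rfl | rfl | rfl
  · exact (bd_two_le_five hD n h).mono (by norm_num)
  · exact bd_two_six hD
  · exact bd_two_seven hD
  refine bd_step hD Nat.prime_two (fun a _ h2 => ?_) ?_
    (primOk_list (by norm_num) [] (by decide +kernel) (by simp))
  · rcases (show a ≤ 5 ∨ a = 6 ∨ a = 7 by omega) with h | rfl | rfl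
    · exact (bd_two_le_five hD a h).mono (by norm_num)
    · exact bd_two_six hD
    · exact bd_two_seven hD
  · intro m d h1 h2 h3 h4
    obtain ⟨s, t, hs, ht, hst⟩ := impOk_two_eight hD m d h1 h2 h3 h4
    exact ⟨s, t, hs, ht, hst.trans (by norm_num)⟩

theorem bd_two_le_fourteen : ∀ n ≤ 14, Bd.{u} 2 n 7 := by
  intro n
  induction n using Nat.strong_induction_on with
  | _ n ih =>
    intro hn
    rcases Nat.lt_or_ge n 9 with h | h
    · exact (bd_two_le_eight hD n (by omega)).mono (by norm_num)
    have b : ∀ d ≤ 7, Bd.{u} 2 d 6 := fun d hd => bd_two_le_eight hD d (by omega)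
    refine bd_step hD Nat.prime_two (fun a _ h2 => ih a h2 (by omega))
      (impOk_list [(3, 3), (2, 5), (5, 2), (2, 6), (3, 4), (4, 3), (6, 2), (2, 7), (7, 2)]
        (by interval_cases n <;> decide +kernel) (by
        simp only [List.forall_mem_cons, List.not_mem_nil, false_implies, implies_true, and_true]
        exact ⟨⟨2, 2, permBd_three, bd_two_three hD, by norm_num⟩,
          ⟨1, 3, permBd_two, bd_two_five hD, by norm_num⟩,
          ⟨2, 2, permBd_prime (by norm_num), bd_two_two hD, by norm_num⟩,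
          ⟨1, 6, permBd_two, bd_two_six hD, le_rfl⟩,
          ⟨2, 3, permBd_three, bd_two_four hD, by norm_num⟩,
          ⟨3, 2, permBd_four, bd_two_three hD, by norm_num⟩,
          ⟨4, 2, permBd_six, bd_two_two hD, by norm_num⟩,
          ⟨1, 6, permBd_two, b 7 le_rfl, le_rfl⟩,
          ⟨2, 2, permBd_prime (by norm_num), bd_two_two hD, by norm_num⟩⟩))
      (primOk_list (by norm_num) [3] (by interval_cases n <;> decide +kernel) (by
        simp only [List.forall_mem_singleton]
        exact ⟨3, 1, 4, Nat.prime_three, by norm_num, bd_dim2 hD 3 Nat.prime_three, by norm_num, by norm_num⟩))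

end CfsgLib.OrbitStab
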