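import Cfsg.Agent.Lib.FgsC.OrbitStab.TriLemmas
import Cfsg.Agent.S0547

/-!
# Derived lengths of soluble transitive groups of small degree
-/

set_option autoImplicit false

universe u

namespace CfsgLib.OrbitStab

open MulAction
open scoped commutatorElement

/-- The derived length of soluble transitive groups of degree `m` is at most `s`. -/
def PermBd (m s : ℕ) : Prop :=
  ∀ (X : Type u) [Group X] [Finite X] (Ω : Type u) [Finite Ω] [MulAction X Ω] [IsPretransitive X Ω],
    Group.IsSolvable X → Nat.card Ω = m → Triv (⊤ : Subgroup X) s Ω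

section Fin4

open Equiv

/-- the Klein group in `S_4` -/
def klein : Subgroup (Perm (Fin 4)) where
  carrier := {x | Perm.sign x = 1 ∧ x * x = 1}
  one_mem' := by simp
  mul_mem' := by
    have h : ∀ a b : Perm (Fin 4), Perm.sign a = 1 ∧ a * a = 1 → Perm.sign b = 1 ∧ b * b = 1 →
        Perm.sign (a * b) = 1 ∧ a * b * (a * b) = 1 := by decide +kernel
    exact fun {a b} => h a b
  inv_mem' := by
    intro a ha
    rwa [inv_eq_of_mul_eq_one_right ha.2]

theorem commutator_even {n : ℕ} (a b : Perm (Fin n)) : Perm.sign ⁅a, b⁆ = 1 := by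
  rw [commutatorElement_def]
  simp [mul_comm, mul_left_comm]

theorem derived_le_even (n : ℕ) : derivedSeries (Perm (Fin n)) 1 ≤ (Perm.sign (α := Fin n)).ker := by
  rw [derivedSeries_one, commutator_eq_closure, Subgroup.closure_le]
  rintro _ ⟨a, b, rfl⟩
  exact commutator_even a b

theorem derived_perm_two : derivedSeries (Perm (Fin 2)) 1 = ⊥ := by
  rw [derivedSeries_one, commutator_eq_closure, eq_bot_iff, Subgroup.closure_le]
  rintro _ ⟨a, b, rfl⟩
  have h : ∀ a b : Perm (Fin 2), ⁅a, b⁆ = 1 := by decide +kernel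
  exact Subgroup.mem_bot.2 (h a b)

theorem derived_perm_three : derivedSeries (Perm (Fin 3)) 2 = ⊥ := by
  rw [derivedSeries_succ, eq_bot_iff, Subgroup.commutator_le]
  intro a ha b hb
  have h : ∀ a b : Perm (Fin 3), Perm.sign a = 1 → Perm.sign b = 1 → ⁅a, b⁆ = 1 := by decide +kernel
  exact Subgroup.mem_bot.2 (h a b (derived_le_even 3 ha) (derived_le_even 3 hb))

theorem derived_perm_four : derivedSeries (Perm (Fin 4)) 3 = ⊥ := by
  have h2 : derivedSeries (Perm (Fin 4)) 2 ≤ klein := by
    rw [derivedSeries_succ, Subgroup.commutator_le]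
    intro a ha b hb
    have h : ∀ a b : Perm (Fin 4), Perm.sign a = 1 → Perm.sign b = 1 →
        Perm.sign ⁅a, b⁆ = 1 ∧ ⁅a, b⁆ * ⁅a, b⁆ = 1 := by decide +kernel
    exact h a b (derived_le_even 4 ha) (derived_le_even 4 hb)
  rw [derivedSeries_succ, eq_bot_iff, Subgroup.commutator_le]
  intro a ha b hb
  have h : ∀ a b : Perm (Fin 4), (Perm.sign a = 1 ∧ a * a = 1) → (Perm.sign b = 1 ∧ b * b = 1) →
      ⁅a, b⁆ = 1 := by decide +kernel
  exact Subgroup.mem_bot.2 (h a b (h2 ha) (h2 hb))

end Fin4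

/-- Any group acting on `m` points, from the derived series of the symmetric group. -/
theorem triv_small {A : Type u} [Group A] {Ω : Type u} [Finite Ω] [MulAction A Ω] {m s : ℕ}
    (hm : Nat.card Ω = m) (hs : derivedSeries (Equiv.Perm (Fin m)) s = ⊥) :
    Triv (⊤ : Subgroup A) s Ω := by
  classical
  haveI := Fintype.ofFinite Ω
  let e : Ω ≃ Fin m := (Fintype.equivFin Ω).trans (finCongr (by rw [← hm, Nat.card_eq_fintype_card]))
  let f : A →* Equiv.Perm (Fin m) := e.permCongrHom.toMonoidHom.comp (MulAction.toPermHom A Ω)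
  intro g hg x
  rw [dser_top] at hg
  have h := map_derivedSeries_le_derivedSeries f s (Subgroup.mem_map_of_mem f hg)
  rw [hs, Subgroup.mem_bot] at h
  have h1 := congrArg (fun σ : Equiv.Perm (Fin m) => σ (e x)) h
  simp [f, Equiv.permCongr_apply] at h1
  exact h1

theorem permBd_two : PermBd.{u} 2 1 := fun _ _ _ _ _ _ _ _ hm => triv_small hm derived_perm_two

theorem permBd_three : PermBd.{u} 3 2 := fun _ _ _ _ _ _ _ _ hm => triv_small hm derived_perm_three

theorem permBd_four : PermBd.{u} 4 3 := fun _ _ _ _ _ _ _ _ hm => triv_small hm derived_perm_four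

/-- An abelian regular normal subgroup. -/
theorem exists_regular {X : Type u} [Group X] [Finite X] [Group.IsSolvable X] {Ω : Type u} [Finite Ω]
    [Nontrivial Ω] [MulAction X Ω] [FaithfulSMul X Ω] (hprim : IsPreprimitive X Ω) :
    ∃ M : Subgroup X, M.Normal ∧ (∀ a ∈ M, ∀ b ∈ M, a * b = b * a) ∧ IsPretransitive M Ω ∧
      (∀ ω : Ω, stabilizer M ω = ⊥) ∧ ∃ p d : ℕ, p.Prime ∧ Nat.card Ω = p ^ d ∧ Nat.card M = p ^ d := by
  haveI := hprim.toIsPretransitive
  haveI : Nontrivial X := by
    by_contra h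
    rw [not_nontrivial_iff_subsingleton] at h
    obtain ⟨a, b, hab⟩ := exists_pair_ne Ω
    obtain ⟨g, hg⟩ := exists_smul_eq X a b
    exact hab (by rw [← hg, Subsingleton.elim g 1, one_smul])
  obtain ⟨M, hMn, hM1, hMab, hMmin⟩ := CfsgLib.BaseTwo.exists_min_abelian (G := X) inferInstance
  haveI := hMn
  obtain ⟨htr, hst, p, d, hp, -, h1, h2⟩ := Cfsg.Agent.S0547.result hprim M hM1 hMmin
  exact ⟨M, hMn, hMab, htr, hst, p, d, hp, h1, h2⟩

/-- The image of the action on the points. -/
theorem triv_of_image {X : Type u} [Group X] [Finite X] {Ω : Type u} [Finite Ω] [MulAction X Ω]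
    [IsPretransitive X Ω] {s : ℕ} (hs : Group.IsSolvable X)
    (h : ∀ (Y : Type u) [Group Y] [Finite Y] [MulAction Y Ω] [FaithfulSMul Y Ω] [IsPretransitive Y Ω],
      Group.IsSolvable Y → Triv (⊤ : Subgroup Y) s Ω) : Triv (⊤ : Subgroup X) s Ω := by
  let π := MulAction.toPermHom X Ω
  haveI : IsPretransitive π.range Ω := ⟨fun a b => by
    obtain ⟨g, hg⟩ := exists_smul_eq X a b
    exact ⟨π.rangeRestrict g, hg⟩⟩
  refine Triv.top_comap π.rangeRestrict (fun _ _ => rfl) (h π.range ?_)
  haveI := hs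
  exact solvable_of_surjective π.rangeRestrict_surjective

theorem permBd_prime {p : ℕ} (hp : p.Prime) : PermBd.{u} p 2 := by
  intro X _ _ Ω _ _ _ hs hm
  refine triv_of_image hs fun Y _ _ _ _ _ hY => ?_
  haveI := hY
  haveI : Nontrivial Ω := Finite.one_lt_card_iff_nontrivial.1 (hm.symm ▸ hp.one_lt)
  haveI : IsPreprimitive Y Ω := IsPreprimitive.of_prime_card (hm.symm ▸ hp)
  obtain ⟨M, hMn, hMab, htr, hst, r, d, hr, h1, h2⟩ := exists_regular (X := Y) (Ω := Ω) inferInstance
  haveI := htr
  have hMp : Nat.card M = p := by rw [h2, ← h1, hm]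
  haveI : Fact p.Prime := ⟨hp⟩
  haveI : IsCyclic M := isCyclic_of_prime_card hMp
  obtain ⟨m, hm'⟩ := IsCyclic.exists_generator (α := M)
  -- the derived group centralises `M`
  have hcent : derivedSeries Y 1 ≤ Subgroup.centralizer (M : Set Y) := by
    rw [derivedSeries_one, commutator_eq_closure, Subgroup.closure_le]
    rintro _ ⟨a, b, rfl⟩
    refine Subgroup.mem_centralizer_iff.2 fun x hx => ?_
    have hpow : ∀ c : Y, ∃ i : ℤ, ∀ z ∈ M, c * z * c⁻¹ = z ^ i := fun c => by
      obtain ⟨i, hi⟩ := Subgroup.mem_zpowers_iff.1 (hm' ⟨c * m * c⁻¹, hMn.conj_mem _ m.2 c⟩)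
      refine ⟨i, fun z hz => ?_⟩
      obtain ⟨j, hj⟩ := Subgroup.mem_zpowers_iff.1 (hm' ⟨z, hz⟩)
      have hj' : (m : Y) ^ j = z := congrArg Subtype.val hj
      have hi' : (m : Y) ^ i = c * m * c⁻¹ := congrArg Subtype.val hi
      rw [← hj', ← conj_zpow, ← hi', ← zpow_mul, ← zpow_mul, mul_comm]
    obtain ⟨i, hi⟩ := hpow a
    obtain ⟨j, hj⟩ := hpow b
    set y := (a * b)⁻¹ * x * (a * b) with hy
    have hyM : y ∈ M := by
      have h3 := hMn.conj_mem x hx (a * b)⁻¹
      rwa [inv_inv] at h3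
    have e1 : a * b * y * (a * b)⁻¹ = x := by rw [hy]; group
    have e2 : b * a * y * (b * a)⁻¹ = x := by
      conv_rhs => rw [← e1]
      calc b * a * y * (b * a)⁻¹ = b * (a * y * a⁻¹) * b⁻¹ := by group
        _ = (y ^ i) ^ j := by rw [hi y hyM, hj _ (M.zpow_mem hyM _)]
        _ = (y ^ j) ^ i := by rw [← zpow_mul, ← zpow_mul, mul_comm]
        _ = a * (b * y * b⁻¹) * a⁻¹ := by rw [hj y hyM, hi _ (M.zpow_mem hyM _)]
        _ = a * b * y * (a * b)⁻¹ := by group
    show x * ⁅a, b⁆ = ⁅a, b⁆ * x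
    rw [commutatorElement_def]
    calc x * (a * b * a⁻¹ * b⁻¹) = a * b * y * (a * b)⁻¹ * (a * b * a⁻¹ * b⁻¹) := by rw [e1]
      _ = a * b * a⁻¹ * b⁻¹ * (b * a * y * (b * a)⁻¹) := by group
      _ = _ := by rw [e2]
  obtain ⟨ω⟩ := (inferInstance : Nonempty Ω)
  have hCM : Subgroup.centralizer (M : Set Y) ≤ M := fun c hc => by
    obtain ⟨n, hn⟩ := exists_smul_eq M ω (c • ω)
    suffices h3 : c = n from h3 ▸ n.2
    refine FaithfulSMul.eq_of_smul_eq_smul (α := Ω) fun x => ?_
    obtain ⟨k, rfl⟩ := exists_smul_eq M ω x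
    show c • (k : Y) • ω = (n : Y) • (k : Y) • ω
    have hn' : (n : Y) • ω = c • ω := hn
    calc c • (k : Y) • ω = (k : Y) • c • ω := by
          rw [← mul_smul, ← Subgroup.mem_centralizer_iff.1 hc k k.2, mul_smul]
      _ = (k : Y) • (n : Y) • ω := by rw [hn']
      _ = (n : Y) • (k : Y) • ω := by rw [← mul_smul, hMab k k.2 n n.2, mul_smul]
  intro g hg x
  rw [dser_top, derivedSeries_succ] at hg
  have hle : ⁅derivedSeries Y 1, derivedSeries Y 1⁆ ≤ ⊥ := Subgroup.commutator_le.2 fun a ha b hb =>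
    Subgroup.mem_bot.2 (commutatorElement_eq_one_iff_mul_comm.2
      (hMab a (hCM (hcent ha)) b (hCM (hcent hb))))
  rw [Subgroup.mem_bot.1 (hle hg), one_smul]

/-- Degree six. -/
theorem permBd_six : PermBd.{u} 6 4 := by
  intro X _ _ Ω _ _ _ hs hm
  refine triv_of_image hs fun Y _ _ _ _ _ hY => ?_
  haveI := hY
  haveI : Nontrivial Ω := Finite.one_lt_card_iff_nontrivial.1 (by omega)
  obtain ⟨ω⟩ := (inferInstance : Nonempty Ω)
  by_cases hmax : IsCoatom (stabilizer Y ω)
  · exfalso
    obtain ⟨M, -, -, -, -, r, d, hr, h1, -⟩ :=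
      exists_regular (X := Y) (Ω := Ω) ((isCoatom_stabilizer_iff_preprimitive Y ω).1 hmax)
    rw [hm] at h1
    rcases Nat.eq_zero_or_pos d with rfl | hd
    · simp at h1
    · have h2 : r ∣ 6 := h1 ▸ dvd_pow_self r hd.ne'
      have h3 : r ≤ 6 := Nat.le_of_dvd (by norm_num) h2
      have h4 : d < 3 := by
        by_contra hd3
        have := Nat.pow_le_pow_right hr.pos (Nat.le_of_not_lt hd3)
        have := Nat.pow_le_pow_left hr.two_le 3
        omega
      interval_cases d <;> interval_cases r <;> first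
        | omega
        | (norm_num at hr)
        | (norm_num at h1)
  · set S := stabilizer Y ω with hS
    have hidx : S.index = 6 := by rw [hS, index_stabilizer_of_transitive, hm]
    have hne : S ≠ ⊤ := fun h => by rw [h, Subgroup.index_top] at hidx; omega
    obtain ⟨H, hSH, hHt⟩ : ∃ H, S < H ∧ H ≠ ⊤ := by
      by_contra hno
      push Not at hno
      exact hmax ⟨hne, fun b hb => hno b hb⟩
    have hmul := Subgroup.relIndex_mul_index hSH.le
    rw [hidx] at hmul
    have h1 : S.relIndex H ≠ 1 := fun h => hSH.not_ge (Subgroup.relIndex_eq_one.1 h)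
    have h2 : H.index ≠ 1 := fun h => hHt (Subgroup.index_eq_one.1 h)
    -- the blocks
    let f : Ω → Y ⧸ H := fun x => QuotientGroup.mk (exists_smul_eq Y ω x).choose
    have hf : ∀ x : Ω, ∀ y : Y, y • ω = x → f x = QuotientGroup.mk y := fun x y hy => by
      refine QuotientGroup.eq.2 (hSH.le ?_)
      rw [hS, mem_stabilizer_iff, mul_smul, hy, inv_smul_eq_iff, (exists_smul_eq Y ω x).choose_spec]
    have hfequiv : ∀ (a : Y) (x : Ω), f (a • x) = a • f x := fun a x => by
      obtain ⟨y, hy⟩ := exists_smul_eq Y ω x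
      rw [hf (a • x) (a * y) (by rw [mul_smul, hy]), hf x y hy, MulAction.Quotient.smul_mk]
      rfl
    have hfib : ∀ c : Y ⧸ H, Nat.card {x : Ω // f x = c} = S.relIndex H := by
      have hall : ∀ c : Y ⧸ H, Nat.card {x : Ω // f x = c} =
          Nat.card {x : Ω // f x = QuotientGroup.mk 1} := fun c => by
        obtain ⟨y, rfl⟩ := QuotientGroup.mk_surjective c
        refine Nat.card_congr
          { toFun := fun x => ⟨y⁻¹ • x.1, by
              rw [hfequiv, x.2, MulAction.Quotient.smul_mk, smul_eq_mul, inv_mul_cancel]⟩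
            invFun := fun x => ⟨y • x.1, by rw [hfequiv, x.2, MulAction.Quotient.smul_mk, smul_eq_mul, mul_one]⟩
            left_inv := fun x => Subtype.ext (smul_inv_smul y x.1)
            right_inv := fun x => Subtype.ext (inv_smul_smul y x.1) }
      have htot : Nat.card Ω = Nat.card (Y ⧸ H) * Nat.card {x : Ω // f x = QuotientGroup.mk 1} := by
        haveI := Fintype.ofFinite (Y ⧸ H)
        haveI : ∀ c : Y ⧸ H, Fintype {x : Ω // f x = c} := fun c => Fintype.ofFinite _
        rw [← Nat.card_congr (Equiv.sigmaFiberEquiv f), Nat.card_sigma,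
          Finset.sum_congr rfl (fun c _ => hall c), Finset.sum_const, smul_eq_mul, Finset.card_univ]
        simp only [Nat.card_eq_fintype_card]
      intro c
      rw [hall c]
      rw [hm, ← Subgroup.index_eq_card, ← hmul, mul_comm] at htot
      exact (Nat.eq_of_mul_eq_mul_left (Nat.pos_of_ne_zero Subgroup.index_ne_zero_of_finite) htot).symm
    have hcases : H.index ≤ 3 ∧ S.relIndex H ≤ 3 := by
      have h3 : H.index ∣ 6 := Dvd.intro_left _ hmul
      have := Nat.le_of_dvd (by norm_num) h3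
      interval_cases hi : H.index <;> omega
    have htop : Triv (⊤ : Subgroup Y) 2 (Y ⧸ H) := by
      have hc : Nat.card (Y ⧸ H) = H.index := (Subgroup.index_eq_card H).symm
      have h4 : 2 ≤ H.index := by have := @Subgroup.index_ne_zero_of_finite Y _ H _; omega
      rcases (show H.index = 2 ∨ H.index = 3 by omega) with h5 | h5
      · exact (triv_small (hc.trans h5) derived_perm_two).mono (by norm_num)
      · exact triv_small (hc.trans h5) derived_perm_three
    set K := dser (⊤ : Subgroup Y) 2 with hK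
    refine triv_dser (i := 2) (k := 2) fun g hg x => ?_
    have hinv : ∀ a ∈ K, ∀ z : Ω, f z = f x → f (a • z) = f x := fun a ha z hz => by
      rw [hfequiv, htop a ha, hz]
    letI : MulAction K {z : Ω // f z = f x} :=
      { smul := fun a z => ⟨(a : Y) • z.1, hinv a a.2 z.1 z.2⟩
        one_smul := fun z => Subtype.ext (one_smul Y z.1)
        mul_smul := fun a b z => Subtype.ext (mul_smul (a : Y) (b : Y) z.1) }
    have hK2 : Triv (⊤ : Subgroup K) 2 {z : Ω // f z = f x} := by
      have h4 : 2 ≤ S.relIndex H := by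
        have := @Subgroup.index_ne_zero_of_finite Y _ H _
        rcases Nat.eq_zero_or_pos (S.relIndex H) with h6 | h6
        · rw [h6, zero_mul] at hmul; omega
        · omega
      rcases (show S.relIndex H = 2 ∨ S.relIndex H = 3 by omega) with h5 | h5
      · exact (triv_small ((hfib _).trans h5) derived_perm_two).mono (by norm_num)
      · exact triv_small ((hfib _).trans h5) derived_perm_three
    obtain ⟨y, hy, rfl⟩ := hg
    exact congrArg Subtype.val (hK2 y (by rw [dser_top]; exact hy) ⟨x, rfl⟩)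

end CfsgLib.OrbitStab
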