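import Cfsg.Agent.Lib.FgsC.OrbitStab.TablesPerm
import Cfsg.Agent.Lib.FgsC.ClassBound.Imprimitive

/-!
# The step of the tables: reducible, imprimitive and primitive modules
-/

set_option autoImplicit false

universe u

namespace CfsgLib.OrbitStab

open MulAction CfsgLib.BaseTwo CfsgLib.ClassBound
open scoped commutatorElement

/-- What is asked of the imprimitive decompositions. -/
def ImpOk (l n k : ℕ) : Prop :=
  ∀ m d : ℕ, 2 ≤ m → 0 < d → n = m * d → ¬ (l = 2 ∧ d = 1) →
    ∃ s t, PermBd.{u} m s ∧ Bd.{u} l d t ∧ s + t ≤ k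

/-- What is asked of the primitive data. -/
def PrimOk (l n k : ℕ) : Prop :=
  ∀ f n' e : ℕ, n = f * n' → 0 < f → 0 < e → e ≤ n' →
    (∀ r : ℕ, r.Prime → r ∣ e → r ∣ l ^ f - 1 ∧ r ∣ n') →
    (e = 1 ∧ 2 ≤ k) ∨ ∃ r j i, r.Prime ∧ e = r ^ j ∧ Bd.{u} r (2 * j) i ∧ 1 ≤ i ∧ i + 2 ≤ k

section

variable {A : Type u} [Group A] [Finite A] {V : Type u} [AddCommGroup V] [Finite V]
  [DistribMulAction A V]

/-- A system of imprimitivity. -/
theorem triv_components {Ω : Type u} [Fintype Ω] [MulAction A Ω] [IsPretransitive A Ω]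
    (hs : Group.IsSolvable A) {F : Ω → V →+ V} {c₀ : Ω} {g : Ω → A} (H : Comp F c₀ g)
    (hirr : Irred A V) {l d m s t : ℕ} (hm : Nat.card Ω = m) (hd : Nat.card (F c₀).range = l ^ d)
    (hperm : PermBd.{u} m s) (hb : Bd.{u} l d t) : Triv (⊤ : Subgroup A) (s + t) V := by
  classical
  haveI := hs
  let N := stabilizer A c₀
  letI : DistribMulAction N (F c₀).range :=
    { smul := fun n u => ⟨(n : A) • (u : V), H.stab_smul (mem_stabilizer_iff.1 n.2) u.2⟩
      one_smul := fun u => Subtype.ext (one_smul A (u : V))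
      mul_smul := fun n k u => Subtype.ext (mul_smul (n : A) (k : A) (u : V))
      smul_zero := fun n => Subtype.ext (smul_zero (n : A))
      smul_add := fun n u w => Subtype.ext (smul_add (n : A) (u : V) (w : V)) }
  have hirrN : Irred N (F c₀).range := irred_of_components H hirr N
    fun x hx u => ⟨⟨x, mem_stabilizer_iff.2 hx⟩, rfl⟩
  have hN := hb N (F c₀).range inferInstance hd (Irred.semisimple hirrN)
  have hS : Triv (⊤ : Subgroup A) s Ω := hperm A Ω hs hm
  set K := dser (⊤ : Subgroup A) s with hK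
  have hKN : K ≤ N := fun x hx => mem_stabilizer_iff.2 (hS x hx c₀)
  intro x hx v
  rw [H.sum v, Finset.smul_sum]
  refine Finset.sum_congr rfl fun c _ => ?_
  set y := (g c)⁻¹ * x * g c with hy
  have hym : y ∈ dser N t := by
    refine dser_mono' hKN t ?_
    rw [hK, dser_dser]
    have := (normal_dser_top (A := A) (s + t)).conj_mem x hx (g c)⁻¹
    rwa [inv_inv] at this
  obtain ⟨y', hy', hy''⟩ := hym
  have h1 : y' • (⟨_, H.back_mem c v⟩ : (F c₀).range) = ⟨_, H.back_mem c v⟩ :=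
    hN y' (by rw [dser_top]; exact hy') _
  have h2 : y • (g c)⁻¹ • F c v = (g c)⁻¹ • F c v := by
    rw [← hy'']
    exact congrArg Subtype.val h1
  rw [hy, mul_smul, mul_smul, smul_inv_smul] at h2
  exact (smul_left_cancel_iff _).1 h2

/-- The components of an irreducible module have at least three elements. -/
theorem card_component_ne_two [Nontrivial V] {Ω : Type u} [Fintype Ω] [MulAction A Ω] [Nontrivial Ω]
    {F : Ω → V →+ V} {c₀ : Ω} {g : Ω → A} (H : Comp F c₀ g) (hirr : Irred A V) :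
    Nat.card (F c₀).range ≠ 2 := by
  classical
  intro h2
  obtain ⟨f0, h0, hu⟩ : ∃ f0 : (F c₀).range, f0 ≠ 0 ∧ ∀ w : (F c₀).range, w ≠ 0 → w = f0 := by
    obtain ⟨y, hy, hu⟩ := (Nat.card_eq_two_iff' (0 : (F c₀).range)).1 h2
    exact ⟨y, hy, hu⟩
  set s := ∑ d ∈ (Finset.univ : Finset Ω), g d • (f0 : V) with hs
  have hsfix : ∀ a : A, a • s = s := fun a => by
    rw [hs, Finset.smul_sum]
    refine Finset.sum_equiv (MulAction.toPerm a) (fun _ => by simp) fun c _ => ?_
    show a • g c • (f0 : V) = g (a • c) • (f0 : V)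
    have hst : ((g (a • c))⁻¹ * a * g c) • c₀ = c₀ := by
      rw [mul_smul, mul_smul, H.rep, inv_smul_eq_iff, H.rep]
    have h3 := congrArg Subtype.val (hu ⟨_, H.stab_smul hst f0.2⟩ fun e => h0 (Subtype.ext (by
      have e' : ((g (a • c))⁻¹ * a * g c) • (f0 : V) = 0 := congrArg Subtype.val e
      exact (smul_eq_zero_iff_eq _).1 e')))
    simp only [mul_smul] at h3
    exact (eq_inv_smul_iff.1 h3.symm).symm
  have hFs : F c₀ s = g c₀ • (f0 : V) := by
    rw [hs, H.apply_sum (fun _ => f0) _ c₀, if_pos (Finset.mem_univ _)]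
  have hs0 : s ≠ 0 := fun h => h0 (Subtype.ext ((smul_eq_zero_iff_eq (g c₀)).1 (by rw [← hFs, h, map_zero])))
  have hU : AddSubgroup.zmultiples s = ⊤ := (hirr _ fun a v hv => by
    obtain ⟨i, rfl⟩ := AddSubgroup.mem_zmultiples_iff.1 hv
    rw [smul_comm, hsfix]
    exact AddSubgroup.mem_zmultiples_iff.2 ⟨i, rfl⟩).resolve_left fun h => hs0 (by
      have := AddSubgroup.mem_zmultiples s
      rwa [h, AddSubgroup.mem_bot] at this)
  obtain ⟨c, hc⟩ := exists_ne c₀
  obtain ⟨i, hi⟩ := AddSubgroup.mem_zmultiples_iff.1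
    (hU.symm ▸ AddSubgroup.mem_top (g c₀ • (f0 : V)) : g c₀ • (f0 : V) ∈ AddSubgroup.zmultiples s)
  have h4 : i • (g c₀ • (f0 : V)) = g c₀ • (f0 : V) := by
    rw [← hFs, ← map_zsmul, hi, hFs, H.apply_rep_eq f0.2]
  have h5 : i • (g c • (f0 : V)) = 0 := by
    have h6 : F c s = g c • (f0 : V) := by rw [hs, H.apply_sum (fun _ => f0) _ c, if_pos (Finset.mem_univ _)]
    rw [← h6, ← map_zsmul, hi, H.apply_rep_ne f0.2 hc]
  rw [smul_comm, smul_eq_zero_iff_eq] at h5
  rw [smul_comm, h5, smul_zero] at h4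
  exact h0 (Subtype.ext ((smul_eq_zero_iff_eq _).1 h4.symm))

/-- An irreducible module which is not primitive. -/
theorem triv_imprim [Nontrivial V] (hs : Group.IsSolvable A) (hirr : Irred A V) {l n k : ℕ}
    (hl : l.Prime) (hcard : Nat.card V = l ^ n) (hnp : ¬ Prim A V) (himp : ImpOk.{u} l n k) :
    Triv (⊤ : Subgroup A) k V := by
  classical
  obtain ⟨R, hc, hn, hx⟩ : ∃ R : Subring (AddMonoid.End V), (∀ x ∈ R, ∀ y ∈ R, x * y = y * x) ∧
      (∀ a : A, ∀ x ∈ R, cjEnd a x ∈ R) ∧ ¬ ∀ x ∈ R, x ≠ 0 → ∃ y ∈ R, x * y = 1 := by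
    by_contra hno
    exact hnp ⟨hirr, fun R h1 h2 => by
      by_contra h3
      exact hno ⟨R, h1, h2, h3⟩⟩
  obtain ⟨E, instF, instN, instA, e, he, -, hconj, hid, horth, hsum, hne⟩ :=
    (field_or_decomp hirr R hc hn).resolve_left hx
  have hequiv : ∀ (x : A) i v, x • e i v = e (x • i) (x • v) := fun x i v => by
    rw [hconj, cjEnd_apply, inv_smul_smul]
  obtain ⟨i₀⟩ := (inferInstance : Nonempty E)
  have htr : ∀ j : E, ∃ x : A, x • i₀ = j := by
    let U : AddSubgroup V :=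
      { carrier := {v | ∀ j, (¬ ∃ x : A, x • i₀ = j) → e j v = 0}
        zero_mem' := fun j _ => map_zero (e j)
        add_mem' := fun {v w} hv hw j hj => by rw [map_add, hv j hj, hw j hj, add_zero]
        neg_mem' := fun {v} hv j hj => by rw [map_neg, hv j hj, neg_zero] }
    have hU : ∀ a : A, ∀ v ∈ U, a • v ∈ U := by
      intro a v hv j hj
      have h1 := hequiv a (a⁻¹ • j) v
      rw [smul_inv_smul] at h1
      rw [← h1, hv _ fun ⟨x, hx'⟩ => hj ⟨a * x, by rw [mul_smul, hx', smul_inv_smul]⟩, smul_zero]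
    obtain ⟨v, hv⟩ := hne i₀
    have hvU : e i₀ v ∈ U := fun j hj => horth j i₀ (fun h => hj ⟨1, by rw [one_smul, h]⟩) v
    rcases hirr U hU with h | h
    · rw [h, AddSubgroup.mem_bot] at hvU
      exact absurd hvU hv
    · intro j
      by_contra hj
      obtain ⟨w, hw⟩ := hne j
      exact hw ((h.symm ▸ AddSubgroup.mem_top w : w ∈ U) j hj)
  haveI : IsPretransitive A E := ⟨fun a b => by
    obtain ⟨x, hx'⟩ := htr a
    obtain ⟨y, hy⟩ := htr b
    exact ⟨y * x⁻¹, by rw [mul_smul, ← hx', inv_smul_smul, hy]⟩⟩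
  choose g hg using htr
  have H : Comp (fun i => (e i : V →+ V)) i₀ g := ⟨hid, horth, hsum, hequiv, hg⟩
  haveI : Fact l.Prime := ⟨hl⟩
  set W := ((e i₀ : V →+ V)).range with hW
  obtain ⟨d, -, hd⟩ := (Nat.dvd_prime_pow hl).1 (hcard ▸ AddSubgroup.card_addSubgroup_dvd_card W)
  have hd0 : 0 < d := Nat.pos_of_ne_zero fun h => by
    obtain ⟨v, hv⟩ := hne i₀
    rw [h, pow_zero] at hd
    haveI : Subsingleton W := (Nat.card_eq_one_iff_unique.1 hd).1
    exact hv (congrArg Subtype.val (Subsingleton.elim (⟨_, v, rfl⟩ : W) 0))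
  have hm2 : 2 ≤ Nat.card E := Finite.one_lt_card
  have hnmd : n = Nat.card E * d := by
    have h : Nat.card V = Nat.card W ^ Nat.card E := H.card_eq
    rw [hcard, hd, ← pow_mul] at h
    rw [Nat.pow_right_injective hl.two_le h, mul_comm]
  obtain ⟨s, t, hp, hb, hst⟩ := himp (Nat.card E) d hm2 hd0 hnmd fun h => by
    refine card_component_ne_two H hirr ?_
    show Nat.card W = 2
    rw [hd, h.1, h.2, pow_one]
  exact (triv_components hs H hirr rfl hd hp hb).mono hst

variable [FaithfulSMul A V] [Nontrivial V]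

/-- The derived length two when `N = A`. -/
theorem triv_of_e_one (D : Data A V) (he : D.e = 1) : Triv (⊤ : Subgroup A) 2 V := by
  have hsub : Subsingleton (Additive D.S.Q) := by
    have h := D.cardQ
    rw [he, one_pow] at h
    exact (Nat.card_eq_one_iff_unique.1 h).1
  have hCN : D.S.C ≤ D.S.N := fun x hx =>
    D.kerQ ▸ Subgroup.mem_inf.2 ⟨hx, D.S.fixed_iff.1 fun m => Subsingleton.elim _ _⟩
  have hNA : D.S.N ≤ D.S.A := Subgroup.relIndex_eq_one.1 (by rw [D.sq, he, one_pow])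
  have h1 : dser (⊤ : Subgroup A) 1 ≤ D.S.A := by
    rw [show dser (⊤ : Subgroup A) 1 = ⁅dser (⊤ : Subgroup A) 0, dser (⊤ : Subgroup A) 0⁆ from dser_succ' _ 0]
    exact Subgroup.commutator_le.2 fun a _ b _ => hNA (hCN (D.gal a b))
  exact triv_dser (i := 1) (k := 1) (triv_one_of_comm fun a ha b hb x => by
    rw [← mul_smul, ← mul_smul, D.S.comm_A (h1 ha) (D.S.A_le_C (h1 hb))])

/-- A primitive module. -/
theorem triv_prim (hs : Group.IsSolvable A) {l n k : ℕ} (hl : l.Prime) (hcard : Nat.card V = l ^ n)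
    (D : Data A V) (hprim : PrimOk.{u} l n k) : Triv (⊤ : Subgroup A) k V := by
  obtain ⟨p, f, hp, hf, hq⟩ := (isPrimePow_nat_iff _).1 D.qpp
  have hV := D.cardV
  rw [hcard, ← hq, ← pow_mul] at hV
  have hfn : 0 < f * D.n := Nat.mul_pos hf (D.he.trans_le D.hne)
  obtain rfl : p = l := (Nat.prime_dvd_prime_iff_eq hp hl).1
    (hp.dvd_of_dvd_pow (hV ▸ dvd_pow_self p hfn.ne'))
  have hn : n = f * D.n := Nat.pow_right_injective hl.two_le hV
  rcases hprim f D.n D.e hn hf D.he D.hne (fun r hr hre => ⟨by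
      rw [hq]; exact (D.prime_dvd r hr hre).1.trans D.cardA, (D.prime_dvd r hr hre).2⟩) with
    ⟨he, hk⟩ | ⟨r, j, i, hr, he, hb, hi, hik⟩
  · exact (triv_of_e_one D he).mono hk
  · refine (D.dl_all i hi ?_).mono hik
    exact hb A (Additive D.S.Q) hs (by rw [D.cardQ, he, ← pow_mul, mul_comm]) D.ssQ

end

/-- The faithful image. -/
theorem exists_image {A : Type u} [Group A] [Finite A] (V : Type u) [AddCommGroup V] [Finite V]
    [DistribMulAction A V] (hs : Group.IsSolvable A) :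
    ∃ (G : Type u) (_ : Group G) (_ : Finite G) (_ : DistribMulAction G V) (_ : FaithfulSMul G V)
      (f : A →* G), Function.Surjective f ∧ (∀ (a : A) (v : V), f a • v = a • v) ∧ Group.IsSolvable G := by
  let φ : A →* (AddMonoid.End V)ˣ := (rho : A →* AddMonoid.End V).toHomUnits
  haveI : Finite (AddMonoid.End V) :=
    Finite.of_injective (fun g : AddMonoid.End V => (g : V → V)) DFunLike.coe_injective
  haveI := hs
  exact ⟨φ.range, inferInstance, inferInstance, inferInstance,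
    ⟨fun {x y} h => Subtype.ext (Units.ext (DFunLike.ext _ _ h))⟩, φ.rangeRestrict,
    φ.rangeRestrict_surjective, fun _ _ => rfl, solvable_of_surjective φ.rangeRestrict_surjective⟩

/-- An irreducible module. -/
theorem triv_irred (hD : StmtData.{u}) {A : Type u} [Group A] [Finite A] {V : Type u}
    [AddCommGroup V] [Finite V] [Nontrivial V] [DistribMulAction A V] (hs : Group.IsSolvable A)
    (hirr : Irred A V) {l n k : ℕ} (hl : l.Prime) (hcard : Nat.card V = l ^ n)
    (himp : ImpOk.{u} l n k) (hprim : PrimOk.{u} l n k) : Triv (⊤ : Subgroup A) k V := by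
  obtain ⟨G, iG, iF, iD, iS, f, hf, hfa, hGs⟩ := exists_image V hs
  refine Triv.top_comap f hfa ?_
  have hGirr : Irred G V := fun U hU => hirr U fun a v hv => by rw [← hfa]; exact hU (f a) v hv
  by_cases hp : Prim G V
  · obtain ⟨D⟩ := hD G V hGs hp
    exact triv_prim hGs hl hcard D hprim
  · exact triv_imprim hGs hGirr hl hcard hp himp

/-- A step of the tables. -/
theorem bd_step (hD : StmtData.{u}) {l n k : ℕ} (hl : l.Prime)
    (hred : ∀ a, 0 < a → a < n → Bd.{u} l a k) (himp : ImpOk.{u} l n k) (hprim : PrimOk.{u} l n k) :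
    Bd.{u} l n k := by
  intro A _ _ V _ _ _ hs hcard hss
  by_cases hn : n = 0
  · rw [hn, pow_zero] at hcard
    haveI : Subsingleton V := (Nat.card_eq_one_iff_unique.1 hcard).1
    exact fun g _ v => Subsingleton.elim _ _
  haveI : Nontrivial V := Finite.one_lt_card_iff_nontrivial.1 (by
    rw [hcard]; exact Nat.one_lt_pow hn hl.one_lt)
  by_cases hirr : Irred A V
  · exact triv_irred hD hs hirr hl hcard himp hprim
  rw [Irred] at hirr
  push Not at hirr
  obtain ⟨U, hU, hU0, hU1⟩ := hirr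
  obtain ⟨W, hW, hUW, hUW'⟩ := hss U hU
  have hpart : ∀ P : AddSubgroup V, P ≠ ⊥ → P ≠ ⊤ → (∀ a : A, ∀ v ∈ P, a • v ∈ P) →
      ∀ g ∈ dser (⊤ : Subgroup A) k, ∀ v ∈ P, g • v = v := by
    intro P hP0 hP1 hP g hg v hv
    letI := subModule P hP
    obtain ⟨a, han, ha⟩ := (Nat.dvd_prime_pow hl).1 (hcard ▸ AddSubgroup.card_addSubgroup_dvd_card P)
    have ha0 : 0 < a := Nat.pos_of_ne_zero fun h => hP0 (AddSubgroup.eq_bot_of_card_eq P (by rw [ha, h, pow_zero]))
    have han' : a < n := lt_of_le_of_ne han fun h => hP1 (AddSubgroup.eq_top_of_card_eq P (by rw [ha, h, hcard]))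
    exact congrArg Subtype.val (hred a ha0 han' A P hs ha (semisimple_subModule hss P hP) g hg ⟨v, hv⟩)
  intro g hg v
  obtain ⟨x, hx, y, hy, rfl⟩ := AddSubgroup.mem_sup.1 (hUW' ▸ AddSubgroup.mem_top v : v ∈ U ⊔ W)
  have hW0 : W ≠ ⊥ := fun h => hU1 (by rwa [h, sup_bot_eq] at hUW')
  have hW1 : W ≠ ⊤ := fun h => hU0 (by rwa [h, inf_top_eq] at hUW)
  rw [smul_add, hpart U hU0 hU1 hU g hg x hx, hpart W hW0 hW1 hW g hg y hy]

end CfsgLib.OrbitStab
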